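import Mathlib
import Cfsg.Agent.Lib.H20.Sun
import Cfsg.Agent.Lib.H20.Homo4

/-! Arithmetic core for Sylow 2-subgroups of type `PSU(3,4)` with an automiser of order three
(towards S3258). -/

set_option autoImplicit false
set_option linter.unusedSectionVars false
set_option linter.unusedVariables false

namespace H81.Pu4

open H20.Sun

theorem no_b {a b : ℤ} (ha : (64 : ℤ) ∣ a - 13) (hb : (64 : ℤ) ∣ b - 1)
    (h : (1 + a + b) * (a * b + 9 * b + a) = a * b) : False := by
  obtain ⟨s, hs⟩ := ha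
  obtain ⟨t, ht⟩ := hb
  have ha : a = 13 + 64 * s := by linarith
  have hb : b = 1 + 64 * t := by linarith
  rw [ha, hb] at h
  have h1 : 512 + 2048 * (2 * s + 11 * t + 2 * (2 * s ^ 2 + 38 * s * t + 22 * t ^ 2) +
      128 * (s ^ 2 * t + s * t ^ 2)) = 0 := by
    linear_combination h
  generalize (2 * s + 11 * t + 2 * (2 * s ^ 2 + 38 * s * t + 22 * t ^ 2) +
      128 * (s ^ 2 * t + s * t ^ 2)) = K at h1
  omega

theorem abd_cases {A B D : ℤ} (h : A + B + D = 8) (hi : A * A + B * B + 5 * (D * D) ≤ 33) :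
    (D = 0 ∧ A = 4 ∧ B = 4) ∨ (D = 1 ∧ A = 3 ∧ B = 4) ∨ (D = 1 ∧ A = 4 ∧ B = 3) := by
  have hA : A = 8 - B - D := by linarith
  have d1 : -3 < D := by nlinarith [mul_self_nonneg A, mul_self_nonneg B]
  have d2 : D < 3 := by nlinarith [mul_self_nonneg A, mul_self_nonneg B]
  have b1 : -6 < B := by nlinarith [mul_self_nonneg A, mul_self_nonneg D]
  have b2 : B < 6 := by nlinarith [mul_self_nonneg A, mul_self_nonneg D]
  subst hA
  clear h
  interval_cases D <;> interval_cases B <;> first | (exfalso; norm_num at hi; done) | norm_num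

variable {ι : Type*} [Fintype ι] [DecidableEq ι]

theorem Supp_innerQ {x : ι → ℤ} {a b c : ι} (h : Supp x a b c) (y : ι → ℚ) :
    ∑ i, (x i : ℚ) * y i = x a * y a + x b * y b + x c * y c := by
  obtain ⟨hab, hac, hbc, hs, hv⟩ := h
  have : ∑ i, (x i : ℚ) * y i = ∑ i ∈ ({a, b, c} : Finset ι), (x i : ℚ) * y i := by
    symm
    apply Finset.sum_subset (Finset.subset_univ _)
    intro i _ hi
    have h0 : x i = 0 := by
      by_contra h0
      exact hi (by simpa using (hs i).1 h0)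
    rw [h0]; simp
  rw [this, Finset.sum_insert (by simp [hab, hac]), Finset.sum_insert (by simp [hbc]),
    Finset.sum_singleton, add_assoc]

theorem core (o : ι) (u w : ι → ℤ) (v : Fin 5 → ι → ℤ)
    (hu : ∀ i, 0 < u i) (hu1 : u o = 1) (hw1 : w o = 1) (hv1 : ∀ j, v j o = 1)
    (hb : ∀ j i, (4 : ℤ) ∣ (∑ k, v k i) - v j i)
    (hd : ∀ i, (16 : ℤ) ∣ u i - w i)
    (hm : ∀ i, (64 : ℤ) ∣ u i + 3 * w i + 12 * ∑ k, v k i)
    (hvv : ∀ j k, ∑ i, v j i * v k i = if j = k then 16 else 0)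
    (hwv : ∀ j, ∑ i, w i * v j i = 0) (hww : ∑ i, w i * w i = 64)
    (huv : ∀ j, ∑ i, u i * v j i = 0)
    (hst : ∀ j, ∑ i, ((w i : ℚ) ^ 2 / (u i : ℚ)) * (v j i : ℚ) = 0) :
    ∃ i, i ≠ o ∧ u i = 1 := by
  classical
  choose b hb' using hb
  set S : ι → ℤ := fun i => ∑ k, v k i with hS
  have hbS : ∀ j i, S i - v j i = 4 * b j i := fun j i => hb' j i
  have hsumb : ∀ i, ∑ j, b j i = S i := by
    intro i
    have h1 : ∑ j, (S i - v j i) = ∑ j, 4 * b j i := Finset.sum_congr rfl fun j _ => hbS j i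
    rw [Finset.sum_sub_distrib, ← Finset.mul_sum, Finset.sum_const, Finset.card_univ,
      Fintype.card_fin] at h1
    have h2 : ∑ j, v j i = S i := rfl
    rw [h2] at h1
    simp only [nsmul_eq_mul] at h1
    push_cast at h1
    linarith
  have hSo : S o = 5 := by
    show ∑ k, v k o = 5
    rw [Finset.sum_congr rfl (fun k _ => hv1 k)]; simp
  have hbo : ∀ j, b j o = 1 := by
    intro j
    have := hbS j o
    rw [hSo, hv1] at this
    linarith
  choose m hm' using hm
  choose n hn' using hd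
  set d : ι → ℤ := fun i => 4 * m i - n i with hd
  have hdS : ∀ i, 4 * d i = 3 * S i + w i := by
    intro i
    have h1 : u i + 3 * w i + 12 * S i = 64 * m i := hm' i
    have h2 := hn' i
    show 4 * (4 * m i - n i) = _
    linarith
  have hdo : d o = 4 := by
    have := hdS o
    rw [hSo, hw1] at this
    linarith
  -- column sums
  have hSv : ∀ j, ∑ i, S i * v j i = 16 := by
    intro j
    have : ∑ i, S i * v j i = ∑ k, ∑ i, v k i * v j i := by
      rw [Finset.sum_comm]
      exact Finset.sum_congr rfl fun i _ => by rw [hS, Finset.sum_mul]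
    rw [this, Finset.sum_congr rfl (fun k _ => hvv k j)]
    simp
  have hSS : ∑ i, S i * S i = 80 := by
    have : ∑ i, S i * S i = ∑ k, ∑ i, S i * v k i := by
      rw [Finset.sum_comm]
      exact Finset.sum_congr rfl fun i _ => by rw [← Finset.mul_sum]
    rw [this, Finset.sum_congr rfl (fun k _ => hSv k)]
    simp
  have hwS : ∑ i, w i * S i = 0 := by
    have : ∑ i, w i * S i = ∑ k, ∑ i, w i * v k i := by
      rw [Finset.sum_comm]
      exact Finset.sum_congr rfl fun i _ => by rw [← Finset.mul_sum]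
    rw [this, Finset.sum_congr rfl (fun k _ => hwv k)]
    simp
  have huS : ∑ i, u i * S i = 0 := by
    have : ∑ i, u i * S i = ∑ k, ∑ i, u i * v k i := by
      rw [Finset.sum_comm]
      exact Finset.sum_congr rfl fun i _ => by rw [← Finset.mul_sum]
    rw [this, Finset.sum_congr rfl (fun k _ => huv k)]
    simp
  have hstS : ∑ i, ((w i : ℚ) ^ 2 / (u i : ℚ)) * (S i : ℚ) = 0 := by
    have : ∑ i, ((w i : ℚ) ^ 2 / (u i : ℚ)) * (S i : ℚ) =
        ∑ k, ∑ i, ((w i : ℚ) ^ 2 / (u i : ℚ)) * (v k i : ℚ) := by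
      rw [Finset.sum_comm]
      refine Finset.sum_congr rfl fun i _ => ?_
      rw [← Finset.mul_sum]
      congr 1
      rw [hS]; push_cast; rfl
    rw [this, Finset.sum_congr rfl (fun k _ => hst k)]
    simp
  -- gram
  have hbb : ∀ j k, ∑ i, b j i * b k i = if j = k then 4 else 3 := by
    intro j k
    have h1 : 16 * ∑ i, b j i * b k i = ∑ i, S i * S i - ∑ i, S i * v j i - ∑ i, S i * v k i +
        ∑ i, v j i * v k i := by
      rw [Finset.mul_sum, ← Finset.sum_sub_distrib, ← Finset.sum_sub_distrib,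
        ← Finset.sum_add_distrib]
      refine Finset.sum_congr rfl fun i _ => ?_
      have e1 := hbS j i
      have e2 := hbS k i
      calc 16 * (b j i * b k i) = (4 * b j i) * (4 * b k i) := by ring
        _ = (S i - v j i) * (S i - v k i) := by rw [e1, e2]
        _ = _ := by ring
    rw [hSS, hSv, hSv, hvv] at h1
    split_ifs at h1 ⊢ <;> linarith
  have hdb : ∀ j, ∑ i, b j i * d i = 12 := by
    intro j
    have h1 : 16 * ∑ i, b j i * d i = 3 * ∑ i, S i * S i + ∑ i, w i * S i - 3 * ∑ i, S i * v j i -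
        ∑ i, w i * v j i := by
      rw [Finset.mul_sum, Finset.mul_sum, Finset.mul_sum, ← Finset.sum_add_distrib,
        ← Finset.sum_sub_distrib, ← Finset.sum_sub_distrib]
      refine Finset.sum_congr rfl fun i _ => ?_
      have e1 := hbS j i
      have e2 := hdS i
      calc 16 * (b j i * d i) = (4 * b j i) * (4 * d i) := by ring
        _ = (S i - v j i) * (3 * S i + w i) := by rw [e1, e2]
        _ = _ := by ring
    rw [hSS, hSv, hwS, hwv] at h1
    linarith
  have hdd : ∑ i, d i * d i = 49 := by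
    have h1 : 16 * ∑ i, d i * d i = 9 * ∑ i, S i * S i + 6 * ∑ i, w i * S i + ∑ i, w i * w i := by
      rw [Finset.mul_sum, Finset.mul_sum, Finset.mul_sum, ← Finset.sum_add_distrib,
        ← Finset.sum_add_distrib]
      refine Finset.sum_congr rfl fun i _ => ?_
      have e2 := hdS i
      calc 16 * (d i * d i) = (4 * d i) * (4 * d i) := by ring
        _ = (3 * S i + w i) * (3 * S i + w i) := by rw [e2]
        _ = _ := by ring
    rw [hSS, hwS, hww] at h1
    linarith
  have hub : ∀ j, ∑ i, b j i * u i = 0 := by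
    intro j
    have h1 : 4 * ∑ i, b j i * u i = ∑ i, u i * S i - ∑ i, u i * v j i := by
      rw [Finset.mul_sum, ← Finset.sum_sub_distrib]
      refine Finset.sum_congr rfl fun i _ => ?_
      have e1 := hbS j i
      calc 4 * (b j i * u i) = (4 * b j i) * u i := by ring
        _ = (S i - v j i) * u i := by rw [e1]
        _ = _ := by ring
    rw [huS, huv] at h1
    linarith
  have hstb : ∀ j, ∑ i, (b j i : ℚ) * ((w i : ℚ) ^ 2 / (u i : ℚ)) = 0 := by
    intro j
    have h1 : 4 * ∑ i, (b j i : ℚ) * ((w i : ℚ) ^ 2 / (u i : ℚ)) =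
        ∑ i, ((w i : ℚ) ^ 2 / (u i : ℚ)) * (S i : ℚ) -
          ∑ i, ((w i : ℚ) ^ 2 / (u i : ℚ)) * (v j i : ℚ) := by
      rw [Finset.mul_sum, ← Finset.sum_sub_distrib]
      refine Finset.sum_congr rfl fun i _ => ?_
      have e1 : (S i : ℚ) - v j i = 4 * b j i := by exact_mod_cast hbS j i
      calc 4 * ((b j i : ℚ) * ((w i : ℚ) ^ 2 / (u i : ℚ))) =
          (4 * b j i) * ((w i : ℚ) ^ 2 / (u i : ℚ)) := by ring
        _ = ((S i : ℚ) - v j i) * ((w i : ℚ) ^ 2 / (u i : ℚ)) := by rw [e1]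
        _ = _ := by ring
    rw [hstS, hst] at h1
    linarith
  -- the sunflower
  let X : Fin 5 → {i // i ≠ o} → ℤ := fun j i => b j i.1
  have h3 : ∀ l, ∑ i, X l i ^ 2 = 3 := by
    intro l
    have h1 := hbb l l
    rw [if_pos rfl, Fintype.sum_eq_add_sum_subtype_ne _ o, hbo] at h1
    have h2 : ∑ i, X l i ^ 2 = ∑ i : {i // i ≠ o}, b l i.1 * b l i.1 :=
      Finset.sum_congr rfl fun i _ => by rw [pow_two]
    rw [h2]; linarith
  have h2' : ∀ l m, l ≠ m → ∑ i, X l i * X m i = 2 := by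
    intro l m hlm
    have h1 := hbb l m
    rw [if_neg hlm, Fintype.sum_eq_add_sum_subtype_ne _ o, hbo, hbo] at h1
    have h2 : ∑ i, X l i * X m i = ∑ i : {i // i ≠ o}, b l i.1 * b m i.1 := rfl
    rw [h2]; linarith
  have h2 : ∀ l m, X l ≠ X m → ∑ i, X l i * X m i = 2 := fun l m h =>
    h2' l m (fun e => h (by rw [e]))
  have hinj : ∀ l m, l ≠ m → X l ≠ X m := by
    intro l m hlm he
    have e1 := h2' l m hlm
    have e2 := h3 l
    rw [← he] at e1
    have : ∑ i, X l i * X l i = ∑ i, X l i ^ 2 := Finset.sum_congr rfl fun i _ => by rw [pow_two]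
    rw [this, e2] at e1
    norm_num at e1
  have h5 : ∀ l1 l2 l3 l4 : Fin 5, ∃ l, X l ≠ X l1 ∧ X l ≠ X l2 ∧ X l ≠ X l3 ∧ X l ≠ X l4 := by
    intro l1 l2 l3 l4
    obtain ⟨l, hl⟩ : ∃ l : Fin 5, l ∉ ({l1, l2, l3, l4} : Finset (Fin 5)) := by
      by_contra! hno
      have h6 : (Finset.univ : Finset (Fin 5)) ⊆ {l1, l2, l3, l4} := fun l _ => hno l
      have h7 := Finset.card_le_card h6
      have h8 := Finset.card_le_four (a := l1) (b := l2) (c := l3) (d := l4)
      rw [Finset.card_univ, Fintype.card_fin] at h7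
      omega
    simp only [Finset.mem_insert, Finset.mem_singleton, not_or] at hl
    exact ⟨l, hinj _ _ hl.1, hinj _ _ hl.2.1, hinj _ _ hl.2.2.1, hinj _ _ hl.2.2.2⟩
  obtain ⟨α, β, ea, eb, hab, hea, heb, hall⟩ := sunflower X h3 h2 h5
  choose hXa hXb hex using hall
  choose c hc using hex
  have he : ∀ j, X j (c j) = 1 ∨ X j (c j) = -1 := fun j =>
    (vals X h3 h2 j (c j)).resolve_left (hc j).val.2.2
  have hzero : ∀ j k, k ≠ j → X k (c j) = 0 := by
    intro j k hkj
    by_contra h0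
    rcases ((hc k).2.2.2.1 (c j)).1 h0 with e | e | e
    · exact (hc j).2.1 e.symm
    · exact (hc j).2.2.1 e.symm
    · have h4 := h2' k j hkj
      rw [(hc k).inner, hXa, hXb, hXa, hXb] at h4
      have h6 := he k
      have h7 := he j
      rw [e] at h7
      rcases hea with e1 | e1 <;> rcases heb with e2 | e2 <;> rw [e1, e2] at h4 <;>
        rcases h6 with h6 | h6 <;> rcases h7 with h7 | h7 <;> rw [h6, h7] at h4 <;> norm_num at h4
  have hcinj : Function.Injective c := by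
    intro j k hjk
    by_contra hne
    have h4 := hzero j k (Ne.symm hne)
    rw [hjk] at h4
    exact (hc k).val.2.2 h4
  -- values of S
  have hSa : S α.1 = 5 * ea := by
    rw [← hsumb]
    have : ∀ j, b j α.1 = ea := fun j => hXa j
    rw [Finset.sum_congr rfl (fun j _ => this j)]; simp
  have hSb : S β.1 = 5 * eb := by
    rw [← hsumb]
    have : ∀ j, b j β.1 = eb := fun j => hXb j
    rw [Finset.sum_congr rfl (fun j _ => this j)]; simp
  have hSc : ∀ j, S (c j).1 = X j (c j) := by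
    intro j
    rw [← hsumb, Finset.sum_eq_single j]
    · intro k _ hk; exact hzero j k hk
    · intro hn; exact absurd (Finset.mem_univ _) hn
  -- the relations
  have R1 : ∀ j, 8 = ea * d α.1 + eb * d β.1 + X j (c j) * d (c j).1 := by
    intro j
    have h4 := hdb j
    rw [Fintype.sum_eq_add_sum_subtype_ne _ o, hbo, hdo] at h4
    have h6 := (hc j).inner (fun i => d i.1)
    rw [hXa, hXb] at h6
    have h7 : ∑ i : {i // i ≠ o}, b j i.1 * d i.1 = ∑ i, X j i * d i.1 := rfl
    rw [h7, h6] at h4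
    linarith
  have R2 : ∀ j, 0 = 1 + ea * u α.1 + eb * u β.1 + X j (c j) * u (c j).1 := by
    intro j
    have h4 := hub j
    rw [Fintype.sum_eq_add_sum_subtype_ne _ o, hbo, hu1] at h4
    have h6 := (hc j).inner (fun i => u i.1)
    rw [hXa, hXb] at h6
    have h7 : ∑ i : {i // i ≠ o}, b j i.1 * u i.1 = ∑ i, X j i * u i.1 := rfl
    rw [h7, h6] at h4
    linarith
  have R3 : ∀ j, 0 = 1 + (ea : ℚ) * ((w α.1 : ℚ) ^ 2 / (u α.1 : ℚ)) +
      (eb : ℚ) * ((w β.1 : ℚ) ^ 2 / (u β.1 : ℚ)) +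
      (X j (c j) : ℚ) * ((w (c j).1 : ℚ) ^ 2 / (u (c j).1 : ℚ)) := by
    intro j
    have h4 := hstb j
    rw [Fintype.sum_eq_add_sum_subtype_ne _ o, hbo, hu1, hw1] at h4
    have h6 := Supp_innerQ (hc j) (fun i => (w i.1 : ℚ) ^ 2 / (u i.1 : ℚ))
    rw [hXa, hXb] at h6
    have h7 : ∑ i : {i // i ≠ o}, (b j i.1 : ℚ) * ((w i.1 : ℚ) ^ 2 / (u i.1 : ℚ)) =
      ∑ i, (X j i : ℚ) * ((w i.1 : ℚ) ^ 2 / (u i.1 : ℚ)) := rfl
    rw [h7, h6] at h4
    push_cast at h4
    linarith
  -- the inequality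
  have hineq : d α.1 * d α.1 + d β.1 * d β.1 + ∑ j, d (c j).1 * d (c j).1 ≤ 33 := by
    have h4 := hdd
    rw [Fintype.sum_eq_add_sum_subtype_ne _ o, hdo] at h4
    have h6 : ∑ i ∈ (insert α (insert β (Finset.univ.image c)) : Finset {i // i ≠ o}), d i.1 * d i.1 ≤
        ∑ i : {i // i ≠ o}, d i.1 * d i.1 :=
      Finset.sum_le_sum_of_subset_of_nonneg (Finset.subset_univ _) fun i _ _ => mul_self_nonneg _
    rw [Finset.sum_insert, Finset.sum_insert, Finset.sum_image (fun x _ y _ h => hcinj h)] at h6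
    · linarith
    · simp only [Finset.mem_image, Finset.mem_univ, true_and, not_exists]
      intro j hj
      exact (hc j).2.2.1 hj.symm
    · simp only [Finset.mem_insert, Finset.mem_image, Finset.mem_univ, true_and, not_or, not_exists]
      exact ⟨hab, fun j hj => (hc j).2.1 hj.symm⟩
  have hsq : ∀ {e : ℤ}, (e = 1 ∨ e = -1) → e * e = 1 := by
    rintro e (rfl | rfl) <;> norm_num
  set A := ea * d α.1 with hA
  set B := eb * d β.1 with hB
  set D := 8 - A - B with hD
  have hDj : ∀ j, X j (c j) * d (c j).1 = D := fun j => by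
    have := R1 j
    rw [hD]; linarith
  have hAA : d α.1 * d α.1 = A * A := by
    rw [hA]; linear_combination (-(d α.1 * d α.1)) * hsq hea
  have hBB : d β.1 * d β.1 = B * B := by
    rw [hB]; linear_combination (-(d β.1 * d β.1)) * hsq heb
  have hDD : ∀ j, d (c j).1 * d (c j).1 = D * D := by
    intro j
    rw [← hDj j]; linear_combination (-(d (c j).1 * d (c j).1)) * hsq (he j)
  rw [hAA, hBB, Finset.sum_congr rfl (fun j _ => hDD j), Finset.sum_const, Finset.card_univ,
    Fintype.card_fin] at hineq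
  have hineq' : A * A + B * B + 5 * (D * D) ≤ 33 := by
    simpa [nsmul_eq_mul] using hineq
  have hda : d α.1 = ea * A := by rw [hA]; linear_combination (-(d α.1)) * hsq hea
  have hdb' : d β.1 = eb * B := by rw [hB]; linear_combination (-(d β.1)) * hsq heb
  have hdc : ∀ j, d (c j).1 = X j (c j) * D := fun j => by
    rw [← hDj j]; linear_combination (-(d (c j).1)) * hsq (he j)
  have hwa : w α.1 = ea * (4 * A - 15) := by
    have := hdS α.1
    rw [hSa, hda] at this; linarith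
  have hwb : w β.1 = eb * (4 * B - 15) := by
    have := hdS β.1
    rw [hSb, hdb'] at this; linarith
  have hwc : ∀ j, w (c j).1 = X j (c j) * (4 * D - 3) := by
    intro j
    have := hdS (c j).1
    rw [hSc, hdc] at this; linarith
  -- congruences
  have hca : (64 : ℤ) ∣ ea * u α.1 + 12 * A + 15 := by
    have h4 : (64 : ℤ) ∣ u α.1 + 3 * w α.1 + 12 * S α.1 := ⟨m α.1, hm' α.1⟩
    rw [hwa, hSa] at h4
    have h6 : ea * u α.1 + 12 * A + 15 =
        ea * (u α.1 + 3 * (ea * (4 * A - 15)) + 12 * (5 * ea)) := by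
      linear_combination (-(12 * A - 45) - 60) * hsq hea
    rw [h6]; exact Dvd.dvd.mul_left h4 _
  have hcb : (64 : ℤ) ∣ eb * u β.1 + 12 * B + 15 := by
    have h4 : (64 : ℤ) ∣ u β.1 + 3 * w β.1 + 12 * S β.1 := ⟨m β.1, hm' β.1⟩
    rw [hwb, hSb] at h4
    have h6 : eb * u β.1 + 12 * B + 15 =
        eb * (u β.1 + 3 * (eb * (4 * B - 15)) + 12 * (5 * eb)) := by
      linear_combination (-(12 * B - 45) - 60) * hsq heb
    rw [h6]; exact Dvd.dvd.mul_left h4 _
  -- the degree equation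
  have huc := R2 0
  have hr3 := R3 0
  set U := ea * u α.1 with hU
  set V := eb * u β.1 with hV
  have hU0 : U ≠ 0 := by
    have := (hu α.1).ne'
    rcases hea with e | e <;> rw [hU, e] <;> simpa using this
  have hV0 : V ≠ 0 := by
    have := (hu β.1).ne'
    rcases heb with e | e <;> rw [hV, e] <;> simpa using this
  have hW0 : X 0 (c 0) * u (c 0).1 ≠ 0 := mul_ne_zero (hc 0).val.2.2 (hu _).ne'
  have hW : X 0 (c 0) * u (c 0).1 = -(1 + U + V) := by linarith
  have hinv : ∀ {e x y : ℤ}, (e = 1 ∨ e = -1) → x ≠ 0 →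
      (e : ℚ) * (((e * y : ℤ) : ℚ) ^ 2 / (x : ℚ)) = ((y : ℚ) ^ 2) / ((e * x : ℤ) : ℚ) := by
    rintro e x y (rfl | rfl) hx
    · push_cast; ring
    · have : (x : ℚ) ≠ 0 := by exact_mod_cast hx
      push_cast; field_simp
  rw [hwa, hwb, hwc 0, hinv hea (hu _).ne', hinv heb (hu _).ne', hinv (he 0) (hu _).ne', ← hU, ← hV,
    hW] at hr3
  have hW0' : 1 + U + V ≠ 0 := by
    intro h0
    rw [h0, neg_zero] at hW
    exact hW0 hW
  have hmain : (1 + U + V) * (U * V + (4 * A - 15) ^ 2 * V + (4 * B - 15) ^ 2 * U) =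
      (4 * D - 3) ^ 2 * (U * V) := by
    have q1 : (U : ℚ) ≠ 0 := by exact_mod_cast hU0
    have q2 : (V : ℚ) ≠ 0 := by exact_mod_cast hV0
    have q3 : (1 + U + V : ℚ) ≠ 0 := by exact_mod_cast hW0'
    have h4 : ((1 + U + V : ℚ)) * (U * V + (4 * A - 15) ^ 2 * V + (4 * B - 15) ^ 2 * U) =
      (4 * D - 3) ^ 2 * (U * V) := by
      push_cast at hr3
      rw [neg_eq_neg_one_mul] at hr3
      have q4 : (-1 * (1 + U + V) : ℚ) ≠ 0 := mul_ne_zero (by norm_num) q3
      have h6 : (4 * (A : ℚ) - 15) ^ 2 / U * U = (4 * (A : ℚ) - 15) ^ 2 := div_mul_cancel₀ _ q1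
      have h7 : (4 * (B : ℚ) - 15) ^ 2 / V * V = (4 * (B : ℚ) - 15) ^ 2 := div_mul_cancel₀ _ q2
      have h8 : (4 * (D : ℚ) - 3) ^ 2 / (-1 * (1 + U + V)) * (-1 * (1 + U + V)) =
        (4 * (D : ℚ) - 3) ^ 2 := div_mul_cancel₀ _ q4
      linear_combination (-(U * V * (1 + U + V) : ℚ)) * hr3 - (V * (1 + U + V) : ℚ) * h6 -
        (U * (1 + U + V) : ℚ) * h7 + (U * V : ℚ) * h8
    exact_mod_cast h4
  -- the cases
  rcases abd_cases (show A + B + D = 8 by rw [hD]; ring) hineq' with ⟨h0, hA4, hB4⟩ | ⟨h0, hA4, hB4⟩ | ⟨h0, hA4, hB4⟩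
  · rw [hA4] at hca
    rw [hB4] at hcb
    rw [hA4, hB4, h0] at hmain
    have h16a : (16 : ℤ) ∣ U - 1 := by
      rw [hU] at hca ⊢; omega
    have h16b : (16 : ℤ) ∣ V - 1 := by
      rw [hV] at hcb ⊢; omega
    obtain ⟨hU1, _⟩ := H20.Homo4.arith h16a h16b (by linear_combination hmain)
    refine ⟨α.1, α.2, ?_⟩
    have hpos := hu α.1
    rw [hU] at hU1
    rcases hea with e | e <;> rw [e] at hU1 <;> omega
  · exfalso
    rw [hA4] at hca
    rw [hB4] at hcb
    rw [hA4, hB4, h0] at hmain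
    have h16a : (64 : ℤ) ∣ U - 13 := by
      rw [hU] at hca ⊢; omega
    have h16b : (64 : ℤ) ∣ V - 1 := by
      rw [hV] at hcb ⊢; omega
    exact no_b h16a h16b (by linear_combination hmain)
  · exfalso
    rw [hA4] at hca
    rw [hB4] at hcb
    rw [hA4, hB4, h0] at hmain
    have h16a : (64 : ℤ) ∣ U - 1 := by
      rw [hU] at hca ⊢; omega
    have h16b : (64 : ℤ) ∣ V - 13 := by
      rw [hV] at hcb ⊢; omega
    exact no_b h16b h16a (by linear_combination hmain)

end H81.Pu4
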