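import Mathlib

/-! 2-groups of type `Syl₂(PSU(3,4))` with a fixed point free automorphism of order three
(towards S3258). -/

set_option autoImplicit false
set_option linter.unusedSectionVars false
set_option linter.unusedVariables false

namespace H81.Pu4

universe u

/-- `R` of order 64, `E = Ω₁(R) = Z` of order 4 containing the squares, `σ` of order three
without fixed points on `E`. -/
structure Dat {R : Type u} [Group R] (E : Subgroup R) (σ : R ≃* R) : Prop where
  cR : Nat.card R = 64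
  cE : Nat.card E = 4
  cen : ∀ e ∈ E, ∀ x, e * x = x * e
  sq : ∀ x, x * x ∈ E
  inv : ∀ x, x * x = 1 → x ∈ E
  inv' : ∀ x ∈ E, x * x = 1
  cube : ∀ x, σ (σ (σ x)) = x
  fpf : ∀ x ∈ E, σ x = x → x = 1

namespace Dat

variable {R : Type u} [Group R] {E : Subgroup R} {σ : R ≃* R} (D : Dat E σ)
include D

theorem smem {x : R} : σ x ∈ E ↔ x ∈ E := by
  constructor
  · intro h
    apply D.inv
    have h1 := D.inv' _ h
    rw [← map_mul] at h1
    exact σ.injective (h1.trans (map_one σ).symm)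
  · intro h
    apply D.inv
    rw [← map_mul, D.inv' x h, map_one]

theorem normal : E.Normal := by
  refine ⟨fun e he g => ?_⟩
  rw [← D.cen e he g, mul_inv_cancel_right]
  exact he

theorem fpf1 {x : R} (h : x⁻¹ * σ x ∈ E) : x ∈ E := by
  apply D.inv
  apply D.fpf _ (D.sq x)
  have h1 : σ x = x * (x⁻¹ * σ x) := by group
  have h2 := D.cen _ h x
  have h3 := D.inv' _ h
  rw [map_mul]
  set e := x⁻¹ * σ x with he
  rw [h1]
  calc x * e * (x * e) = x * (e * x) * e := by group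
    _ = x * (x * e) * e := by rw [h2]
    _ = x * x * (e * e) := by group
    _ = x * x := by rw [h3, mul_one]

theorem comm_mem (x y : R) : x * y * x⁻¹ * y⁻¹ ∈ E := by
  have h1 : (x * x)⁻¹ ∈ E := E.inv_mem (D.sq x)
  have h2 := D.cen _ h1 y⁻¹
  have h3 : x * y * x⁻¹ * y⁻¹ = ((x * y) * (x * y)) * (x * x)⁻¹ * (y * y)⁻¹ := by
    have h4 : ((x * y) * (x * y)) * (x * x)⁻¹ * (y * y)⁻¹ =
        x * y * x * y * ((x * x)⁻¹ * y⁻¹) * y⁻¹ := by group
    rw [h4, h2]; group
  rw [h3]
  exact E.mul_mem (E.mul_mem (D.sq _) h1) (E.inv_mem (D.sq y))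

theorem prod_mem (x : R) : x * σ x * σ (σ x) ∈ E := by
  set y := x * σ x * σ (σ x) with hy
  apply D.fpf1
  have h1 : σ y = x⁻¹ * y * x := by
    rw [hy, map_mul, map_mul, D.cube]; group
  rw [h1]
  have h2 := D.comm_mem y⁻¹ x⁻¹
  have h3 : y⁻¹ * (x⁻¹ * y * x) = y⁻¹ * x⁻¹ * y⁻¹⁻¹ * x⁻¹⁻¹ := by group
  rw [h3]; exact h2

theorem comm1 (x : R) : x * σ x = σ x * x := by
  set s := σ x with hs
  set e := x * s * x⁻¹ * s⁻¹ with he
  have heE : e ∈ E := D.comm_mem x s
  have hy : x * s * σ s ∈ E := D.prod_mem x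
  set y := x * s * σ s with hyd
  have ht : σ s = s⁻¹ * x⁻¹ * y := by rw [hyd]; group
  have hσe : σ e = e := by
    have h1 : σ e = s * σ s * s⁻¹ * (σ s)⁻¹ := by
      rw [he, map_mul, map_mul, map_mul, map_inv, map_inv, ← hs]
    rw [h1, ht]
    have hyc := D.cen y hy s⁻¹
    have hec := D.cen e heE (x * s)
    calc s * (s⁻¹ * x⁻¹ * y) * s⁻¹ * (s⁻¹ * x⁻¹ * y)⁻¹ = x⁻¹ * (y * s⁻¹) * y⁻¹ * x * s := by group
      _ = x⁻¹ * (s⁻¹ * y) * y⁻¹ * x * s := by rw [hyc]
      _ = (s * x)⁻¹ * (x * s) := by group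
      _ = (s * x)⁻¹ * (e * (s * x)) := by rw [he]; group
      _ = (s * x)⁻¹ * ((s * x) * e) := by rw [D.cen e heE (s * x)]
      _ = e := by group
  have h1 := D.fpf e heE hσe
  rw [he] at h1
  have h2 : x * s = (x * s * x⁻¹ * s⁻¹) * (s * x) := by group
  rw [h2, h1, one_mul]

omit D in
theorem four_aux {Q : Type u} [Group Q] (h2 : ∀ q : Q, q * q = 1) (a b : Q) : a * b = b * a := by
  have hi : ∀ q : Q, q⁻¹ = q := fun q => inv_eq_of_mul_eq_one_left (h2 q)
  have h1 := hi (a * b)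
  rw [mul_inv_rev, hi, hi] at h1
  exact h1.symm

/-- the subgroup `{1,a,b,ab}` in a group of exponent two -/
def four {Q : Type u} [Group Q] (h2 : ∀ q : Q, q * q = 1) (a b c : Q) (h : a * b * c = 1) :
    Subgroup Q where
  carrier := {q | q = 1 ∨ q = a ∨ q = b ∨ q = c}
  one_mem' := Or.inl rfl
  inv_mem' := by
    intro q hq
    have : q⁻¹ = q := inv_eq_of_mul_eq_one_left (h2 q)
    rw [this]; exact hq
  mul_mem' := by
    have hi : ∀ q : Q, q⁻¹ = q := fun q => inv_eq_of_mul_eq_one_left (h2 q)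
    have hc : ∀ x y : Q, x * y = y * x := four_aux h2
    have hab : a * b = c := by
      rw [← hi c]; exact eq_inv_of_mul_eq_one_left h
    have hba : b * a = c := by rw [hc b a, hab]
    have hac : a * c = b := by rw [← hab, ← mul_assoc, h2, one_mul]
    have hca : c * a = b := by rw [hc c a, hac]
    have hbc : b * c = a := by rw [← hba, ← mul_assoc, h2, one_mul]
    have hcb : c * b = a := by rw [hc c b, hbc]
    rintro x y (rfl | rfl | rfl | rfl) (rfl | rfl | rfl | rfl) <;>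
      simp [h2, hab, hba, hac, hca, hbc, hcb]

theorem sqQ [E.Normal] (q : R ⧸ E) : q * q = 1 := by
  obtain ⟨x, rfl⟩ := QuotientGroup.mk_surjective q
  rw [← QuotientGroup.mk_mul, QuotientGroup.eq_one_iff]
  exact D.sq x

theorem abcQ [E.Normal] (x : R) : (x : R ⧸ E) * ((σ x : R) : R ⧸ E) * ((σ (σ x) : R) : R ⧸ E) = 1 := by
  rw [← QuotientGroup.mk_mul, ← QuotientGroup.mk_mul, QuotientGroup.eq_one_iff]
  exact D.prod_mem x

theorem exists_A (x : R) (hx : x ∉ E) : ∃ A : Subgroup R, E ≤ A ∧ Nat.card A = 16 ∧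
    (∀ y, y ∈ A ↔ y ∈ E ∨ x⁻¹ * y ∈ E ∨ (σ x)⁻¹ * y ∈ E ∨ (σ (σ x))⁻¹ * y ∈ E) ∧
    (∀ y ∈ A, ∀ z ∈ A, y * z = z * y) := by
  classical
  haveI := D.normal
  haveI : Finite R := Nat.finite_of_card_ne_zero (by rw [D.cR]; norm_num)
  set V := four D.sqQ _ _ _ (D.abcQ x) with hV
  have hmem : ∀ q : R ⧸ E, q ∈ V ↔ q = 1 ∨ q = x ∨ q = (σ x : R) ∨ q = (σ (σ x) : R) := fun q => Iff.rfl
  have hmemA : ∀ y, y ∈ V.comap (QuotientGroup.mk' E) ↔
      y ∈ E ∨ x⁻¹ * y ∈ E ∨ (σ x)⁻¹ * y ∈ E ∨ (σ (σ x))⁻¹ * y ∈ E := by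
    intro y
    rw [Subgroup.mem_comap, hmem, QuotientGroup.mk'_apply, QuotientGroup.eq_one_iff,
      eq_comm (a := (y : R ⧸ E)) (b := (x : R ⧸ E)), eq_comm (a := (y : R ⧸ E)) (b := ((σ x : R) : R ⧸ E)),
      eq_comm (a := (y : R ⧸ E)) (b := ((σ (σ x) : R) : R ⧸ E)), QuotientGroup.eq, QuotientGroup.eq,
      QuotientGroup.eq]
  have hx1 : σ x ∉ E := fun h => hx (D.smem.1 h)
  have hx2 : σ (σ x) ∉ E := fun h => hx1 (D.smem.1 h)
  have n1 : (x : R ⧸ E) ≠ (σ x : R) := fun h => hx (D.fpf1 (QuotientGroup.eq.1 h))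
  have n2 : ((σ x : R) : R ⧸ E) ≠ (σ (σ x) : R) := fun h => hx1 (D.fpf1 (QuotientGroup.eq.1 h))
  have n3 : ((σ (σ x) : R) : R ⧸ E) ≠ (x : R) := fun h => by
    have h1 := QuotientGroup.eq.1 h
    apply hx2
    apply D.fpf1
    rw [D.cube]; exact h1
  have m1 : (x : R ⧸ E) ≠ 1 := fun h => hx ((QuotientGroup.eq_one_iff x).1 h)
  have m2 : ((σ x : R) : R ⧸ E) ≠ 1 := fun h => hx1 ((QuotientGroup.eq_one_iff _).1 h)
  have m3 : ((σ (σ x) : R) : R ⧸ E) ≠ 1 := fun h => hx2 ((QuotientGroup.eq_one_iff _).1 h)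
  have hcV : Nat.card V = 4 := by
    have h1 : (V : Set (R ⧸ E)) = (({1, (x : R ⧸ E), ((σ x : R) : R ⧸ E), ((σ (σ x) : R) : R ⧸ E)} :
        Finset (R ⧸ E)) : Set (R ⧸ E)) := by
      ext q
      simp only [SetLike.mem_coe, hmem, Finset.coe_insert, Finset.coe_singleton,
        Set.mem_insert_iff, Set.mem_singleton_iff]
    have h2 : Nat.card V = ((V : Set (R ⧸ E))).ncard := Nat.card_coe_set_eq _
    rw [h2, h1, Set.ncard_coe_finset, Finset.card_insert_of_notMem, Finset.card_insert_of_notMem,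
      Finset.card_insert_of_notMem, Finset.card_singleton]
    · simpa using n2
    · simp only [Finset.mem_insert, Finset.mem_singleton, not_or]
      exact ⟨n1, n3.symm⟩
    · simp only [Finset.mem_insert, Finset.mem_singleton, not_or]
      exact ⟨m1.symm, m2.symm, m3.symm⟩
  have hcQ : Nat.card (R ⧸ E) = 16 := by
    have := Subgroup.card_eq_card_quotient_mul_card_subgroup E
    rw [D.cR, D.cE] at this
    omega
  have hiV : V.index = 4 := by
    have := V.card_mul_index
    rw [hcV, hcQ] at this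
    omega
  refine ⟨V.comap (QuotientGroup.mk' E), ?_, ?_, hmemA, ?_⟩
  · intro e he
    rw [hmemA]; exact Or.inl he
  · have h1 : (V.comap (QuotientGroup.mk' E)).index = 4 := by
      rw [Subgroup.index_comap_of_surjective _ (QuotientGroup.mk'_surjective E), hiV]
    have h2 := (V.comap (QuotientGroup.mk' E)).card_mul_index
    rw [h1, D.cR] at h2
    omega
  · -- commutativity
    have c1 : x * σ x = σ x * x := D.comm1 x
    have c2 : σ x * σ (σ x) = σ (σ x) * σ x := D.comm1 (σ x)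
    have c3 : σ (σ x) * x = x * σ (σ x) := by
      have := D.comm1 (σ (σ x))
      rwa [D.cube] at this
    have hE : ∀ e ∈ E, ∀ z : R, Commute e z := fun e he z => D.cen e he z
    have key : ∀ g h : R, Commute g h → ∀ y z, g⁻¹ * y ∈ E → h⁻¹ * z ∈ E → y * z = z * y := by
      intro g h hgh y z hy hz
      have e1 : y = g * (g⁻¹ * y) := by group
      have e2 : z = h * (h⁻¹ * z) := by group
      have h1 : Commute (g * (g⁻¹ * y)) (h * (h⁻¹ * z)) := by
        apply Commute.mul_left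
        · exact Commute.mul_right hgh (hE _ hz g).symm
        · exact (hE _ hy _)
      rw [← e1, ← e2] at h1
      exact h1
    intro y hy z hz
    rw [hmemA] at hy hz
    rcases hy with hy | hy | hy | hy
    · exact hE y hy z
    · rcases hz with hz | hz | hz | hz
      · exact (hE z hz y).symm
      · exact key _ _ (Commute.refl _) y z hy hz
      · exact key _ _ c1 y z hy hz
      · exact key _ _ c3.symm y z hy hz
    · rcases hz with hz | hz | hz | hz
      · exact (hE z hz y).symm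
      · exact key _ _ c1.symm y z hy hz
      · exact key _ _ (Commute.refl _) y z hy hz
      · exact key _ _ c2 y z hy hz
    · rcases hz with hz | hz | hz | hz
      · exact (hE z hz y).symm
      · exact key _ _ c3 y z hy hz
      · exact key _ _ c2.symm y z hy hz
      · exact key _ _ (Commute.refl _) y z hy hz

end Dat

end H81.Pu4
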