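import Mathlib
import Cfsg.Prelude.Def_Blocks
import Cfsg.Agent.Lib.H20.Homo4
import Cfsg.Agent.Lib.H78.Cong
import Cfsg.Agent.Lib.H31.ChTools
import Cfsg.Agent.Lib.H81.Pu4a
import Cfsg.Agent.Lib.H81.Pu4b

/-! Sylow 2-subgroups of type `PSU(3,4)` with an automiser of order three: the group is not
perfect (towards S3258). -/

set_option autoImplicit false
set_option linter.unusedSectionVars false
set_option linter.unusedVariables false
set_option linter.style.haveILetI false
open Cfsg H20.Loc H20.GA H20.Blk H20.DefGrp H20.Defect H20.Orth H20.Height H20.NPC H20.PPart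
  H20.NormQ H20.Col H20.Col2 H20.DefZero H20.Klein H20.Homo2 H20.Homo4
open scoped ComplexConjugate Pointwise

universe u

namespace H81.Pu4

/-- representatives of an equivalence relation with all classes of size 12 on 60 points -/
theorem reps {S : Type*} [Fintype S] [DecidableEq S] (s : Setoid S) [DecidableRel s.r]
    (hS : Fintype.card S = 60)
    (hcls : ∀ x : S, (Finset.univ.filter (fun y => s.r y x)).card = 12) :
    ∃ x : Fin 5 → S, (∀ i j, i ≠ j → ¬ s.r (x i) (x j)) ∧
      ∀ f : S → ℂ, (∀ a b, s.r a b → f a = f b) → ∑ a, f a = 12 * ∑ j, f (x j) := by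
  classical
  have key : ∀ f : S → ℂ, (∀ a b, s.r a b → f a = f b) →
      ∑ a, f a = 12 * ∑ q : Quotient s, f q.out := by
    intro f hf
    rw [← Finset.sum_fiberwise (Finset.univ : Finset S) (fun a => (Quotient.mk s a)) f,
      Finset.mul_sum]
    refine Finset.sum_congr rfl fun q _ => ?_
    have h1 : (Finset.univ.filter (fun y => Quotient.mk s y = q)) =
        Finset.univ.filter (fun y => s.r y q.out) := by
      ext y
      simp only [Finset.mem_filter, Finset.mem_univ, true_and]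
      constructor
      · intro h
        apply Quotient.exact (s := s)
        rw [Quotient.out_eq]; exact h
      · intro h
        have : Quotient.mk s y = Quotient.mk s q.out := Quotient.sound (s := s) h
        rw [this, Quotient.out_eq]
    rw [h1, Finset.sum_congr rfl (g := fun _ => f q.out), Finset.sum_const, hcls, nsmul_eq_mul]
    · norm_num
    · intro y hy
      exact hf _ _ (Finset.mem_filter.1 hy).2
  have hcard : Fintype.card (Quotient s) = 5 := by
    have h1 := key (fun _ => 1) (fun _ _ _ => rfl)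
    simp only [Finset.sum_const, Finset.card_univ, nsmul_eq_mul, mul_one] at h1
    rw [hS] at h1
    have h2 : (60 : ℂ) = ((12 * Fintype.card (Quotient s) : ℕ) : ℂ) := by
      push_cast; exact_mod_cast h1
    have h3 : 60 = 12 * Fintype.card (Quotient s) := by exact_mod_cast h2
    omega
  let e := (Fintype.equivFinOfCardEq hcard).symm
  refine ⟨fun j => (e j).out, ?_, ?_⟩
  · intro i j hij h
    apply hij
    apply e.injective
    rw [← Quotient.out_eq (e i), ← Quotient.out_eq (e j)]
    exact Quotient.sound (s := s) h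
  · intro f hf
    rw [key f hf, ← Equiv.sum_comp e]

section prod
variable {G : Type u} [Group G] [Finite G] {M : Ideal AlgInt}

/-- elements which are not products of two conjugates of `t` -/
theorem sum_of_no_product [Fintype (IrrCharacter G)] {t g : G}
    (hno : ∀ a b : G, IsConj t a → IsConj t b → a * b ≠ g⁻¹) :
    ∑ χ : IrrCharacter G, ((χ : G → ℂ) t) ^ 2 / (χ : G → ℂ) 1 * (χ : G → ℂ) g = 0 := by
  classical
  letI := Fintype.ofFinite G
  have h1 : zc (cls t * cls t) g⁻¹ = 0 := by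
    rw [zc_mul]
    apply Finset.sum_eq_zero
    intro x _
    by_cases hx : IsConj t x
    · by_cases hy : IsConj t (x⁻¹ * g⁻¹)
      · exfalso
        exact hno _ _ hx hy (by group)
      · rw [zc_cls_not hy, mul_zero]
    · rw [zc_cls_not hx, zero_mul]
  rw [H20.PCDef.zc_fourier] at h1
  have hG : (Nat.card G : ℂ)⁻¹ ≠ 0 :=
    inv_ne_zero (by exact_mod_cast (Nat.card_pos (α := G)).ne')
  have h2 := (mul_eq_zero.1 h1).resolve_left hG
  have hidx : ((Subgroup.centralizer ({t} : Set G)).index : ℂ) ≠ 0 := by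
    exact_mod_cast Subgroup.index_ne_zero_of_finite
  have h3 : ∑ χ : IrrCharacter G, omega χ (cls t * cls t) * ((χ : G → ℂ) 1 * conj ((χ : G → ℂ) g⁻¹)) =
      ((Subgroup.centralizer ({t} : Set G)).index : ℂ) ^ 2 *
      ∑ χ : IrrCharacter G, ((χ : G → ℂ) t) ^ 2 / (χ : G → ℂ) 1 * (χ : G → ℂ) g := by
    rw [Finset.mul_sum]
    refine Finset.sum_congr rfl fun χ _ => ?_
    have h4 : conj ((χ : G → ℂ) g⁻¹) = (χ : G → ℂ) g := by
      rw [← H18.CharBasic.char_inv (irr_char χ), inv_inv]
    have h5 := H18.CharBasic.irr_one_ne_zero χ.2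
    rw [map_mul, omega_cls, centralChar, h4]
    field_simp
  rw [h3] at h2
  exact (mul_eq_zero.1 h2).resolve_left (pow_ne_zero _ hidx)

theorem fact_of_index {z : G} {k : ℕ} (hk : (pPrimeCore 2 (Cen z)).index = 2 ^ k) :
    (Nat.card (Cen z)).factorization 2 = k := by
  have h1 := (pPrimeCore 2 (Cen z)).card_mul_index
  have h2 := H1.Cores.coprime_card_pPrimeCore (G := Cen z) 2
  have h3 : ¬ 2 ∣ Nat.card (pPrimeCore 2 (Cen z)) := by
    rw [← even_iff_two_dvd, Nat.not_even_iff_odd]
    exact Nat.coprime_two_right.1 h2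
  rw [← h1, hk, Nat.factorization_mul Nat.card_pos.ne' (by positivity), Finsupp.add_apply,
    Nat.factorization_eq_zero_of_not_dvd h3, Nat.factorization_pow, Finsupp.smul_apply,
    Nat.prime_two.factorization_self, smul_eq_mul, mul_one, zero_add]

end prod

section rel
variable {G : Type u} [Group G] [Finite G] {M : Ideal AlgInt}
variable {P : Sylow 2 G} {E : Subgroup ↥(P : Subgroup G)}
  {σ : ↥(P : Subgroup G) ≃* ↥(P : Subgroup G)}

theorem S_self (hM : IsPModular 2 M) {z : G} (hz : z ∈ P) {k : ℕ}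
    (hk : (pPrimeCore 2 (Cen z)).index = 2 ^ k) :
    ∑ χ ∈ Bf M G, (χ : G → ℂ) z * conj ((χ : G → ℂ) z) = (2 : ℂ) ^ k := by
  classical
  letI := Fintype.ofFinite (IrrCharacter G)
  rw [sum_Bf]
  have h1 := column_self hM (pelt hz) ⟨k, hk⟩
  rw [fact_of_index hk] at h1
  rw [show ((2 : ℂ) ^ k) = ((2 ^ k : ℕ) : ℂ) by push_cast; rfl, ← h1]

theorem S_ne (hM : IsPModular 2 M) {z z' : G} (hz : z ∈ P) (hz' : z' ∈ P)
    (h : ¬ IsConj z z') : ∑ χ ∈ Bf M G, (χ : G → ℂ) z * conj ((χ : G → ℂ) z') = 0 := by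
  classical
  letI := Fintype.ofFinite (IrrCharacter G)
  rw [sum_Bf]
  have h1 := column_ne hM (pelt hz) (y := 1) (by rw [orderOf_one]; norm_num)
    (not_conj_of (pelt hz) (pelt hz') h)
  simp only [Subgroup.coe_one, mul_one] at h1
  exact h1

theorem not_inv (D : Dat E σ) {x : ↥(P : Subgroup G)} (hx : x ∉ E) {a : G} (ha2 : a * a = 1)
    (hax : a * (x : G) * a⁻¹ = (x : G)⁻¹) : False := by
  have hK : IsPGroup 2 (Subgroup.zpowers (x : G)) :=
    P.2.to_le (by rw [Subgroup.zpowers_le]; exact x.2)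
  have hH : IsPGroup 2 (Subgroup.zpowers a) := by
    rw [IsPGroup.iff_orderOf]
    rintro ⟨g, hg⟩
    obtain ⟨k, rfl⟩ := Subgroup.mem_zpowers_iff.1 hg
    rw [Subgroup.orderOf_mk]
    have h1 : orderOf (a ^ k) ∣ 2 ^ 1 := by
      apply orderOf_dvd_of_pow_eq_one
      rw [pow_one, ← zpow_natCast, ← zpow_mul, mul_comm, zpow_mul]
      have : a ^ ((2 : ℕ) : ℤ) = 1 := by rw [zpow_natCast, pow_two, ha2]
      rw [this, one_zpow]
    obtain ⟨j, _, hj⟩ := (Nat.dvd_prime_pow Nat.prime_two).1 h1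
    exact ⟨j, hj⟩
  have hn : Subgroup.zpowers a ≤ Subgroup.normalizer (Subgroup.zpowers (x : G) : Set G) := by
    rw [Subgroup.zpowers_le, Subgroup.mem_normalizer_iff]
    intro h
    have hai : a⁻¹ = a := inv_eq_of_mul_eq_one_left ha2
    have key : ∀ y ∈ Subgroup.zpowers (x : G), a * y * a⁻¹ ∈ Subgroup.zpowers (x : G) := by
      intro y hy
      obtain ⟨k, rfl⟩ := Subgroup.mem_zpowers_iff.1 hy
      rw [← conj_zpow, hax]
      exact Subgroup.zpow_mem _ (Subgroup.inv_mem _ (Subgroup.mem_zpowers _)) k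
    constructor
    · exact key h
    · intro hh
      have h1 := key _ hh
      have h2 : a * (a * h * a⁻¹) * a⁻¹ = h := by
        rw [hai]
        calc a * (a * h * a) * a = (a * a) * h * (a * a) := by group
          _ = h := by rw [ha2]; group
      rwa [h2] at h1
  have hp := hH.to_sup_of_normal_right' hK hn
  obtain ⟨Q, hQ⟩ := hp.exists_le_sylow
  obtain ⟨g, hg⟩ := MulAction.exists_smul_eq G Q P
  have hmem : ∀ y ∈ (Q : Subgroup G), g * y * g⁻¹ ∈ (P : Subgroup G) := by
    intro y hy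
    rw [← hg, Sylow.coe_subgroup_smul]
    exact Subgroup.smul_mem_pointwise_smul y (MulAut.conj g) _ hy
  have haQ : a ∈ (Q : Subgroup G) := hQ (Subgroup.mem_sup_left (Subgroup.mem_zpowers a))
  have hxQ : (x : G) ∈ (Q : Subgroup G) := hQ (Subgroup.mem_sup_right (Subgroup.mem_zpowers _))
  have ha' := hmem a haQ
  have hx' := hmem x hxQ
  have haE : (⟨g * a * g⁻¹, ha'⟩ : ↥(P : Subgroup G)) ∈ E := by
    apply D.inv
    apply Subtype.ext
    show g * a * g⁻¹ * (g * a * g⁻¹) = 1
    calc g * a * g⁻¹ * (g * a * g⁻¹) = g * (a * a) * g⁻¹ := by group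
      _ = 1 := by rw [ha2]; group
  have hc := congrArg Subtype.val (D.cen _ haE ⟨g * (x : G) * g⁻¹, hx'⟩)
  change g * a * g⁻¹ * (g * (x : G) * g⁻¹) = g * (x : G) * g⁻¹ * (g * a * g⁻¹) at hc
  have hc2 : a * (x : G) = (x : G) * a := by
    have h1 : g * (a * x) * g⁻¹ = g * (x * a) * g⁻¹ := by
      calc g * (a * x) * g⁻¹ = g * a * g⁻¹ * (g * (x : G) * g⁻¹) := by group
        _ = _ := hc
        _ = g * (x * a) * g⁻¹ := by group
    have h2 := mul_right_cancel h1
    exact mul_left_cancel h2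
  apply hx
  apply D.inv
  apply Subtype.ext
  show (x : G) * (x : G) = 1
  rw [hc2, mul_inv_cancel_right] at hax
  exact eq_inv_iff_mul_eq_one.1 hax

theorem rel5 (hM : IsPModular 2 M) (D : Dat E σ) {z x : ↥(P : Subgroup G)} (hz : z * z = 1)
    (hx : x ∉ E) :
    ∑ χ ∈ Bf M G, ((χ : G → ℂ) z) ^ 2 / (χ : G → ℂ) 1 * (χ : G → ℂ) x = 0 := by
  classical
  letI := Fintype.ofFinite (IrrCharacter G)
  have hzz : (z : G) * z = 1 := congrArg Subtype.val hz
  have hc2 : ∀ a : G, IsConj (z : G) a → a * a = 1 := by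
    intro a ha
    obtain ⟨c, rfl⟩ := isConj_iff.1 ha
    calc (c * z * c⁻¹) * (c * z * c⁻¹) = c * ((z : G) * z) * c⁻¹ := by group
      _ = 1 := by rw [hzz]; group
  have h1 := section_vanish (M := M) hM (pelt x.2)
    (fun χ : IrrCharacter G => ((χ : G → ℂ) z) ^ 2 / (χ : G → ℂ) 1) (by
    intro w hw
    apply sum_of_no_product
    intro a b ha hb hab
    have ha2 := hc2 a ha
    have hb2 := hc2 b hb
    have hai : a⁻¹ = a := inv_eq_of_mul_eq_one_left ha2
    have hbi : b⁻¹ = b := inv_eq_of_mul_eq_one_left hb2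
    have hg : (x : G) * (w : G) = b * a := by
      rw [← inv_inj, ← hab, mul_inv_rev, hai, hbi]
    have hinv : a * ((x : G) * (w : G)) * a⁻¹ = ((x : G) * (w : G))⁻¹ := by
      rw [← hab, hg, hai]
      calc a * (b * a) * a = a * b * (a * a) := by group
        _ = a * b := by rw [ha2, mul_one]
    have h2 : IsPPart 2 ((x : G) * (w : G)) x := ⟨w, rfl, comm_cen w, pelt x.2, by rwa [orderOf_cen]⟩
    have h3 := H19.Second.isPPart_conj (h := a) h2
    rw [hinv] at h3
    have h4 : IsPPart 2 ((x : G) * (w : G))⁻¹ (x : G)⁻¹ := by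
      refine ⟨(w : G)⁻¹, ?_, (comm_cen w).inv_inv, ?_, ?_⟩
      · rw [(comm_cen w).eq, mul_inv_rev]
      · rw [orderOf_inv]; exact pelt x.2
      · rw [orderOf_inv, orderOf_cen]; exact hw
    have h5 := H19.Second.isPPart_unique Nat.prime_two h4 h3
    exact not_inv D hx ha2 h5.symm) (y := 1) (by rw [orderOf_one]; norm_num)
  simp only [Subgroup.coe_one, mul_one] at h1
  exact h1

end rel

end H81.Pu4
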