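import Mathlib
import Cfsg.Prelude.Def_Blocks
import Cfsg.Agent.Lib.H81.Pu4c

/-! Sylow 2-subgroups of type `PSU(3,4)` with an automiser of order three: the group is not
perfect (towards S3258, S3214). -/

set_option autoImplicit false
set_option linter.unusedSectionVars false
set_option linter.unusedVariables false
set_option linter.style.haveILetI false
open Cfsg H20.Loc H20.GA H20.Blk H20.DefGrp H20.Defect H20.Orth H20.Height H20.NPC H20.PPart
  H20.NormQ H20.Col H20.Col2 H20.DefZero H20.Klein H20.Homo2 H20.Homo4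
open scoped ComplexConjugate Pointwise

universe u

namespace H81.Pu4

section main
variable {G : Type u} [Group G] [Finite G] {M : Ideal AlgInt}
variable {P : Sylow 2 G} {E : Subgroup ↥(P : Subgroup G)}
  {σ : ↥(P : Subgroup G) ≃* ↥(P : Subgroup G)}

theorem exists_multA (χ : IrrCharacter G) (A : Subgroup ↥(P : Subgroup G)) [Fintype A]
    (l : IrrCharacter A) : ∃ n : ℕ, ∑ y : A, (χ : G → ℂ) ((y : ↥(P : Subgroup G)) : G) * conj (l.1 y) =
      (Nat.card A : ℂ) * n := by
  obtain ⟨m, hm⟩ := H18.CharOrtho.inner_char_natCast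
    (H18.CharBasic.isCharacter_restrict A
      (H18.CharBasic.isCharacter_restrict (P : Subgroup G) (irr_char χ))) (irr_char l)
  rw [classInner, inv_mul_eq_iff_eq_mul₀
    (by exact_mod_cast (Nat.card_pos (α := A)).ne')] at hm
  exact ⟨m, hm⟩

theorem int_A (D : Dat E σ) (χ : IrrCharacter G) {A : Subgroup ↥(P : Subgroup G)} (hEA : E ≤ A)
    (hA16 : Nat.card A = 16) (hcomm : ∀ y ∈ A, ∀ z ∈ A, y * z = z * y) {a w v : ℤ}
    (h1 : (χ : G → ℂ) 1 = a)
    (hw : ∀ e ∈ E, e ≠ 1 → (χ : G → ℂ) (e : G) = w)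
    (hv : ∀ y ∈ A, y ∉ E → (χ : G → ℂ) (y : G) = v) :
    (16 : ℤ) ∣ a + 3 * w + 12 * v ∧ (16 : ℤ) ∣ a - w := by
  classical
  letI := Fintype.ofFinite A
  have hsum : ∀ g : A → ℂ, ∑ y : A, (χ : G → ℂ) ((y : ↥(P : Subgroup G)) : G) * g y =
      v * ∑ y : A, g y + (w - v) * ∑ y : A, (if (y : ↥(P : Subgroup G)) ∈ E then g y else 0) +
        (a - w) * g 1 := by
    intro g
    have e1 : (a - w : ℂ) * g 1 = ∑ y : A, (if y = 1 then (a - w : ℂ) * g y else 0) := by
      rw [Finset.sum_ite_eq' Finset.univ (1 : A) _, if_pos (Finset.mem_univ _)]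
    rw [e1, Finset.mul_sum, Finset.mul_sum, ← Finset.sum_add_distrib, ← Finset.sum_add_distrib]
    refine Finset.sum_congr rfl fun y _ => ?_
    by_cases hy1 : y = 1
    · rw [if_pos hy1, hy1, if_pos (by exact E.one_mem)]
      have : (χ : G → ℂ) (((1 : A) : ↥(P : Subgroup G)) : G) = a := h1
      rw [this]; ring
    · rw [if_neg hy1]
      by_cases hyE : (y : ↥(P : Subgroup G)) ∈ E
      · rw [if_pos hyE, hw _ hyE (fun h => hy1 (Subtype.ext h))]; ring
      · rw [if_neg hyE, hv _ y.2 hyE]; ring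
  have hcE : ∑ y : A, (if (y : ↥(P : Subgroup G)) ∈ E then (1 : ℂ) else 0) = 4 := by
    rw [Finset.sum_ite, Finset.sum_const_zero, add_zero, Finset.sum_const, nsmul_eq_mul, mul_one]
    have h2 : (Finset.univ.filter (fun y : A => (y : ↥(P : Subgroup G)) ∈ E)).card = 4 := by
      rw [← Fintype.card_subtype, ← Nat.card_eq_fintype_card, ← D.cE]
      exact Nat.card_congr (Subgroup.subgroupOfEquivOfLe hEA).toEquiv
    rw [h2]; norm_num
  have hc16 : (Nat.card A : ℂ) = 16 := by rw [hA16]; norm_num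
  have habA : ∀ y z : A, y * z = z * y := fun y z => Subtype.ext (hcomm y y.2 z z.2)
  constructor
  · obtain ⟨n, hn⟩ := exists_multA χ A (one A)
    have h2 : ∑ y : A, (χ : G → ℂ) ((y : ↥(P : Subgroup G)) : G) * conj ((one A).1 y) =
        ∑ y : A, (χ : G → ℂ) ((y : ↥(P : Subgroup G)) : G) * (fun _ => (1 : ℂ)) y := by
      refine Finset.sum_congr rfl fun y _ => ?_
      have : conj ((one A).1 y) = 1 := map_one _
      rw [this]
    rw [h2, hsum, hcE, hc16, Finset.sum_const, Finset.card_univ, ← Nat.card_eq_fintype_card, hA16] at hn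
    simp only [nsmul_eq_mul, mul_one] at hn
    refine ⟨n, ?_⟩
    have h3 : (v * 16 + (w - v) * 4 + (a - w) : ℂ) = 16 * n := by
      rw [← hn]; push_cast; ring
    have h4 : (v * 16 + (w - v) * 4 + (a - w) : ℤ) = 16 * n := by exact_mod_cast h3
    linarith
  · -- a character of `A` nontrivial on `E`
    obtain ⟨e, he, he1⟩ : ∃ e ∈ E, e ≠ 1 := by
      by_contra! hno
      have : E = ⊥ := by
        rw [eq_bot_iff]; intro e he; exact Subgroup.mem_bot.2 (hno e he)
      have h2 := D.cE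
      rw [this, Subgroup.card_bot] at h2
      norm_num at h2
    set e' : A := ⟨e, hEA he⟩ with he'
    have he1' : e' ≠ 1 := fun h => he1 (congrArg Subtype.val h)
    letI := Fintype.ofFinite (IrrCharacter A)
    obtain ⟨l, hl⟩ : ∃ l : IrrCharacter A, (l : A → ℂ) e' ≠ 1 := by
      by_contra! hno
      have h2 := H20.Homo.sum_col_one habA he1'
      rw [Finset.sum_congr rfl (fun l _ => hno l), Finset.sum_const, Finset.card_univ, nsmul_eq_mul,
        mul_one] at h2
      have h3 : Fintype.card (IrrCharacter A) = 0 := by exact_mod_cast h2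
      rw [H20.Homo.card_irr habA, hA16] at h3
      norm_num at h3
    have hl1 : l ≠ one A := by
      rintro rfl
      exact hl rfl
    have hs1 : ∑ y : A, conj ((l : A → ℂ) y) = 0 := by
      rw [← map_sum, H20.Homo.sum_row_one habA hl1, map_zero]
    have hs2 : ∑ y : A, (if (y : ↥(P : Subgroup G)) ∈ E then conj ((l : A → ℂ) y) else 0) = 0 := by
      set s := ∑ y : A, (if (y : ↥(P : Subgroup G)) ∈ E then conj ((l : A → ℂ) y) else 0) with hs
      have h2 : conj ((l : A → ℂ) e') * s = s := by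
        rw [hs, Finset.mul_sum, ← Equiv.sum_comp (Equiv.mulLeft e')
          (fun y : A => (if (y : ↥(P : Subgroup G)) ∈ E then conj ((l : A → ℂ) y) else 0))]
        refine Finset.sum_congr rfl fun y _ => ?_
        rw [Equiv.coe_mulLeft]
        by_cases hy : (y : ↥(P : Subgroup G)) ∈ E
        · rw [if_pos hy, if_pos (by exact E.mul_mem he hy), H20.Homo.lin_mul habA, map_mul]
        · rw [if_neg hy, if_neg, mul_zero]
          intro h3
          exact hy ((Subgroup.mul_mem_cancel_left E he).1 h3)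
      have h3 : (conj ((l : A → ℂ) e') - 1) * s = 0 := by rw [sub_mul, h2, one_mul, sub_self]
      rcases mul_eq_zero.1 h3 with h4 | h4
      · exfalso
        apply hl
        have h5 : conj ((l : A → ℂ) e') = 1 := sub_eq_zero.1 h4
        rw [← Complex.conj_conj ((l : A → ℂ) e'), h5, map_one]
      · exact h4
    obtain ⟨n, hn⟩ := exists_multA χ A l
    rw [hsum (fun y => conj (l.1 y)), hc16] at hn
    have hl1' : conj (l.1 1) = 1 := by
      have : l.1 1 = 1 := H20.Homo.lin_one habA l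
      rw [this, map_one]
    have hs1' : ∑ y : A, conj (l.1 y) = 0 := hs1
    have hs2' : ∑ y : A, (if (y : ↥(P : Subgroup G)) ∈ E then conj (l.1 y) else 0) = 0 := hs2
    rw [hl1', hs1', hs2'] at hn
    refine ⟨n, ?_⟩
    have h3 : (a - w : ℂ) = 16 * n := by
      rw [← hn]; ring
    exact_mod_cast h3

/-- integrality of the values -/
theorem int_val (D : Dat E σ)
    (fusP : ∀ x ∉ E, ∀ y : ↥(P : Subgroup G), IsConj (x : G) (y : G) ↔
      x⁻¹ * y ∈ E ∨ (σ x)⁻¹ * y ∈ E ∨ (σ (σ x))⁻¹ * y ∈ E)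
    (χ : IrrCharacter G) (y : ↥(P : Subgroup G)) : ∃ n : ℤ, (χ : G → ℂ) (y : G) = n := by
  by_cases hy : y ∈ E
  · have h2 := D.inv' y hy
    have h3 : (y : G) * y = 1 := congrArg Subtype.val h2
    have hi : (y : G)⁻¹ = y := inv_eq_of_mul_eq_one_left h3
    apply H31.ChT.int_real (by rw [hi])
    intro k hk
    rcases Nat.even_or_odd k with h4 | h4
    · obtain ⟨m, rfl⟩ := h4
      have hone : (y : G) ^ (m + m) = 1 := by
        rw [← two_mul, pow_mul, pow_two, h3, one_pow]
      have ho : orderOf (y : G) ∣ 2 := orderOf_dvd_of_pow_eq_one (by rw [pow_two, h3])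
      have h6 : orderOf (y : G) ∣ 1 := by
        have h7 : orderOf (y : G) ∣ m + m := orderOf_dvd_of_pow_eq_one hone
        have := Nat.dvd_gcd h7 (dvd_refl (orderOf (y : G)))
        rwa [hk] at this
      have h8 : (y : G) = 1 := orderOf_eq_one_iff.1 (Nat.dvd_one.1 h6)
      left; rw [h8, one_pow]
    · obtain ⟨m, rfl⟩ := h4
      left
      rw [pow_succ, pow_mul, pow_two, h3, one_pow, one_mul]
  · have hc : IsConj (y : G) (y : G)⁻¹ := by
      have h4 := (fusP y hy y⁻¹).2 (Or.inl (by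
        have h5 : y⁻¹ * y⁻¹ = (y * y)⁻¹ := by group
        rw [h5]
        exact E.inv_mem (D.sq y)))
      exact h4
    apply H31.ChT.int_real hc
    have h4 : (y : G) ^ 4 = 1 := by
      have h5 := D.inv' _ (D.sq y)
      have h6 : (y : G) * y * ((y : G) * y) = 1 := congrArg Subtype.val h5
      rw [← h6, pow_succ, pow_succ, pow_succ, pow_one, mul_assoc ((y : G) * y)]
    intro k hk
    have hodd : ¬ 2 ∣ k := by
      intro h2
      have ho : ¬ 2 ∣ orderOf (y : G) := by
        intro h3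
        have := Nat.dvd_gcd h2 h3
        rw [hk] at this
        omega
      have h5 : orderOf (y : G) ∣ 2 ^ 2 := orderOf_dvd_of_pow_eq_one h4
      obtain ⟨j, _, hj⟩ := (Nat.dvd_prime_pow Nat.prime_two).1 h5
      have hj0 : j = 0 := by
        by_contra hne
        apply ho
        rw [hj]; exact dvd_pow_self 2 hne
      rw [hj0, pow_zero, orderOf_eq_one_iff] at hj
      exact hy (by
        have : y = 1 := Subtype.ext hj
        rw [this]; exact E.one_mem)
    have h6 : k % 4 = 1 ∨ k % 4 = 3 := by omega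
    have h7 : (y : G) ^ k = (y : G) ^ (k % 4) := by
      conv_lhs => rw [← Nat.div_add_mod k 4, pow_add, pow_mul, h4, one_pow, one_mul]
    rcases h6 with h6 | h6
    · left; rw [h7, h6, pow_one]
    · right; rw [h7, h6, eq_inv_iff_mul_eq_one, ← pow_succ]; exact h4

theorem not_perfect (P : Sylow 2 G) (E : Subgroup ↥(P : Subgroup G))
    (σ : ↥(P : Subgroup G) ≃* ↥(P : Subgroup G)) (D : Dat E σ)
    (fusE : ∀ e ∈ E, e ≠ 1 → ∀ y : ↥(P : Subgroup G), IsConj (e : G) (y : G) ↔ y ∈ E ∧ y ≠ 1)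
    (fusP : ∀ x ∉ E, ∀ y : ↥(P : Subgroup G), IsConj (x : G) (y : G) ↔
      x⁻¹ * y ∈ E ∨ (σ x)⁻¹ * y ∈ E ∨ (σ (σ x))⁻¹ * y ∈ E)
    (hcE : ∀ x ∈ E, x ≠ 1 →
      (pPrimeCore 2 ↥(Subgroup.centralizer ({(x : G)} : Set G))).index = 64)
    (hcP : ∀ x ∉ E, (pPrimeCore 2 ↥(Subgroup.centralizer ({(x : G)} : Set G))).index = 16) :
    commutator G ≠ ⊤ := by
  classical
  obtain ⟨M, hM⟩ := H78.Cong.exists_isPModular Nat.prime_two
  haveI := pm_isPrime hM
  letI := Fintype.ofFinite ↥(P : Subgroup G)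
  letI := Fintype.ofFinite (IrrCharacter G)
  -- an involution
  obtain ⟨z, hz, hz1⟩ : ∃ e ∈ E, e ≠ 1 := by
    by_contra! hno
    have : E = ⊥ := by
      rw [eq_bot_iff]; intro e he; exact Subgroup.mem_bot.2 (hno e he)
    have h2 := D.cE
    rw [this, Subgroup.card_bot] at h2
    norm_num at h2
  have cardA : ∀ A : Subgroup ↥(P : Subgroup G),
      (Finset.univ.filter (fun y : ↥(P : Subgroup G) => y ∈ A)).card = Nat.card A := by
    intro A
    rw [← Fintype.card_subtype, ← Nat.card_eq_fintype_card]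
  -- classes outside `E`
  let S := {y : ↥(P : Subgroup G) // y ∉ E}
  let s : Setoid S := ⟨fun y y' => IsConj ((y.1 : ↥(P : Subgroup G)) : G) ((y'.1 : ↥(P : Subgroup G)) : G),
    ⟨fun y => IsConj.refl _, fun h => h.symm, fun h h' => h.trans h'⟩⟩
  have hmap : ∀ p : ↥(P : Subgroup G) → Prop, [DecidablePred p] →
      (Finset.univ.filter (fun y : S => p y.1)).card =
        (Finset.univ.filter (fun y : ↥(P : Subgroup G) => y ∉ E ∧ p y)).card := by
    intro p _
    rw [← Finset.card_map (Function.Embedding.subtype _)]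
    congr 1
    ext y
    simp only [Finset.mem_map, Finset.mem_filter, Finset.mem_univ, true_and,
      Function.Embedding.subtype_apply]
    constructor
    · rintro ⟨y', h1, rfl⟩; exact ⟨y'.2, h1⟩
    · rintro ⟨h1, h2⟩; exact ⟨⟨y, h1⟩, h2, rfl⟩
  have hSA : ∀ A : Subgroup ↥(P : Subgroup G), E ≤ A →
      (Finset.univ.filter (fun y : ↥(P : Subgroup G) => y ∉ E ∧ y ∈ A)).card = Nat.card A - 4 := by
    intro A hEA
    have h1 : (Finset.univ.filter (fun y : ↥(P : Subgroup G) => y ∉ E ∧ y ∈ A)) =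
        (Finset.univ.filter (fun y : ↥(P : Subgroup G) => y ∈ A)) \
          (Finset.univ.filter (fun y : ↥(P : Subgroup G) => y ∈ E)) := by
      ext y
      simp only [Finset.mem_sdiff, Finset.mem_filter, Finset.mem_univ, true_and]
      tauto
    rw [h1, Finset.card_sdiff_of_subset, cardA, cardA, D.cE]
    intro y hy
    simp only [Finset.mem_filter, Finset.mem_univ, true_and] at hy ⊢
    exact hEA hy
  have hcls : ∀ x : S, (Finset.univ.filter (fun y => s.r y x)).card = 12 := by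
    intro x
    obtain ⟨A, hEA, hA16, hmem, hcomm⟩ := D.exists_A x.1 x.2
    have h1 : (Finset.univ.filter (fun y => s.r y x)) =
        Finset.univ.filter (fun y : S => y.1 ∈ A) := by
      ext y
      simp only [Finset.mem_filter, Finset.mem_univ, true_and]
      constructor
      · intro h
        rw [hmem]
        exact Or.inr ((fusP x.1 x.2 y.1).1 (IsConj.symm h))
      · intro h
        rw [hmem] at h
        exact IsConj.symm ((fusP x.1 x.2 y.1).2 (h.resolve_left y.2))
    rw [h1, hmap (fun y => y ∈ A), hSA A hEA, hA16]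
  have hS60 : Fintype.card S = 60 := by
    have h1 := hmap (fun _ => True)
    have h2 := hSA ⊤ le_top
    rw [Subgroup.card_top, D.cR] at h2
    simp only [Subgroup.mem_top, and_true] at h2
    simp only [and_true, Finset.filter_true, Finset.card_univ] at h1
    rw [h1, h2]
  obtain ⟨x, hxne, hxsum⟩ := reps s hS60 hcls
  -- integral values
  have hint := fun (χ : IrrCharacter G) (y : ↥(P : Subgroup G)) => int_val D fusP χ y
  choose V hV using hint
  have hVconj : ∀ χ : IrrCharacter G, ∀ y y' : ↥(P : Subgroup G), IsConj (y : G) (y' : G) →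
      V χ y = V χ y' := by
    intro χ y y' h
    obtain ⟨g, hg⟩ := isConj_iff.1 h
    have h1 : (χ : G → ℂ) (y' : G) = (χ : G → ℂ) (y : G) := by
      rw [← hg]; exact irr_class χ _ g
    rw [hV, hV] at h1
    exact_mod_cast h1.symm
  have hdeg : ∀ χ : IrrCharacter G, (χ : G → ℂ) 1 = ((charDegree (χ : G → ℂ) : ℤ) : ℂ) := by
    intro χ
    rw [← charDegree_irr]; push_cast; rfl
  have hwE : ∀ χ : IrrCharacter G, ∀ e ∈ E, e ≠ 1 → (χ : G → ℂ) (e : G) = V χ z := by
    intro χ e he he1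
    rw [hV, hVconj χ e z ((fusE e he he1 z).2 ⟨hz, hz1⟩)]
  -- divisibilities
  have hdivA : ∀ (χ : IrrCharacter G) (j : Fin 5),
      (16 : ℤ) ∣ (charDegree (χ : G → ℂ) : ℤ) + 3 * V χ z + 12 * V χ (x j).1 ∧
      (16 : ℤ) ∣ (charDegree (χ : G → ℂ) : ℤ) - V χ z := by
    intro χ j
    obtain ⟨A, hEA, hA16, hmem, hcomm⟩ := D.exists_A (x j).1 (x j).2
    refine int_A D χ hEA hA16 hcomm (hdeg χ) (hwE χ) ?_
    intro y hy hyE
    rw [hmem] at hy
    rw [hV, hVconj χ (x j).1 y ((fusP _ (x j).2 y).2 (hy.resolve_left hyE))]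
  have hdivP : ∀ χ : IrrCharacter G,
      (64 : ℤ) ∣ (charDegree (χ : G → ℂ) : ℤ) + 3 * V χ z + 12 * ∑ j, V χ (x j).1 := by
    intro χ
    obtain ⟨n, hn⟩ := @exists_mult G _ _ P _ (one _) χ
    have h1 : ∑ y : ↥(P : Subgroup G), (χ : G → ℂ) (y : G) * conj ((one ↥(P : Subgroup G)).1 y) =
        ∑ y : ↥(P : Subgroup G), (χ : G → ℂ) (y : G) := by
      refine Finset.sum_congr rfl fun y _ => ?_
      have : conj ((one ↥(P : Subgroup G)).1 y) = 1 := map_one _
      rw [this, mul_one]
    rw [h1, D.cR, ← Finset.sum_filter_add_sum_filter_not Finset.univ (fun y => y ∈ E)] at hn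
    have h2 : ∑ y ∈ Finset.univ.filter (fun y : ↥(P : Subgroup G) => y ∈ E), (χ : G → ℂ) (y : G) =
        (charDegree (χ : G → ℂ) : ℂ) + 3 * V χ z := by
      rw [← Finset.add_sum_erase _ _ (show (1 : ↥(P : Subgroup G)) ∈
        Finset.univ.filter (fun y : ↥(P : Subgroup G) => y ∈ E) by simp [E.one_mem])]
      have h3 : ∀ y ∈ (Finset.univ.filter (fun y : ↥(P : Subgroup G) => y ∈ E)).erase 1,
          (χ : G → ℂ) (y : G) = V χ z := by
        intro y hy
        have h4 := Finset.mem_erase.1 hy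
        exact hwE χ y (Finset.mem_filter.1 h4.2).2 h4.1
      rw [Finset.sum_congr rfl h3, Finset.sum_const, Finset.card_erase_of_mem (by simp [E.one_mem]),
        cardA, D.cE, charDegree_irr]
      simp
    have h3 : ∑ y ∈ Finset.univ.filter (fun y : ↥(P : Subgroup G) => y ∉ E), (χ : G → ℂ) (y : G) =
        12 * ∑ j, (V χ (x j).1 : ℂ) := by
      have h4 := hxsum (fun y => (χ : G → ℂ) (y.1 : G)) (by
        intro a b hab
        show (χ : G → ℂ) (a.1 : G) = (χ : G → ℂ) (b.1 : G)
        rw [hV, hV, hVconj χ a.1 b.1 hab])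
      rw [Finset.sum_congr rfl (fun j _ => (hV χ (x j).1).symm), ← h4]
      exact (Finset.sum_subtype (Finset.univ.filter (fun y : ↥(P : Subgroup G) => y ∉ E))
        (by intro y; simp) (fun y => (χ : G → ℂ) (y : G)))
    rw [h2, h3] at hn
    refine ⟨n, ?_⟩
    have h4 : ((charDegree (χ : G → ℂ) : ℤ) : ℂ) + 3 * V χ z + 12 * ∑ j, (V χ (x j).1 : ℂ) =
        64 * n := by
      push_cast at hn ⊢
      exact hn
    exact_mod_cast h4
  -- column relations
  have hconjV : ∀ χ : IrrCharacter G, ∀ y : ↥(P : Subgroup G),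
      conj ((χ : G → ℂ) (y : G)) = V χ y := by
    intro χ y
    rw [hV, map_intCast]
  have toI : ∀ (f : IrrCharacter G → ℤ) (c : ℤ), (∑ χ ∈ Bf M G, (f χ : ℂ)) = c →
      ∑ i : {χ // χ ∈ Bf M G}, f i.1 = c := by
    intro f c h
    have h1 : ∑ i : {χ // χ ∈ Bf M G}, f i.1 = ∑ χ ∈ Bf M G, f χ :=
      Finset.sum_coe_sort (Bf M G) f
    rw [h1]
    exact_mod_cast h
  have hone : one G ∈ Bf M G := mem_Bf.2 one_mem
  have hVone : ∀ y, V (one G) y = 1 := by
    intro y
    have h1 := hV (one G) y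
    have h2 : (one G : G → ℂ) (y : G) = 1 := rfl
    rw [h2] at h1
    exact_mod_cast h1.symm
  have hdone : charDegree (one G : G → ℂ) = 1 := by
    have h1 := charDegree_irr (one G)
    have h2 : (one G : G → ℂ) 1 = 1 := rfl
    rw [h2] at h1
    exact_mod_cast h1
  have hne1 : ∀ y : ↥(P : Subgroup G), y ≠ 1 → ((y : G)) ≠ 1 := fun y hy h => hy (Subtype.ext h)
  have hxj1 : ∀ j, (x j).1 ≠ 1 := by
    intro j h
    exact (x j).2 (by rw [h]; exact E.one_mem)
  have hzx : ∀ j, ¬ IsConj (z : G) ((x j).1 : G) := fun j h => (x j).2 ((fusE z hz hz1 _).1 h).1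
  obtain ⟨i, hi, hui⟩ := core (ι := {χ // χ ∈ Bf M G}) ⟨one G, hone⟩
    (fun i => (charDegree (i.1 : G → ℂ) : ℤ)) (fun i => V i.1 z) (fun j i => V i.1 (x j).1)
    (fun i => by
      have := Nat.pos_of_ne_zero (charDegree_ne_zero i.1)
      exact_mod_cast this)
    (by show ((charDegree (one G : G → ℂ) : ℕ) : ℤ) = 1
        rw [hdone]; norm_num)
    (hVone z) (fun j => hVone _)
    (by
      intro j i
      have h1 := fun j => (hdivA i.1 j).1
      obtain ⟨m, hm⟩ := hdivP i.1
      choose n hn using h1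
      show (4 : ℤ) ∣ (∑ k, V i.1 (x k).1) - V i.1 (x j).1
      have h2 := hn j
      set a := (charDegree (i.1 : G → ℂ) : ℤ)
      have h3 : 3 * ((∑ k, V i.1 (x k).1) - V i.1 (x j).1) = 4 * (4 * m - n j) := by linarith
      omega)
    (fun i => (hdivA i.1 0).2)
    (fun i => hdivP i.1)
    (by
      intro j k
      apply toI (fun χ => V χ (x j).1 * V χ (x k).1)
      have h1 : ∑ χ ∈ Bf M G, ((V χ (x j).1 * V χ (x k).1 : ℤ) : ℂ) =
          ∑ χ ∈ Bf M G, (χ : G → ℂ) ((x j).1 : G) * conj ((χ : G → ℂ) ((x k).1 : G)) := by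
        refine Finset.sum_congr rfl fun χ _ => ?_
        rw [hconjV, hV]; push_cast; rfl
      rw [h1]
      by_cases hjk : j = k
      · rw [if_pos hjk, hjk, S_self hM (x k).1.2 (k := 4) (by
          have := hcP (x k).1 (x k).2
          rw [show (2 : ℕ) ^ 4 = 16 by norm_num]; exact this)]
        norm_num
      · rw [if_neg hjk, S_ne hM (x j).1.2 (x k).1.2 (hxne j k hjk)]
        norm_num)
    (by
      intro j
      apply toI (fun χ => V χ z * V χ (x j).1)
      have h1 : ∑ χ ∈ Bf M G, ((V χ z * V χ (x j).1 : ℤ) : ℂ) =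
          ∑ χ ∈ Bf M G, (χ : G → ℂ) (z : G) * conj ((χ : G → ℂ) ((x j).1 : G)) := by
        refine Finset.sum_congr rfl fun χ _ => ?_
        rw [hconjV, hV]; push_cast; rfl
      rw [h1, S_ne hM z.2 (x j).1.2 (hzx j)]
      norm_num)
    (by
      apply toI (fun χ => V χ z * V χ z)
      have h1 : ∑ χ ∈ Bf M G, ((V χ z * V χ z : ℤ) : ℂ) =
          ∑ χ ∈ Bf M G, (χ : G → ℂ) (z : G) * conj ((χ : G → ℂ) (z : G)) := by
        refine Finset.sum_congr rfl fun χ _ => ?_
        rw [hconjV, hV]; push_cast; rfl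
      rw [h1, S_self hM z.2 (k := 6) (by
        have := hcE z hz hz1
        rw [show (2 : ℕ) ^ 6 = 64 by norm_num]; exact this)]
      norm_num)
    (by
      intro j
      apply toI (fun χ => (charDegree (χ : G → ℂ) : ℤ) * V χ (x j).1)
      have h1 : ∑ χ ∈ Bf M G, (((charDegree (χ : G → ℂ) : ℤ) * V χ (x j).1 : ℤ) : ℂ) =
          ∑ χ ∈ Bf M G, (χ : G → ℂ) 1 * conj ((χ : G → ℂ) ((x j).1 : G)) := by
        refine Finset.sum_congr rfl fun χ _ => ?_
        rw [hconjV, hdeg]; push_cast; rfl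
      rw [h1, weak hM (by rw [orderOf_one]; norm_num)
        (two_dvd (x j).1.2 (hne1 _ (hxj1 j)))]
      norm_num)
    (by
      intro j
      have h1 := rel5 hM D (D.inv' z hz) (x j).2
      have h2 : ((∑ i : {χ // χ ∈ Bf M G}, ((V i.1 z : ℚ) ^ 2 / ((charDegree (i.1 : G → ℂ) : ℤ) : ℚ)) *
          (V i.1 (x j).1 : ℚ) : ℚ) : ℂ) =
          ∑ χ ∈ Bf M G, ((χ : G → ℂ) z) ^ 2 / (χ : G → ℂ) 1 * (χ : G → ℂ) (x j).1 := by
        rw [← Finset.sum_coe_sort (Bf M G)]
        push_cast
        refine Finset.sum_congr rfl fun i _ => ?_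
        rw [hV, hV, hdeg]; push_cast; rfl
      rw [h1] at h2
      exact_mod_cast h2)
  -- a nontrivial linear character
  intro htop
  apply hi
  have hd1 : (i.1 : G → ℂ) 1 = 1 := by
    rw [hdeg]
    have : ((charDegree (i.1 : G → ℂ) : ℕ) : ℤ) = 1 := hui
    rw [this]; norm_num
  obtain ⟨f, hf⟩ := H18.CharQuot.exists_hom_of_degree_one (irr_char i.1) hd1
  have hker : ∀ g : G, f g = 1 := by
    intro g
    have h1 := Abelianization.commutator_subset_ker f
    rw [htop] at h1
    exact MonoidHom.mem_ker.1 (h1 (Subgroup.mem_top g))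
  apply Subtype.ext
  apply Subtype.ext
  funext g
  have h1 : (i.1 : G → ℂ) g = (f g : ℂ) := congrFun hf g
  rw [hker] at h1
  exact h1.trans rfl

end main

end H81.Pu4
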