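import Mathlib
import Cfsg.Agent.Lib.H14.PermMod

/-!
# Lattices over valuation rings of `ℂ`

Every complex representation of a finite group can be written over any valuation subring of `ℂ`.
The norm element of a `p`-group kills small matrix algebras in characteristic `p`.
-/

set_option autoImplicit false
set_option linter.unusedSectionVars false
set_option linter.style.haveILetI false

namespace H81.Lattice

open Module

/-- a valuation subring of `ℂ` with `p` in the maximal ideal -/
theorem exists_valuationSubring (p : ℕ) [hp : Fact p.Prime] :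
    ∃ R : ValuationSubring ℂ, (p : ℂ) ∈ R.nonunits := by
  let A : Subring ℂ := (Int.castRingHom ℂ).range
  let e : ℤ →+* A := (Int.castRingHom ℂ).rangeRestrict
  have hpA : (p : ℂ) ∈ A := ⟨(p : ℤ), by simp⟩
  have hI : Ideal.span {(⟨(p : ℂ), hpA⟩ : A)} ≠ ⊤ := by
    intro h
    rw [Ideal.span_singleton_eq_top] at h
    obtain ⟨b, hb⟩ := isUnit_iff_exists_inv.1 h
    obtain ⟨z, hz⟩ := b.2
    have h1 := congrArg Subtype.val hb
    have h2 : (p : ℂ) * ((z : ℤ) : ℂ) = 1 := by
      have h3 : (p : ℂ) * (b : ℂ) = 1 := h1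
      rw [← hz] at h3
      exact h3
    have h3 : (p : ℤ) * z = 1 := by exact_mod_cast h2
    have h4 : (p : ℤ) ∣ 1 := ⟨z, h3.symm⟩
    have h5 : p ∣ 1 := by exact_mod_cast h4
    exact hp.out.one_lt.ne' (Nat.dvd_one.1 h5)
  obtain ⟨B, hB1, hB2⟩ := Ideal.image_subset_nonunits_valuationSubring _ hI
  exact ⟨B, hB2 ⟨_, Ideal.subset_span rfl, rfl⟩⟩

section lattice
variable (R : ValuationSubring ℂ) {G : Type*} [Group G] [Finite G] {n : ℕ}

/-- a `G`-stable `R`-lattice -/
theorem exists_lattice (ρ : Representation ℂ G (Fin n → ℂ)) :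
    ∃ b : Basis (Fin n) ℂ (Fin n → ℂ), ∀ g i j, LinearMap.toMatrix b b (ρ g) i j ∈ R := by
  classical
  let S : Set (Fin n → ℂ) := Set.range (fun x : G × Fin n => ρ x.1 (Pi.single x.2 1))
  have hSfin : S.Finite := Set.finite_range _
  let L : Submodule R (Fin n → ℂ) := Submodule.span R S
  have hfg : L.FG := Submodule.fg_span hSfin
  haveI : Module.Finite R L := Module.Finite.iff_fg.2 hfg
  haveI : Module.Flat R L := by
    rw [Module.Flat.flat_iff_torsion_eq_bot_of_isBezout, ← Submodule.isTorsionFree_iff_torsion_eq_bot]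
    infer_instance
  haveI : Module.Free R L := Module.free_of_flat_of_isLocalRing
  let b0 := Module.Free.chooseBasis R L
  have hstab : ∀ g : G, ∀ x ∈ L, ρ g x ∈ L := by
    intro g x hx
    induction hx using Submodule.span_induction with
    | mem x hx =>
      obtain ⟨⟨h, i⟩, rfl⟩ := hx
      apply Submodule.subset_span
      refine ⟨(g * h, i), ?_⟩
      show ρ (g * h) _ = ρ g (ρ h _)
      rw [map_mul]; rfl
    | zero => rw [map_zero]; exact L.zero_mem
    | add x y _ _ hx hy => rw [map_add]; exact L.add_mem hx hy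
    | smul c x _ hx =>
      have : ρ g (c • x) = c • ρ g x := by
        rw [show c • x = (c : ℂ) • x from rfl, map_smul]; rfl
      rw [this]
      exact L.smul_mem c hx
  have hli : LinearIndependent ℂ (fun i => (b0 i : Fin n → ℂ)) := by
    rw [← LinearIndependent.iff_fractionRing (R := R)]
    have h1 := b0.linearIndependent
    exact h1.map' L.subtype (Submodule.ker_subtype L)
  have hsp : ⊤ ≤ Submodule.span ℂ (Set.range (fun i => (b0 i : Fin n → ℂ))) := by
    have h1 : ∀ x ∈ L, x ∈ Submodule.span ℂ (Set.range (fun i => (b0 i : Fin n → ℂ))) := by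
      intro x hx
      have h2 := b0.sum_repr ⟨x, hx⟩
      have h3 := congrArg Subtype.val h2
      rw [AddSubmonoidClass.coe_finsetSum] at h3
      have h4 : x = ∑ i, ((b0.repr ⟨x, hx⟩) i : ℂ) • (b0 i : Fin n → ℂ) := h3.symm
      rw [h4]
      exact Submodule.sum_mem _ fun i _ => Submodule.smul_mem _ _ (Submodule.subset_span ⟨i, rfl⟩)
    have h5 : ∀ i : Fin n, (Pi.single i (1 : ℂ) : Fin n → ℂ) ∈ L := by
      intro i
      apply Submodule.subset_span
      refine ⟨(1, i), ?_⟩
      show ρ 1 _ = _
      rw [map_one]; rfl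
    intro x _
    rw [← (Pi.basisFun ℂ (Fin n)).sum_repr x]
    refine Submodule.sum_mem _ fun i _ => Submodule.smul_mem _ _ ?_
    rw [Pi.basisFun_apply]
    exact h1 _ (h5 i)
  let b1 : Basis (Module.Free.ChooseBasisIndex R L) ℂ (Fin n → ℂ) := Basis.mk hli hsp
  have hcard : Fintype.card (Module.Free.ChooseBasisIndex R L) = n := by
    have h1 := Module.finrank_eq_card_basis b1
    rw [Module.finrank_fin_fun] at h1
    exact h1.symm
  let e : Module.Free.ChooseBasisIndex R L ≃ Fin n := Fintype.equivFinOfCardEq hcard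
  refine ⟨b1.reindex e, ?_⟩
  intro g i j
  rw [LinearMap.toMatrix_apply, Basis.reindex_apply]
  obtain ⟨y, hy⟩ : ∃ y : L, (y : Fin n → ℂ) = ρ g (b1 (e.symm j)) := by
    have h1 : b1 (e.symm j) = (b0 (e.symm j) : Fin n → ℂ) := Basis.mk_apply hli hsp _
    rw [h1]
    exact ⟨⟨_, hstab g _ (b0 (e.symm j)).2⟩, rfl⟩
  rw [← hy]
  have h2 : ((b1.reindex e).repr (y : Fin n → ℂ)) i = ((b0.repr y (e.symm i) : R) : ℂ) := by
    rw [Basis.repr_reindex, Finsupp.mapDomain_equiv_apply]
    have h3 : (y : Fin n → ℂ) = ∑ k, ((b0.repr y) k : ℂ) • b1 k := by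
      conv_lhs => rw [← b0.sum_repr y]
      rw [AddSubmonoidClass.coe_finsetSum]
      apply Finset.sum_congr rfl
      intro k _
      rw [show b1 k = (b0 k : Fin n → ℂ) from Basis.mk_apply hli hsp _]
      rfl
    conv_lhs => rw [h3]
    rw [map_sum, Finsupp.finsetSum_apply]
    simp only [map_smul, Basis.repr_self, Finsupp.smul_apply, smul_eq_mul]
    rw [Finset.sum_eq_single (e.symm i)]
    · rw [Finsupp.single_eq_same, mul_one]
    · intro k _ hk
      rw [Finsupp.single_eq_of_ne hk.symm, mul_zero]
    · intro h; exact absurd (Finset.mem_univ _) h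
  rw [h2]
  exact (b0.repr y (e.symm i)).2

end lattice

/-! ### the norm element of a `p`-group -/

section norm
variable {k : Type*} [Field k] {p : ℕ} [Fact p.Prime] [CharP k p] {P : Type*} [Group P] [Fintype P]
  {U : Type*} [AddCommGroup U] [Module k U] [Module.Finite k U]

/-- if the norm element does not kill `u` then the orbit of `u` is linearly independent -/
theorem linearIndependent_of_norm (hP : IsPGroup p P) (τ : Representation k P U) {u : U}
    (h : ∑ x : P, τ x u ≠ 0) : LinearIndependent k (fun x : P => τ x u) := by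
  classical
  let φ : (P → k) →ₗ[k] U := Fintype.linearCombination k (fun x : P => τ x u)
  have hφ : ∀ c, φ c = ∑ x, c x • τ x u := fun c => rfl
  let ρ : Representation k P (P → k) :=
    { toFun := fun g => LinearMap.funLeft k k (fun x => g⁻¹ * x)
      map_one' := by
        ext c x
        simp [LinearMap.funLeft]
      map_mul' := fun g h => by
        ext c x
        simp [LinearMap.funLeft, mul_assoc] }
  have hρ : ∀ g c x, ρ g c x = c (g⁻¹ * x) := fun g c x => rfl
  rw [linearIndependent_iff_injective_fintypeLinearCombination, ← LinearMap.ker_eq_bot]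
  by_contra hne
  have hinv : ∀ g, ∀ w ∈ LinearMap.ker φ, ρ g w ∈ LinearMap.ker φ := by
    intro g w hw
    rw [LinearMap.mem_ker, hφ] at hw ⊢
    have h1 : ∑ x, (ρ g w) x • τ x u = τ g (∑ x, w x • τ x u) := by
      rw [map_sum]
      rw [← Equiv.sum_comp (Equiv.mulLeft g)]
      apply Finset.sum_congr rfl
      intro x _
      rw [hρ, map_smul, Equiv.coe_mulLeft, inv_mul_cancel_left, map_mul]
      rfl
    rw [h1, hw, map_zero]
  obtain ⟨w, hw, hw0, hfix⟩ := H14.PermMod.exists_fixed_vector hP ρ (LinearMap.ker φ) hinv hne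
  have hconst : ∀ x, w x = w 1 := by
    intro x
    have := congrFun (hfix x) x
    rw [hρ, inv_mul_cancel] at this
    exact this.symm
  have hw1 : w 1 ≠ 0 := by
    intro h1
    apply hw0
    funext x
    rw [hconst x, h1]; rfl
  rw [LinearMap.mem_ker, hφ] at hw
  simp only [hconst] at hw
  rw [← Finset.smul_sum] at hw
  exact h ((smul_eq_zero.1 hw).resolve_left hw1)

/-- the norm element of a `p`-group kills matrix algebras of dimension at most `|P|` -/
theorem norm_zero (hP : IsPGroup p P) (h1 : 1 < Fintype.card P) {n : ℕ} (hn : n ^ 2 ≤ Fintype.card P)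
    (A : P →* Matrix (Fin n) (Fin n) k) (a : Matrix (Fin n) (Fin n) k) :
    ∑ x : P, A x * a * A x⁻¹ = 0 := by
  classical
  by_contra hne
  let τ : Representation k P (Matrix (Fin n) (Fin n) k) :=
    { toFun := fun x => (LinearMap.mulLeft k (A x)).comp (LinearMap.mulRight k (A x⁻¹))
      map_one' := by
        ext c
        simp
      map_mul' := fun x y => by
        apply LinearMap.ext
        intro c
        simp [mul_assoc] }
  have hτ : ∀ x c, τ x c = A x * c * A x⁻¹ := by
    intro x c
    show A x * (c * A x⁻¹) = _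
    rw [mul_assoc]
  have hli := linearIndependent_of_norm hP τ (u := a) (by simpa only [hτ] using hne)
  have hfr : Module.finrank k (Matrix (Fin n) (Fin n) k) = n ^ 2 := by
    rw [Module.finrank_matrix]; simp [sq]
  have hcard : Fintype.card P = n ^ 2 := by
    have := hli.fintype_card_le_finrank
    rw [hfr] at this
    exact le_antisymm this hn
  have hn2 : 2 ≤ n := by
    by_contra hlt
    have : n ^ 2 ≤ 1 ^ 2 := Nat.pow_le_pow_left (by omega) 2
    omega
  -- fixed points are one dimensional
  have hfixed : ∀ c : Matrix (Fin n) (Fin n) k, (∀ x, τ x c = c) → ∃ s : k, c = s • ∑ x : P, τ x a := by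
    intro c hc
    have hspan : Submodule.span k (Set.range (fun x : P => τ x a)) = ⊤ :=
      hli.span_eq_top_of_card_eq_finrank' (by rw [hfr, hcard])
    let b := Basis.mk hli hspan.ge
    have hb : ∀ x, b x = τ x a := Basis.mk_apply hli hspan.ge
    have h2 : c = ∑ x, b.repr c x • τ x a := by
      conv_lhs => rw [← b.sum_repr c]
      simp only [hb]
    refine ⟨b.repr c 1, ?_⟩
    have h3 : ∀ y, b.repr c y = b.repr c 1 := by
      intro y
      have h6 : τ y c = ∑ x, b.repr c x • τ (y * x) a := by
        conv_lhs => rw [h2, map_sum]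
        apply Finset.sum_congr rfl
        intro x _
        rw [map_smul, map_mul]
        rfl
      have h4 : c = ∑ x, b.repr c (y⁻¹ * x) • b x := by
        rw [hc y] at h6
        refine h6.trans ?_
        rw [← Equiv.sum_comp (Equiv.mulLeft y) (fun x => b.repr c (y⁻¹ * x) • b x)]
        apply Finset.sum_congr rfl
        intro x _
        rw [Equiv.coe_mulLeft, inv_mul_cancel_left, hb]
      have h5 : b.repr c y = b.repr (∑ x, b.repr c (y⁻¹ * x) • b x) y := by rw [← h4]
      rw [Basis.repr_sum_self, inv_mul_cancel] at h5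
      exact h5
    conv_lhs => rw [h2]
    simp only [h3]
    rw [Finset.smul_sum]
  -- the identity
  obtain ⟨s, hs⟩ := hfixed 1 (fun x => by rw [hτ, mul_one, ← map_mul, mul_inv_cancel, map_one])
  -- a fixed vector and a fixed functional
  have hne0 : (⊤ : Submodule k (Fin n → k)) ≠ ⊥ := by
    haveI : Nonempty (Fin n) := ⟨⟨0, by omega⟩⟩
    exact top_ne_bot
  let ρ1 : Representation k P (Fin n → k) :=
    { toFun := fun x => (A x).mulVecLin
      map_one' := by rw [map_one, Matrix.mulVecLin_one]; rfl
      map_mul' := fun x y => by rw [map_mul, Matrix.mulVecLin_mul]; rfl }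
  let ρ2 : Representation k P (Fin n → k) :=
    { toFun := fun x => (A x⁻¹).vecMulLinear
      map_one' := by
        apply LinearMap.ext; intro v
        show Matrix.vecMul v (A 1⁻¹) = v
        rw [inv_one, map_one, Matrix.vecMul_one]
      map_mul' := fun x y => by
        apply LinearMap.ext; intro v
        show Matrix.vecMul v (A (x * y)⁻¹) = Matrix.vecMul (Matrix.vecMul v (A y⁻¹)) (A x⁻¹)
        rw [mul_inv_rev, map_mul, Matrix.vecMul_vecMul] }
  obtain ⟨v, -, hv0, hv⟩ := H14.PermMod.exists_fixed_vector hP ρ1 ⊤ (fun _ _ _ => trivial) hne0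
  obtain ⟨f, -, hf0, hf⟩ := H14.PermMod.exists_fixed_vector hP ρ2 ⊤ (fun _ _ _ => trivial) hne0
  have hv' : ∀ x, (A x).mulVec v = v := hv
  have hf' : ∀ x, Matrix.vecMul f (A x⁻¹) = f := hf
  obtain ⟨t, ht⟩ := hfixed (Matrix.vecMulVec v f) (fun x => by
    rw [hτ, Matrix.mul_vecMulVec, Matrix.vecMulVec_mul, hv', hf'])
  -- so `v f = r • 1`
  have hs0 : s ≠ 0 := by
    intro h0
    rw [h0, zero_smul] at hs
    have := congrFun (congrFun hs ⟨0, by omega⟩) ⟨0, by omega⟩
    simp at this
  have hvf : Matrix.vecMulVec v f = (t * s⁻¹) • (1 : Matrix (Fin n) (Fin n) k) := by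
    rw [ht]
    conv_rhs => rw [hs]
    rw [smul_smul, mul_assoc, inv_mul_cancel₀ hs0, mul_one]
  obtain ⟨i, hi⟩ : ∃ i, v i ≠ 0 := by
    by_contra hcon
    push Not at hcon
    exact hv0 (funext hcon)
  obtain ⟨j, hj⟩ : ∃ j, f j ≠ 0 := by
    by_contra hcon
    push Not at hcon
    exact hf0 (funext hcon)
  have hr : t * s⁻¹ ≠ 0 := by
    intro h0
    rw [h0, zero_smul] at hvf
    have := congrFun (congrFun hvf i) j
    rw [Matrix.vecMulVec_apply] at this
    exact (mul_ne_zero hi hj) this
  -- off-diagonal entries vanish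
  have hoff : ∀ a b : Fin n, a ≠ b → v a * f b = 0 := by
    intro a b hab
    have := congrFun (congrFun hvf a) b
    rw [Matrix.vecMulVec_apply, Matrix.smul_apply, Matrix.one_apply_ne hab, smul_zero] at this
    exact this
  have hdiag : ∀ a : Fin n, v a * f a = t * s⁻¹ := by
    intro a
    have := congrFun (congrFun hvf a) a
    rw [Matrix.vecMulVec_apply, Matrix.smul_apply, Matrix.one_apply_eq, smul_eq_mul, mul_one] at this
    exact this
  have h0 := hdiag ⟨0, by omega⟩
  have h1' := hdiag ⟨1, by omega⟩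
  have h2 := hoff ⟨0, by omega⟩ ⟨1, by omega⟩ (by simp)
  have h3 : v ⟨0, by omega⟩ ≠ 0 := fun h => hr (by rw [← h0, h, zero_mul])
  have h4 : f ⟨1, by omega⟩ ≠ 0 := fun h => hr (by rw [← h1', h, mul_zero])
  exact (mul_ne_zero h3 h4) h2

end norm

end H81.Lattice
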