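import Cfsg.Agent.Lib.H81.ClassCount
import Cfsg.Agent.Lib.H20.Orth
import Cfsg.Agent.Lib.H20.Height

/-!
# Blocks for two primes
-/

set_option autoImplicit false
set_option linter.unusedSectionVars false
set_option linter.unusedVariables false
set_option linter.style.haveILetI false
open Cfsg H20.Loc H20.GA H20.Blk H20.Orth H20.Height
open scoped ComplexConjugate

namespace H81.TwoPrimes

open H18.CharBasic

universe u
variable {G : Type u} [Group G] [Finite G] {Mp Mq : Ideal AlgInt} {p q : ℕ}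

theorem not_dvd_q (hp : p.Prime) (hq : q.Prime) (hpq : p ≠ q)
    (hno : ∀ g : G, orderOf g ≠ p * q) {z : G} (hz : p ∣ orderOf z) : ¬ q ∣ orderOf z := by
  intro hc
  have h1 : p * q ∣ orderOf z :=
    Nat.Coprime.mul_dvd_of_dvd_of_dvd ((Nat.coprime_primes hp hq).2 hpq) hz hc
  obtain ⟨m, hm⟩ := h1
  have hm0 : m ≠ 0 := by
    intro h0
    rw [h0, mul_zero] at hm
    exact (orderOf_pos z).ne' hm
  refine hno (z ^ m) ?_
  rw [orderOf_pow_of_dvd hm0 ⟨p * q, by rw [hm]; ring⟩, hm]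
  exact Nat.mul_div_cancel _ (Nat.pos_of_ne_zero hm0)

theorem sum_eq_zero [Fintype (IrrCharacter G)] (hMp : IsPModular p Mp) (hMq : IsPModular q Mq)
    (hpq : p ≠ q) (hno : ∀ g : G, orderOf g ≠ p * q)
    {Sp Sq : Set (IrrCharacter G)} [DecidablePred (· ∈ Sp)] [DecidablePred (· ∈ Sq)]
    (hSp : IsUnion Mp Sp) (hSq : IsUnion Mq Sq) {y g : G} (hy : p ∣ orderOf y)
    (hg : q ∣ orderOf g) :
    ∑ χ : IrrCharacter G, (if χ ∈ Sp then (if χ ∈ Sq then (χ : G → ℂ) y * conj ((χ : G → ℂ) g)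
      else 0) else 0) = 0 := by
  classical
  letI := Fintype.ofFinite G
  let h : G → ℂ := fun z => ∑ ψ : IrrCharacter G,
    (if ψ ∈ Sp then (ψ : G → ℂ) y * conj ((ψ : G → ℂ) z) else 0)
  have h0 : ∀ z, ¬ p ∣ orderOf z → h z = 0 := by
    intro z hz
    have h1 := weak_orth hMp hSp hz hy
    have h2 := congrArg conj h1
    rw [map_sum, map_zero] at h2
    refine Eq.trans (Finset.sum_congr rfl fun ψ _ => ?_) h2
    split_ifs
    · rw [map_mul, Complex.conj_conj, mul_comm]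
    · rw [map_zero]
  have h1 : ∀ χ : IrrCharacter G, (Nat.card G : ℂ)⁻¹ * ∑ z : G, h z * (χ : G → ℂ) z =
      if χ ∈ Sp then (χ : G → ℂ) y else 0 := by
    intro χ
    simp only [h]
    simp_rw [Finset.sum_mul]
    rw [Finset.sum_comm, Finset.mul_sum]
    rw [Finset.sum_eq_single χ]
    · by_cases hχ : χ ∈ Sp
      · simp only [if_pos hχ]
        have h2 := H18.CharOrtho.inner_irr χ.2 χ.2
        rw [if_pos rfl, classInner] at h2
        have h3 : ∑ z : G, (χ : G → ℂ) y * conj ((χ : G → ℂ) z) * (χ : G → ℂ) z =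
            (χ : G → ℂ) y * ∑ z : G, (χ : G → ℂ) z * conj ((χ : G → ℂ) z) := by
          rw [Finset.mul_sum]
          exact Finset.sum_congr rfl fun z _ => by ring
        rw [h3, mul_left_comm, h2, mul_one]
      · simp only [if_neg hχ, zero_mul, Finset.sum_const_zero, mul_zero]
    · intro ψ _ hψ
      by_cases hψ' : ψ ∈ Sp
      · simp only [if_pos hψ']
        have h2 := H18.CharOrtho.inner_irr χ.2 ψ.2
        rw [if_neg (fun hc => hψ (Subtype.ext hc).symm), classInner] at h2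
        have h3 : ∑ z : G, (ψ : G → ℂ) y * conj ((ψ : G → ℂ) z) * (χ : G → ℂ) z =
            (ψ : G → ℂ) y * ∑ z : G, (χ : G → ℂ) z * conj ((ψ : G → ℂ) z) := by
          rw [Finset.mul_sum]
          exact Finset.sum_congr rfl fun z _ => by ring
        rw [h3, mul_left_comm, h2, mul_zero]
      · simp only [if_neg hψ', zero_mul, Finset.sum_const_zero, mul_zero]
    · intro hc; exact absurd (Finset.mem_univ _) hc
  have h2 : ∑ χ : IrrCharacter G, (if χ ∈ Sp then (if χ ∈ Sq then (χ : G → ℂ) y *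
      conj ((χ : G → ℂ) g) else 0) else 0) =
      (Nat.card G : ℂ)⁻¹ * ∑ z : G, h z * ∑ χ : IrrCharacter G,
        (if χ ∈ Sq then (χ : G → ℂ) z * conj ((χ : G → ℂ) g) else 0) := by
    simp_rw [Finset.mul_sum]
    rw [Finset.sum_comm]
    refine Finset.sum_congr rfl fun χ _ => ?_
    by_cases hχ : χ ∈ Sq
    · simp only [if_pos hχ]
      have h3 : ∑ z : G, (Nat.card G : ℂ)⁻¹ * (h z * ((χ : G → ℂ) z * conj ((χ : G → ℂ) g))) =
          ((Nat.card G : ℂ)⁻¹ * ∑ z : G, h z * (χ : G → ℂ) z) * conj ((χ : G → ℂ) g) := by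
        rw [Finset.mul_sum, Finset.sum_mul]
        exact Finset.sum_congr rfl fun z _ => by ring
      rw [h3, h1]
      split_ifs <;> simp
    · simp only [if_neg hχ, mul_zero, Finset.sum_const_zero, ite_self]
  rw [h2]
  have h3 : ∀ z : G, h z * ∑ χ : IrrCharacter G,
        (if χ ∈ Sq then (χ : G → ℂ) z * conj ((χ : G → ℂ) g) else 0) = 0 := by
    intro z
    by_cases hz : p ∣ orderOf z
    · rw [weak_orth hMq hSq (not_dvd_q (pm_prime hMp) (pm_prime hMq) hpq hno hz) hg, mul_zero]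
    · rw [h0 z hz, zero_mul]
  simp_rw [h3]
  rw [Finset.sum_const_zero, mul_zero]

theorem main (hMp : IsPModular p Mp) (hMq : IsPModular q Mq)
    (hpq : p ≠ q) (hno : ∀ g : G, orderOf g ≠ p * q)
    {Sp Sq : Set (IrrCharacter G)}
    (hSp : IsUnion Mp Sp) (hSq : IsUnion Mq Sq) {y : G} (hy : p ∣ orderOf y) :
    ∃ ω : AlgInt, ∑ᶠ χ ∈ Sp ∩ Sq, (charDegree (χ : G → ℂ) : ℂ) * (χ : G → ℂ) y =
      (q : ℂ) ^ ((Nat.card G).factorization q) * (ω : ℂ) := by
  classical
  haveI : Fact q.Prime := ⟨pm_prime hMq⟩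
  letI : Fintype (IrrCharacter G) := Fintype.ofFinite _
  obtain ⟨Q⟩ : Nonempty (Sylow q G) := inferInstance
  letI := Fintype.ofFinite (Q : Subgroup G)
  choose n hn using fun χ : IrrCharacter G =>
    H81.ClassCount.exists_mult (Q : Subgroup G) (isCharacter_of_isIrr χ.2)
  have hcard : Nat.card (Q : Subgroup G) = q ^ (Nat.card G).factorization q := Q.card_eq_multiplicity
  have hint : IsIntegral ℤ (∑ χ : IrrCharacter G, (if χ ∈ Sp then (if χ ∈ Sq then (χ : G → ℂ) y *
      (n χ : ℂ) else 0) else 0)) := by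
    refine IsIntegral.sum _ fun χ _ => ?_
    split_ifs
    · exact (irr_int χ y).mul (isIntegral_natCast (n χ))
    · exact isIntegral_zero
    · exact isIntegral_zero
  refine ⟨⟨_, hint⟩, ?_⟩
  have h1 : ∑ᶠ χ ∈ Sp ∩ Sq, (charDegree (χ : G → ℂ) : ℂ) * (χ : G → ℂ) y =
      ∑ χ : IrrCharacter G, (if χ ∈ Sp then (if χ ∈ Sq then (χ : G → ℂ) y *
      conj ((χ : G → ℂ) 1) else 0) else 0) := by
    rw [H20.Orth.finsum_mem_eq_sum]
    refine Finset.sum_congr rfl fun χ _ => ?_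
    have h2 : conj ((χ : G → ℂ) 1) = (charDegree (χ : G → ℂ) : ℂ) := by
      rw [← H20.Defect.charDegree_irr]
      simp
    rw [h2]
    by_cases h3 : χ ∈ Sp
    · by_cases h4 : χ ∈ Sq
      · rw [if_pos (Set.mem_inter h3 h4), if_pos h3, if_pos h4, mul_comm]
      · rw [if_neg (fun h => h4 h.2), if_pos h3, if_neg h4]
    · rw [if_neg (fun h => h3 h.1), if_neg h3]
  rw [h1]
  have h2 : ∑ u : (Q : Subgroup G), ∑ χ : IrrCharacter G, (if χ ∈ Sp then (if χ ∈ Sq then
      (χ : G → ℂ) y * conj ((χ : G → ℂ) (u : G)) else 0) else 0) =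
      ∑ χ : IrrCharacter G, (if χ ∈ Sp then (if χ ∈ Sq then (χ : G → ℂ) y *
      conj ((χ : G → ℂ) 1) else 0) else 0) := by
    rw [Finset.sum_eq_single (1 : (Q : Subgroup G))]
    · rfl
    · intro u _ hu
      refine sum_eq_zero hMp hMq hpq hno hSp hSq hy ?_
      obtain ⟨k, hk⟩ := IsPGroup.iff_orderOf.1 Q.isPGroup' u
      rw [Subgroup.orderOf_coe, hk]
      rcases Nat.eq_zero_or_pos k with h0 | h0
      · rw [h0, pow_zero, orderOf_eq_one_iff] at hk
        exact absurd hk hu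
      · exact dvd_pow_self q h0.ne'
    · intro hc; exact absurd (Finset.mem_univ _) hc
  rw [← h2, Finset.sum_comm]
  rw [← Nat.cast_pow, ← hcard]
  change _ = (Nat.card (Q : Subgroup G) : ℂ) * ∑ χ : IrrCharacter G, (if χ ∈ Sp then
    (if χ ∈ Sq then (χ : G → ℂ) y * (n χ : ℂ) else 0) else 0)
  rw [Finset.mul_sum]
  refine Finset.sum_congr rfl fun χ _ => ?_
  by_cases h3 : χ ∈ Sp
  · by_cases h4 : χ ∈ Sq
    · simp only [if_pos h3, if_pos h4]
      rw [← Finset.mul_sum, hn χ]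
      ring
    · simp only [if_neg h4, if_pos h3, Finset.sum_const_zero, mul_zero]
  · simp only [if_neg h3, Finset.sum_const_zero, mul_zero]

end H81.TwoPrimes
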