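import Mathlib
import Cfsg.Agent.Lib.H4.Eigen
import Cfsg.Agent.Lib.H18.CharBasic

/-!
# Counting eigenvalues and determinants (H81.EigenCount)
-/

set_option autoImplicit false
set_option linter.unusedSectionVars false
set_option linter.unusedVariables false
open Cfsg
open scoped ComplexConjugate

namespace H81.EigenCount

universe u v

/-- geometric sums of roots of unity -/
theorem geom_sum_root {n : ℕ} (hn : n ≠ 0) {z : ℂ} (hz : z ^ n = 1) :
    ∑ k ∈ Finset.range n, z ^ k = if z = 1 then (n : ℂ) else 0 := by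
  split_ifs with h
  · subst h; simp
  · have h1 := mul_geom_sum z n
    rw [hz, sub_self] at h1
    exact (mul_eq_zero.1 h1).resolve_left (sub_ne_zero.2 h)

/-- the multiplicity of an eigenvalue as a character sum -/
theorem card_eigen {d n : ℕ} (hn : n ≠ 0) (μ : Fin d → ℂ) (hμ : ∀ i, μ i ^ n = 1) {ζ : ℂ}
    (hζ : ζ ^ n = 1) :
    (n : ℂ) * ((Finset.univ.filter (fun i => μ i = ζ)).card : ℂ) =
      ∑ k ∈ Finset.range n, (ζ⁻¹) ^ k * ∑ i, μ i ^ k := by
  have hζ0 : ζ ≠ 0 := by
    rintro rfl
    rw [zero_pow hn] at hζ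
    exact zero_ne_one hζ
  simp only [Finset.mul_sum]
  rw [Finset.sum_comm]
  have h1 : ∀ i, ∑ k ∈ Finset.range n, (ζ⁻¹) ^ k * μ i ^ k = if μ i = ζ then (n : ℂ) else 0 := by
    intro i
    simp only [← mul_pow]
    rw [geom_sum_root hn (by rw [mul_pow, inv_pow, hζ, hμ i]; simp)]
    congr 1
    rw [inv_mul_eq_one₀ hζ0]
    exact propext ⟨fun h => h.symm, fun h => h.symm⟩
  simp only [h1]
  rw [← Finset.sum_filter, Finset.sum_const, nsmul_eq_mul]
  ring

variable {G : Type u} [Group G]

/-- determinants of a representation of a perfect group are one -/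
theorem det_eq_one_of_perfect {V : Type v} [AddCommGroup V] [Module ℂ V] [FiniteDimensional ℂ V]
    (ρ : Representation ℂ G V) (h : commutator G = ⊤) (g : G) : LinearMap.det (ρ g) = 1 := by
  let f : G →* ℂ := LinearMap.det.comp ρ
  have h1 : f.toHomUnits g = 1 := by
    have hg : g ∈ commutator G := by rw [h]; exact Subgroup.mem_top g
    exact Abelianization.commutator_subset_ker f.toHomUnits hg
  have h2 : f g = 1 := by simpa using congrArg Units.val h1
  exact h2

/-- determinant from an eigenbasis -/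
theorem det_eq_prod {V : Type v} [AddCommGroup V] [Module ℂ V] {ι : Type*} [Fintype ι]
    [DecidableEq ι] (T : V →ₗ[ℂ] V) (b : Module.Basis ι ℂ V) (μ : ι → ℂ)
    (h : ∀ i, T (b i) = μ i • b i) : LinearMap.det T = ∏ i, μ i := by
  rw [← LinearMap.det_toMatrix b]
  have : LinearMap.toMatrix b b T = Matrix.diagonal μ := by
    ext i j
    rw [LinearMap.toMatrix_apply, h, map_smul]
    simp [Matrix.diagonal_apply, Finsupp.single_apply, eq_comm]
    split_ifs with hij
    · rw [hij]
    · rfl
  rw [this, Matrix.det_diagonal]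

end H81.EigenCount
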