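import Cfsg.Agent.Lib.H5.TCb
import Cfsg.Agent.Lib.H83.SdB
import Cfsg.Agent.Lib.H81.SpnE

/-!
# Two height zero characters proportional to orthogonal functions on the section of a noncentral involution
-/

set_option autoImplicit false
set_option linter.unusedSectionVars false
set_option linter.unusedVariables false

namespace H81.NoBoth

open Cfsg H20.Loc H20.GA H80.GA H80.GB H80.GD H80.GE H80.GF H80.GJ H80.FS H80.FS3 H84.RG H18.CharBasic H18.CharOrtho H18.CharInd H84.TrR
open H78.BlkCount H20.Blk H20.Orth H20.Ind H20.Height H20.Defect H80.BR1 H80.BR2 H19.Second H19.Second3 H81.Section H81.Contrib H84.Star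

universe u
attribute [local instance 2000] Fintype.ofFinite

section gen
variable {M : Ideal AlgInt} {G : Type u} [Group G] [Finite G] {p : ℕ}

/-- a class function supported on the section of `τ` is induced from the centralizer -/
theorem eq_indFun (hp : p.Prime) {τ : G} (hτ : ∃ k : ℕ, orderOf τ = p ^ k) {E : G → ℂ} (hE : IsClassFunction G E)
    (hv : ∀ g x : G, IsPPart p g x → ¬ IsConj x τ → E g = 0) :
    E = indFun (C τ) (shift τ (reg p (tw τ E))) := by
  classical
  have hpf : Fact p.Prime := ⟨hp⟩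
  have hcl : IsClassFunction (C τ) (reg p (tw τ E)) := reg_class (tw_class hE)
  have hreg : ∀ c : C τ, p ∣ orderOf c → reg p (tw τ E) c = 0 := fun c hc => reg_not hc
  funext g
  obtain ⟨x, hx⟩ := exists_isPPart hp g
  by_cases hc : IsConj x τ
  · obtain ⟨k, hk⟩ := isConj_iff.1 hc
    have h1 := isPPart_conj (h := k) hx
    rw [hk] at h1
    obtain ⟨y, hy1, hy2, hy3, hy4⟩ := h1
    have hyC : y ∈ C τ := by
      rw [Subgroup.mem_centralizer_singleton_iff]; exact hy2.eq.symm
    have h2 : E g = E (τ * ((⟨y, hyC⟩ : C τ) : G)) := by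
      rw [hy1]; exact (hE g k).symm
    have h3 : indFun (C τ) (shift τ (reg p (tw τ E))) g =
        indFun (C τ) (shift τ (reg p (tw τ E))) (τ * ((⟨y, hyC⟩ : C τ) : G)) := by
      rw [hy1]; exact (isClassFunction_indFun _ _ g k).symm
    have hyo : ¬ p ∣ orderOf (⟨y, hyC⟩ : C τ) := by rwa [← Subgroup.orderOf_coe]
    rw [h2, h3, indFun_shift_apply hp hτ hcl hreg hyo, reg_of hyo]
    rfl
  · rw [hv g x hx hc, indFun_apply]
    symm
    rw [Finset.sum_eq_zero, mul_zero]
    intro k _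
    by_cases hk : k⁻¹ * g * k ∈ C τ
    · rw [ext_mem _ _ hk]
      by_cases ho : p ∣ orderOf ((cy τ)⁻¹ * (⟨k⁻¹ * g * k, hk⟩ : C τ))
      · exact reg_not ho
      · exfalso
        apply hc
        have h1 : IsPPart p (k⁻¹ * g * k) τ := by
          refine ⟨(((cy τ)⁻¹ * (⟨k⁻¹ * g * k, hk⟩ : C τ) : C τ) : G), ?_, ?_, hτ, ?_⟩
          · push_cast
            rw [coe_cy, mul_inv_cancel_left]
          · exact (comm_mem _).symm
          · rwa [Subgroup.orderOf_coe]
        have h2 := isPPart_conj (h := k) h1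
        have e : k * (k⁻¹ * g * k) * k⁻¹ = g := by group
        rw [e] at h2
        have h3 := isPPart_unique hp hx h2
        rw [h3]
        exact (isConj_iff.2 ⟨k, rfl⟩).symm
    · exact ext_notMem _ _ hk

theorem inner_section (hp : p.Prime) {τ : G} (hτ : ∃ k : ℕ, orderOf τ = p ^ k) {E E' : G → ℂ} (hE : IsClassFunction G E)
    (hE' : IsClassFunction G E') (hv : ∀ g x : G, IsPPart p g x → ¬ IsConj x τ → E g = 0) :
    classInner E E' = classInner (reg p (tw τ E)) (reg p (tw τ E')) := by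
  conv_lhs => rw [eq_indFun hp hτ hE hv]
  rw [frobenius (C τ) _ hE', inner_shift, ← inner_reg_comm, H81.Contrib.reg_reg]

/-- if only one block of `C τ` induces the block of `Y` -/
theorem comp_eq_reg (hM : IsPModular p M) {B : Set (IrrCharacter G)} (hB : IsPBlock M B) {τ : G}
    (hτ : ∃ k : ℕ, orderOf τ = p ^ k) {f : Set (IrrCharacter (C τ))} (hf : IsInducedBlock M (C τ) f B)
    (hu : ∀ f' : Set (IrrCharacter (C τ)), IsInducedBlock M (C τ) f' B → f' = f) {Y : IrrCharacter G} (hY : Y ∈ B) :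
    comp p τ f (Y : G → ℂ) = reg p (tw τ (Y : G → ℂ)) := by
  classical
  have hpr := pm_isPrime hM
  have hcl : IsClassFunction (C τ) (tw τ (Y : G → ℂ)) := tw_class (irr_class Y)
  have h1 := sum_proj_blocks (M := M) hcl
  conv_rhs => rw [h1]
  rw [H81.Contrib.reg_sum, Finset.sum_eq_single f]
  · rw [if_pos hf.1]; rfl
  · intro b _ hbf
    split_ifs with hb
    · have hBY : B = blockOf M (Y : G → ℂ) := isPBlock_eq hB hY
      refine comp_eq_zero hM hb hτ Y ?_
      rw [← hBY]
      exact fun h => hbf (hu b h)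
    · exact reg_zero
  · intro h; exact absurd (Finset.mem_univ _) h

end gen

variable {M : Ideal AlgInt} [M.IsMaximal] {G : Type u} [Group G] [Finite G]
variable [CharP (ResF M) 2] [Algebra (ZMod 2) (ResF M)] [Algebra.IsAlgebraic (ZMod 2) (ResF M)]
  [IsAlgClosed (ResF M)]

/-- (Y) -/
theorem no_both (hM : IsPModular 2 M) {B : Set (IrrCharacter G)} (hB : IsPBlock M B) {D : Subgroup G}
    (hD : IsDefectGroup 2 M B D) {w τ : G} (hτ : τ ∈ D) (hτ2 : orderOf τ = 2) (hw2 : orderOf w = 2)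
    (hwc : ∀ g : G, g * w = w * g) (hτw : τ ≠ w)
    (hall : ∀ d ∈ D, d ≠ 1 → w ∈ Subgroup.zpowers d ∨ ∃ x ∈ D, d = x * τ * x⁻¹)
    {E E' : G → ℂ} (hE : E ∈ spn B) (hE' : E' ∈ spn B) (hr : reg 2 E = 0) (hr' : reg 2 E' = 0)
    (ho : classInner E E' = 0) (hA : ∀ c, w ∈ Subgroup.zpowers c → E c = 0) (hA' : ∀ c, w ∈ Subgroup.zpowers c → E' c = 0)
    {Y Y' : IrrCharacter G} (hY : Y ∈ B) (hY' : Y' ∈ B) (h0 : blockHeight 2 B (Y : G → ℂ) = 0)
    (h0' : blockHeight 2 B (Y' : G → ℂ) = 0) {a a' : ℂ} (ha : ∀ c, IsPPart 2 c τ → (Y : G → ℂ) c = a * E c)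
    (ha' : ∀ c, IsPPart 2 c τ → (Y' : G → ℂ) c = a' * E' c) : False := by
  classical
  haveI : Fact (Nat.Prime 2) := ⟨Nat.prime_two⟩
  have hpr := pm_isPrime hM
  have hτp : ∃ k : ℕ, orderOf τ = 2 ^ k := ⟨1, by rw [hτ2, pow_one]⟩
  have hw1 : w ≠ 1 := by
    rintro rfl
    rw [orderOf_one] at hw2; omega
  have hwconj : ∀ g : G, g * w * g⁻¹ = w := fun g => by rw [hwc, mul_inv_cancel_right]
  have hcD : ∀ g : G, g * τ * g⁻¹ ∈ D → ∃ d ∈ D, g * τ * g⁻¹ = d * τ * d⁻¹ := by
    intro g hg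
    have h1 : orderOf (g * τ * g⁻¹) = 2 := by rw [H20.Orth.orderOf_conj]; exact hτ2
    have h2 : g * τ * g⁻¹ ≠ 1 := by
      intro h3
      rw [h3, orderOf_one] at h1; omega
    rcases hall _ hg h2 with h3 | h3
    · exfalso
      apply hτw
      have h4 : w = g * τ * g⁻¹ := by
        obtain ⟨k, hk⟩ := Subgroup.mem_zpowers_iff.1 h3
        rcases Int.even_or_odd' k with ⟨j, hj | hj⟩
        · exfalso
          apply hw1
          have h5 : (g * τ * g⁻¹) ^ 2 = 1 := by rw [← h1]; exact pow_orderOf_eq_one _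
          rw [← hk, hj, zpow_mul, zpow_ofNat, h5, one_zpow]
        · have h5 : (g * τ * g⁻¹) ^ 2 = 1 := by rw [← h1]; exact pow_orderOf_eq_one _
          rw [← hk, hj, zpow_add, zpow_mul, zpow_ofNat, h5, one_zpow, one_mul, zpow_one]
      have h5 := hwconj g⁻¹
      rw [h4] at h5
      have h6 : g⁻¹ * (g * τ * g⁻¹) * g⁻¹⁻¹ = τ := by group
      rw [h6] at h5
      rw [h5, ← h4]
    · exact h3
  obtain ⟨f, hf⟩ := H79.KLOne.exists_sub hM hB hD hτ hτp
  have huniq : ∀ f' : Set (IrrCharacter (C τ)), IsInducedBlock M (C τ) f' B → f' = f := fun f' hf' =>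
    H83.SdB.unique_local hM hB hD hτ hcD hf' hf
  -- the functions are supported on the section of τ
  have hsupp : ∀ F : G → ℂ, F ∈ spn B → reg 2 F = 0 → (∀ c, w ∈ Subgroup.zpowers c → F c = 0) →
      ∀ g x : G, IsPPart 2 g x → ¬ IsConj x τ → F g = 0 := by
    intro F hF hFr hFA g x hx hc
    by_contra hne
    have h1 : ∃ χ ∈ B, (χ : G → ℂ) g ≠ 0 := by
      by_contra hcon
      push Not at hcon
      apply hne
      have h2 : spn B ≤ LinearMap.ker (LinearMap.proj g : (G → ℂ) →ₗ[ℂ] ℂ) := by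
        rw [spn, Submodule.span_le]
        rintro _ ⟨χ, hχ, rfl⟩
        exact hcon χ hχ
      exact h2 hF
    obtain ⟨χ, hχ, hχg⟩ := h1
    have h2 : ∃ D' : Subgroup G, IsDefectGroup 2 M B D' ∧ x ∈ D' := by
      by_contra hcon
      push Not at hcon
      apply hχg
      refine H19.Second2.vanish_off_defect hM χ g x hx ?_
      intro D' hD'
      rw [← isPBlock_eq hB hχ] at hD'
      exact hcon D' hD'
    obtain ⟨D', hD', hxD'⟩ := h2
    obtain ⟨k, rfl⟩ := H20.DefGrp.isDefectGroup_conj hM hB hD hD'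
    obtain ⟨d, hd, hdx⟩ := hxD'
    have hdx' : k * d * k⁻¹ = x := hdx
    have hx1 : x ≠ 1 := by
      intro h1
      obtain ⟨y, hy1, hy2, hy3, hy4⟩ := hx
      rw [h1, one_mul] at hy1
      apply hne
      have h3 := congrFun hFr g
      rw [reg_of (by rw [← hy1]; exact hy4)] at h3
      exact h3
    have hd1 : d ≠ 1 := by
      intro h1
      apply hx1
      rw [← hdx', h1]; group
    rcases hall d hd hd1 with h3 | ⟨x', hx', h3⟩
    · apply hne
      apply hFA
      have h4 : w ∈ Subgroup.zpowers x := by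
        obtain ⟨j, hj⟩ := Subgroup.mem_zpowers_iff.1 h3
        rw [Subgroup.mem_zpowers_iff]
        refine ⟨j, ?_⟩
        rw [← hdx', conj_zpow, hj, hwconj]
      exact (Subgroup.zpowers_le.2 (H20.First.isPPart_mem_zpowers hx)) h4
    · apply hc
      refine IsConj.symm (isConj_iff.2 ⟨k * x', ?_⟩)
      rw [← hdx', h3]; group
  have e1 := inner_section (p := 2) Nat.prime_two hτp (class_of_mem_spn hE) (class_of_mem_spn hE') (hsupp E hE hr hA)
  rw [ho] at e1
  have e2 : ∀ (F : G → ℂ) (y : IrrCharacter G) (b : ℂ), (∀ c, IsPPart 2 c τ → (y : G → ℂ) c = b * F c) →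
      reg 2 (tw τ (y : G → ℂ)) = b • reg 2 (tw τ F) := by
    intro F y b hb
    funext c
    by_cases hc : 2 ∣ orderOf c
    · rw [Pi.smul_apply, reg_not hc, reg_not hc, smul_zero]
    · rw [Pi.smul_apply, reg_of hc, reg_of hc, smul_eq_mul]
      exact hb _ ⟨c, rfl, (comm_mem c).symm, hτp, by rwa [Subgroup.orderOf_coe]⟩
  apply scaled_unit hM hτp hf hY hY' h0 h0'
  rw [comp_eq_reg hM hB hτp hf huniq hY, comp_eq_reg hM hB hτp hf huniq hY', e2 E Y a ha, e2 E' Y' a' ha',
    H18.CharOrtho.inner_smul_left, H18.CharOrtho.inner_smul_right, ← e1, mul_zero, mul_zero, mul_zero]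
  exact locI_zero

end H81.NoBoth
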