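import Cfsg.Agent.Lib.H81.NoBoth

/-!
# A function supported on the elements of order divisible by four above the central involution
-/

set_option autoImplicit false
set_option linter.unusedSectionVars false
set_option linter.unusedVariables false

namespace H81.YFun

open Cfsg H20.Loc H20.GA H80.GA H80.GB H80.GD H80.GE H80.GF H80.GJ H80.FS H80.FS3 H84.RG H18.CharBasic H18.CharOrtho H18.CharInd H84.TrR
open H78.BlkCount H20.Blk H20.Orth H20.Ind H20.Height H20.Defect H80.BR1 H80.BR2 H19.Second H19.Second3 H81.Section H81.Contrib H84.Star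

universe u
attribute [local instance 2000] Fintype.ofFinite

section gen
variable {M : Ideal AlgInt} {G : Type u} [Group G] [Finite G]

theorem mem_part_iff {w g x : G} (hw2 : orderOf w = 2) (hx : IsPPart 2 g x) :
    w ∈ Subgroup.zpowers g ↔ w ∈ Subgroup.zpowers x := by
  have hpf : Fact (Nat.Prime 2) := ⟨Nat.prime_two⟩
  constructor
  · intro h
    obtain ⟨k, hk⟩ := Subgroup.mem_zpowers_iff.1 h
    obtain ⟨y, hy1, hy2, ⟨m, hm⟩, hy4⟩ := hx
    have h1 : IsPPart 2 w (x ^ k) := by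
      refine ⟨y ^ k, ?_, hy2.zpow_zpow k k, ?_, ?_⟩
      · rw [← hk, ← hy1, hy2.mul_zpow]
      · have h2 : orderOf (x ^ k) ∣ 2 ^ m := by rw [← hm]; exact orderOf_dvd_of_mem_zpowers (Subgroup.zpow_mem_zpowers x k)
        obtain ⟨j, _, hj⟩ := (Nat.dvd_prime_pow Nat.prime_two).1 h2
        exact ⟨j, hj⟩
      · intro h3
        exact hy4 (h3.trans (orderOf_dvd_of_mem_zpowers (Subgroup.zpow_mem_zpowers y k)))
    have h2 : IsPPart 2 w w := ⟨1, mul_one w, Commute.one_right w, ⟨1, by rw [hw2, pow_one]⟩, by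
      rw [orderOf_one]; norm_num⟩
    have h3 := isPPart_unique Nat.prime_two h2 h1
    rw [h3]
    exact Subgroup.zpow_mem_zpowers x k
  · intro h
    exact (Subgroup.zpowers_le.2 (H20.First.isPPart_mem_zpowers hx)) h

theorem mem_conj {w : G} (hwc : ∀ g : G, g * w = w * g) (g x : G) (hx : w ∈ Subgroup.zpowers x) :
    w ∈ Subgroup.zpowers (g * x * g⁻¹) := by
  obtain ⟨j, hj⟩ := Subgroup.mem_zpowers_iff.1 hx
  rw [Subgroup.mem_zpowers_iff]
  exact ⟨j, by rw [conj_zpow, hj, hwc, mul_inv_cancel_right]⟩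

theorem mem_shift {w c : G} (hwc : ∀ g : G, g * w = w * g) (hw2 : orderOf w = 2) (h : w ∈ Subgroup.zpowers c)
    (h2 : 2 ∣ orderOf (w * c)) : w ∈ Subgroup.zpowers (w * c) := by
  have hww : w ^ 2 = 1 := by rw [← hw2]; exact pow_orderOf_eq_one w
  have hcw : Commute w c := (hwc c).symm
  have hsq : (w * c) ^ 2 = c ^ 2 := by rw [hcw.mul_pow, hww, one_mul]
  obtain ⟨j, hj⟩ := Subgroup.mem_zpowers_iff.1 h
  rcases Int.even_or_odd' j with ⟨i, hi | hi⟩
  · rw [Subgroup.mem_zpowers_iff]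
    refine ⟨2 * i, ?_⟩
    rw [zpow_mul, zpow_ofNat, hsq, ← zpow_ofNat, ← zpow_mul, ← hj, hi]
  · exfalso
    have hc1 : c ^ (2 * j) = 1 := by
      rw [mul_comm, zpow_mul, hj, zpow_ofNat, hww]
    have h3 : (w * c) ^ j = 1 := by
      rw [hcw.mul_zpow]
      nth_rewrite 1 [← hj]
      rw [← zpow_mul, ← zpow_add]
      have : j * j + j = (2 * j) * (i + 1) := by rw [hi]; ring
      rw [this, zpow_mul, hc1, one_zpow]
    have h4 := orderOf_dvd_iff_zpow_eq_one.2 h3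
    have h5 : (2 : ℤ) ∣ j := (Int.natCast_dvd_natCast.2 h2).trans h4
    omega

theorem key {b : Set (IrrCharacter G)} (hM : IsPModular 2 M) (hb : IsPBlock M b) {w : G} (hw2 : orderOf w = 2)
    (hwc : ∀ g : G, g * w = w * g) {E : G → ℂ} (hE : E ∈ spn b) (hr : reg 2 E = 0) (hi : ∀ c, E (w * c) = E c)
    (hne : {c | w ∈ Subgroup.zpowers c}.indicator E ≠ 0) :
    ∃ φ : G → ℂ, φ ∈ spn b ∧ φ ≠ 0 ∧ (∀ c, φ c ≠ 0 → w ∈ Subgroup.zpowers c ∧ 2 ∣ orderOf (w * c)) ∧
      (∀ c, φ (w * c) = φ c) ∧ φ = {c | w ∈ Subgroup.zpowers c}.indicator E := by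
  classical
  have hww : w * w = 1 := by rw [← pow_two, ← hw2]; exact pow_orderOf_eq_one w
  have h2 : ∀ c, E c ≠ 0 → 2 ∣ orderOf (w * c) := by
    intro c hc
    by_contra hcon
    apply hc
    have h3 := congrFun hr (w * c)
    rw [reg_of hcon, hi] at h3
    exact h3
  refine ⟨{c | w ∈ Subgroup.zpowers c}.indicator E, H81.SpnE.restr_spn (T := {c | w ∈ Subgroup.zpowers c}) hM hb hE
    (fun g x hx => mem_part_iff hw2 hx) (fun g x hx => mem_conj hwc g x hx), hne, ?_, ?_, rfl⟩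
  · intro c hc
    have hcT : c ∈ {c | w ∈ Subgroup.zpowers c} := by
      by_contra hcon
      exact hc (Set.indicator_of_notMem hcon _)
    rw [Set.indicator_of_mem hcT] at hc
    exact ⟨hcT, h2 c hc⟩
  · intro c
    by_cases h0 : E c = 0
    · have h0' : E (w * c) = 0 := by rw [hi, h0]
      by_cases h3 : c ∈ {c | w ∈ Subgroup.zpowers c} <;> by_cases h4 : w * c ∈ {c | w ∈ Subgroup.zpowers c} <;>
        simp [Set.indicator, h0, h0']
    · have h0' : E (w * c) ≠ 0 := by rw [hi]; exact h0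
      have hiff : w * c ∈ {c | w ∈ Subgroup.zpowers c} ↔ c ∈ {c | w ∈ Subgroup.zpowers c} := by
        constructor
        · intro h3
          have h4 := mem_shift hwc hw2 h3 (h2 _ h0')
          rw [← mul_assoc, hww, one_mul] at h4
          exact h4
        · intro h3
          exact mem_shift hwc hw2 h3 (h2 _ h0)
      by_cases h3 : c ∈ {c | w ∈ Subgroup.zpowers c}
      · rw [Set.indicator_of_mem h3, Set.indicator_of_mem (hiff.2 h3), hi]
      · rw [Set.indicator_of_notMem h3, Set.indicator_of_notMem (fun h => h3 (hiff.1 h))]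

end gen

variable {M : Ideal AlgInt} [M.IsMaximal] {G : Type u} [Group G] [Finite G]
variable [CharP (ResF M) 2] [Algebra (ZMod 2) (ResF M)] [Algebra.IsAlgebraic (ZMod 2) (ResF M)]
  [IsAlgClosed (ResF M)]

theorem y_fun (hM : IsPModular 2 M) {b : Set (IrrCharacter G)} (hb : IsPBlock M b) {D : Subgroup G}
    (hD : IsDefectGroup 2 M b D) {w τ : G} (hτ : τ ∈ D) (hτ2 : orderOf τ = 2) (hw2 : orderOf w = 2)
    (hwc : ∀ g : G, g * w = w * g) (hτw : τ ≠ w)
    (hall : ∀ d ∈ D, d ≠ 1 → w ∈ Subgroup.zpowers d ∨ ∃ x ∈ D, d = x * τ * x⁻¹)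
    {E E' : G → ℂ} (hE : E ∈ spn b) (hE' : E' ∈ spn b) (hr : reg 2 E = 0) (hr' : reg 2 E' = 0)
    (hi : ∀ c, E (w * c) = E c) (hi' : ∀ c, E' (w * c) = E' c) (ho : classInner E E' = 0)
    {Y Y' : IrrCharacter G} (hY : Y ∈ b) (hY' : Y' ∈ b) (h0 : blockHeight 2 b (Y : G → ℂ) = 0)
    (h0' : blockHeight 2 b (Y' : G → ℂ) = 0) {a a' : ℂ} (ha : ∀ c, IsPPart 2 c τ → (Y : G → ℂ) c = a * E c)
    (ha' : ∀ c, IsPPart 2 c τ → (Y' : G → ℂ) c = a' * E' c) :
    ∃ φ : G → ℂ, φ ∈ spn b ∧ φ ≠ 0 ∧ (∀ c, φ c ≠ 0 → w ∈ Subgroup.zpowers c ∧ 2 ∣ orderOf (w * c)) ∧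
      (∀ c, φ (w * c) = φ c) ∧
      (φ = {c | w ∈ Subgroup.zpowers c}.indicator E ∨ φ = {c | w ∈ Subgroup.zpowers c}.indicator E') := by
  classical
  by_cases h1 : {c | w ∈ Subgroup.zpowers c}.indicator E = 0
  · by_cases h2 : {c | w ∈ Subgroup.zpowers c}.indicator E' = 0
    · exfalso
      refine H81.NoBoth.no_both hM hb hD hτ hτ2 hw2 hwc hτw hall hE hE' hr hr' ho ?_ ?_ hY hY' h0 h0' ha ha'
      · intro c hc
        have h3 := congrFun h1 c
        rwa [Set.indicator_of_mem (show c ∈ {c | w ∈ Subgroup.zpowers c} from hc)] at h3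
      · intro c hc
        have h3 := congrFun h2 c
        rwa [Set.indicator_of_mem (show c ∈ {c | w ∈ Subgroup.zpowers c} from hc)] at h3
    · obtain ⟨φ, a1, a2, a3, a4, a5⟩ := key hM hb hw2 hwc hE' hr' hi' h2
      exact ⟨φ, a1, a2, a3, a4, Or.inr a5⟩
  · obtain ⟨φ, a1, a2, a3, a4, a5⟩ := key hM hb hw2 hwc hE hr hi h1
    exact ⟨φ, a1, a2, a3, a4, Or.inl a5⟩

end H81.YFun
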