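import Cfsg.Agent.Lib.H81.YFun
import Cfsg.Agent.Lib.H80.SU8
import Cfsg.Agent.Lib.H84.KR2

/-!
# Blocks of a group with a central involution: the centralizer is everything; support of functions vanishing on the
# regular elements
-/

set_option autoImplicit false
set_option linter.unusedSectionVars false
set_option linter.unusedVariables false

namespace H81.QTop

open Cfsg H20.Loc H20.GA H80.GA H80.GB H80.GD H80.GE H80.GF H80.GJ H80.FS H80.FS3 H84.RG H18.CharBasic H18.CharOrtho H18.CharInd H84.TrR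
open H78.BlkCount H20.Blk H20.Orth H20.Ind H20.Height H20.Defect H80.BR1 H80.BR2 H19.Second H19.Second3 H81.Section H81.Contrib H84.Star

universe u
attribute [local instance 2000] Fintype.ofFinite

variable {M : Ideal AlgInt} [M.IsMaximal] {G : Type u} [Group G] [Finite G]

theorem rank_of_top {p : ℕ} (hM : IsPModular p M) {K : Subgroup G} (hK : K = ⊤) {b' : Set (IrrCharacter K)}
    {b : Set (IrrCharacter G)} (hind : IsInducedBlock M K b' b) :
    blockRank p b' = blockRank p b ∧ Nat.card b' = Nat.card b := by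
  have hpr := pm_isPrime hM
  subst hK
  have h0 := H84.KR.Y_top (M := M) hind.2.1
  have h1 : b' = trI (Subgroup.topEquiv (G := G)).symm '' b := by
    obtain ⟨ξ, hξ⟩ := isPBlock_nonempty hind.1
    have h2 : ξ ∈ trI (Subgroup.topEquiv (G := G)).symm '' b := by
      rw [h0]
      exact ⟨b', hξ, hind⟩
    rw [isPBlock_eq hind.1 hξ, isPBlock_eq (isPBlock_trI (Subgroup.topEquiv (G := G)).symm hind.2.1) h2]
  rw [h1]
  exact ⟨H80.SU8.blockRank_trI _ _, Nat.card_image_of_injective (trI_injective _) _⟩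

/-- the centralizer of a central element -/
theorem rank_top (hM : IsPModular 2 M) {w : G} (hw : ∀ g, g * w = w * g) {b' : Set (IrrCharacter (C w))}
    {b : Set (IrrCharacter G)} (hind : IsInducedBlock M (C w) b' b) :
    blockRank 2 b' = blockRank 2 b ∧ Nat.card b' = Nat.card b := by
  refine rank_of_top hM ?_ hind
  rw [eq_top_iff]
  intro g _
  rw [Subgroup.mem_centralizer_singleton_iff]
  exact hw g

/-- (Q4) -/
theorem ev_of_reg0 (hM : IsPModular 2 M) {b : Set (IrrCharacter G)} (hb : IsPBlock M b) {D : Subgroup G}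
    (hD : IsDefectGroup 2 M b D) {w : G} (hwc : ∀ g : G, g * w = w * g)
    (hall : ∀ d ∈ D, d ≠ 1 → w ∈ Subgroup.zpowers d) {E : G → ℂ} (hE : E ∈ spn b) (hr : reg 2 E = 0)
    (hi : ∀ c, E (w * c) = E c) : ∀ c, E c ≠ 0 → w ∈ Subgroup.zpowers c ∧ 2 ∣ orderOf (w * c) := by
  haveI : Fact (Nat.Prime 2) := ⟨Nat.prime_two⟩
  have hpr := pm_isPrime hM
  intro g hne
  constructor
  · obtain ⟨x, hx⟩ := exists_isPPart Nat.prime_two g
    have h1 : ∃ χ ∈ b, (χ : G → ℂ) g ≠ 0 := by
      by_contra hcon
      push Not at hcon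
      apply hne
      have h2 : spn b ≤ LinearMap.ker (LinearMap.proj g : (G → ℂ) →ₗ[ℂ] ℂ) := by
        rw [spn, Submodule.span_le]
        rintro _ ⟨χ, hχ, rfl⟩
        exact hcon χ hχ
      exact h2 hE
    obtain ⟨χ, hχ, hχg⟩ := h1
    have h2 : ∃ D' : Subgroup G, IsDefectGroup 2 M b D' ∧ x ∈ D' := by
      by_contra hcon
      push Not at hcon
      apply hχg
      refine H19.Second2.vanish_off_defect hM χ g x hx ?_
      intro D' hD'
      rw [← isPBlock_eq hb hχ] at hD'
      exact hcon D' hD'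
    obtain ⟨D', hD', hxD'⟩ := h2
    obtain ⟨k, rfl⟩ := H20.DefGrp.isDefectGroup_conj hM hb hD hD'
    obtain ⟨d, hd, hdx⟩ := hxD'
    have hdx' : k * d * k⁻¹ = x := hdx
    have hx1 : x ≠ 1 := by
      intro h1
      obtain ⟨y, hy1, hy2, hy3, hy4⟩ := hx
      rw [h1, one_mul] at hy1
      apply hne
      have h3 := congrFun hr g
      rw [reg_of (by rw [← hy1]; exact hy4)] at h3
      exact h3
    have hd1 : d ≠ 1 := by
      intro h1
      apply hx1
      rw [← hdx', h1]; group
    have h3 := hall d hd hd1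
    have h4 : w ∈ Subgroup.zpowers x := by
      rw [← hdx']
      exact H81.YFun.mem_conj hwc k d h3
    exact (Subgroup.zpowers_le.2 (H20.First.isPPart_mem_zpowers hx)) h4
  · by_contra hcon
    apply hne
    have h3 := congrFun hr (w * g)
    rw [reg_of hcon, hi] at h3
    exact h3

end H81.QTop
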