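import Cfsg.Agent.Lib.H5.TEh
import Cfsg.Agent.Lib.H81.QTop

/-!
# The functions above a central involution: quaternion defect group of order eight
-/

set_option autoImplicit false
set_option linter.unusedSectionVars false
set_option linter.unusedVariables false

namespace H81.Q8Pack

open Cfsg H20.Loc H20.GA H80.GA H80.GB H80.GD H80.GE H80.GF H80.GJ H80.FS H80.FS3 H84.RG H18.CharBasic H18.CharOrtho H18.CharInd H84.TrR
open H20.Blk H20.Orth H20.Ind H20.Height H20.Defect H80.BR1 H80.BR2 H19.Second H19.Second3 H81.Section H81.Contrib H84.Star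
open H5.DBa H5.DBd H5.TBa H5.TBb H5.TBe H5.TBf H5.TBg H5.TBh H5.TBi H5.TBj H78.BlkCount H5.TCa
open H5.TBc H5.TBd H5.TDa H5.TDb H5.TDe H5.TDf H5.TDg H5.TDi H5.TDj H5.TDk H5.TDl H5.TDm H20.NormQ H5.TEa H5.TEb H5.TEc H5.TEd
open scoped ComplexConjugate

universe u

attribute [local instance 2000] Fintype.ofFinite

variable {M : Ideal AlgInt} [M.IsMaximal] {K : Type u} [Group K] [Finite K]
variable [CharP (ResF M) 2] [Algebra (ZMod 2) (ResF M)] [Algebra.IsAlgebraic (ZMod 2) (ResF M)]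
  [IsAlgClosed (ResF M)]

section basic
variable {Q : Subgroup K} [Q.Normal] {w : K}

theorem ev_Li (hM : IsPModular 2 M) (hQc : Q ≤ Subgroup.center K) (hw : w ∈ Q) {b : Set (IrrCharacter K)}
    (hb : IsPBlock M b) {D : Subgroup K} (hD : IsDefectGroup 2 M b D)
    (hall : ∀ d ∈ D, d ≠ 1 → w ∈ Subgroup.zpowers d) {B : Set (IrrCharacter (K ⧸ Q))}
    (hm : ∀ ψ ∈ B, infl Q ψ ∈ b) {f : K ⧸ Q → ℂ} (hf : f ∈ spn B) (hr : reg 2 f = 0) : EvF b w (Li Q f) := by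
  have hwc : ∀ g : K, g * w = w * g := fun y => Subgroup.mem_center_iff.1 (hQc hw) y
  have hi : ∀ c, Li Q f (w * c) = Li Q f c := by
    intro c; unfold Li; rw [QuotientGroup.mk_mul, (QuotientGroup.eq_one_iff w).2 hw, one_mul]
  have hE : Li Q f ∈ spn b := infl_spn hm hf
  have hr' : reg 2 (Li Q f) = 0 := by
    funext c
    by_cases hc : 2 ∣ orderOf c
    · rw [reg_not hc]; rfl
    · rw [reg_of hc]
      have h1 := congrFun hr (c : K ⧸ Q)
      rw [reg_of (H20.PC.regular_mk Q hc)] at h1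
      exact h1
  exact ⟨hE, H81.QTop.ev_of_reg0 hM hb hD hwc hall hE hr' hi, hi⟩

theorem Li_inner (f g : K ⧸ Q → ℂ) : classInner (Li Q f) (Li Q g) = classInner f g :=
  H79.CentQ.inner_infl Q f g

theorem halve (hQ : Nat.card Q = 2) (hQc : Q ≤ Subgroup.center K)
    (hQe : ∀ s ∈ Q, s = 1 ∨ s = w) (hw : w ∈ Q) (hww : w * w = 1) {f g v : K ⧸ Q → ℂ}
    (hf : IsClassFunction (K ⧸ Q) f) (hg : IsClassFunction (K ⧸ Q) g) (hr : reg 2 g = g)
    (hv : IsGeneralizedCharacter (K ⧸ Q) v) (hfg : f + g = (2 : ℂ) • v)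
    (hodd : ∀ ξ : IrrCharacter K, (ξ : K → ℂ) w ≠ (ξ : K → ℂ) 1 → ∃ m : ℤ, classInner (LL Q g) (ξ : K → ℂ) = 2 * m) :
    ∃ W, IsGeneralizedCharacter K W ∧ Li Q f + sh w (LL Q g) = (2 : ℂ) • W := by
  classical
  have hcw : ∀ y : K, y * w = w * y := fun y => Subgroup.mem_center_iff.1 (hQc hw) y
  have hev : ∀ ξ : IrrCharacter K, ∃ m : ℤ, classInner (Li Q f + sh w (LL Q g)) (ξ : K → ℂ) = 2 * m := by
    intro ξ
    obtain ⟨ω, hω0, hω, hωn⟩ := H81.CentralVal.exists_central ξ.2 (hQc hw)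
    have hω2 : ω ^ 2 = 1 := hωn 2 (by rw [pow_two, hww])
    have hωpm : ω = 1 ∨ ω = -1 := by
      have h1 : (ω - 1) * (ω + 1) = 0 := by linear_combination hω2
      rcases mul_eq_zero.1 h1 with h | h
      · left; linear_combination h
      · right; linear_combination h
    have hsh : sh w (ξ : K → ℂ) = ω • (ξ : K → ℂ) := by
      funext g
      exact hω g
    rw [H18.CharOrtho.inner_add_left, sh_inner hww, hsh, H18.CharOrtho.inner_smul_right]
    rcases hωpm with h1 | h1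
    · -- even
      obtain ⟨ξ', rfl⟩ := exists_infl (N := Q) (ψ := ξ) (by
        intro s hs
        rcases hQe s hs with rfl | rfl
        · rfl
        · have := hω 1
          rw [mul_one, h1, one_mul] at this
          exact this)
      have h3 : (infl Q ξ' : K → ℂ) = fun g : K => (ξ' : K ⧸ Q → ℂ) (g : K ⧸ Q) := rfl
      have h4 : classInner (Li Q f) (infl Q ξ' : K → ℂ) = classInner f (ξ' : K ⧸ Q → ℂ) :=
        H79.CentQ.inner_infl Q f _
      rw [h4, h3, LL_infl hQ hQc hr, h1, map_one, one_mul, ← H18.CharOrtho.inner_add_left, hfg,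
        H18.CharOrtho.inner_smul_left]
      obtain ⟨m, hm'⟩ := inner_gen_intCast hv (isGen_of_isIrr ξ'.2)
      exact ⟨m, by rw [hm']⟩
    · -- odd
      have hnot : ∀ ψ' : IrrCharacter (K ⧸ Q), infl Q ψ' ≠ ξ := by
        rintro ψ' rfl
        have h2 := hω 1
        rw [mul_one, h1] at h2
        have h3 := infl_trivial (N := Q) ψ' w hw
        rw [h3] at h2
        have h4 := irr_one_ne_zero (infl Q ψ').2
        apply h4
        linear_combination (1 / 2 : ℂ) * h2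
      rw [Li_not hnot hf, h1]
      obtain ⟨m, hm'⟩ := hodd ξ (by
        intro h2
        have h3 := hω 1
        rw [mul_one, h1, h2] at h3
        apply irr_one_ne_zero ξ.2
        linear_combination (1 / 2 : ℂ) * h3)
      refine ⟨-m, ?_⟩
      rw [hm', map_neg, map_one]
      push_cast; ring
  have hcl : IsClassFunction K (Li Q f + sh w (LL Q g)) :=
    isClassFunction_add (cl_mk hf) (sh_class hcw (LL_class hg))
  refine ⟨(2 : ℂ)⁻¹ • (Li Q f + sh w (LL Q g)), gen_of_int (isClassFunction_smul _ hcl) fun ξ => ?_, ?_⟩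
  · obtain ⟨m, hm'⟩ := hev ξ
    refine ⟨m, ?_⟩
    rw [H18.CharOrtho.inner_smul_left, hm']; ring
  · rw [smul_smul]; norm_num

end basic

section four
variable {H : Type u} [Group H] [Finite H] {Y : Fin 4 → IrrCharacter H} {δ : Fin 4 → ℤ}
  {B : Set (IrrCharacter H)}

/-- combinations of the four characters -/
noncomputable def V (Y : Fin 4 → IrrCharacter H) (δ : Fin 4 → ℤ) (a : Fin 4 → ℂ) : H → ℂ :=
  ∑ i, a i • ((δ i : ℂ) • (Y i : H → ℂ))

theorem V_add (a a' : Fin 4 → ℂ) : V Y δ a + V Y δ a' = V Y δ (a + a') := by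
  unfold V
  rw [← Finset.sum_add_distrib]
  exact Finset.sum_congr rfl fun i _ => by rw [Pi.add_apply, add_smul]

theorem V_smul (c : ℂ) (a : Fin 4 → ℂ) : c • V Y δ a = V Y δ (c • a) := by
  unfold V
  rw [Finset.smul_sum]
  exact Finset.sum_congr rfl fun i _ => by rw [Pi.smul_apply, smul_eq_mul, mul_smul]

theorem V_spn (hYB : ∀ χ, χ ∈ B ↔ ∃ i, χ = Y i) (a : Fin 4 → ℂ) : V Y δ a ∈ spn B := by
  refine Submodule.sum_mem _ fun i _ => Submodule.smul_mem _ _ (Submodule.smul_mem _ _ ?_)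
  exact Submodule.subset_span ⟨Y i, (hYB _).2 ⟨i, rfl⟩, rfl⟩

theorem V_gen (a : Fin 4 → ℤ) : IsGeneralizedCharacter H (V Y δ (fun i => (a i : ℂ))) :=
  isGen_sum _ _ fun i _ => isGen_intCast_smul _ (isGen_intCast_smul _ (isGen_of_isIrr (Y i).2))

theorem V_inner (hY : Function.Injective Y) (hδ : ∀ i, δ i = 1 ∨ δ i = -1) (a a' : Fin 4 → ℂ) :
    classInner (V Y δ a) (V Y δ a') = ∑ i, a i * conj (a' i) := by
  classical
  unfold V
  rw [H18.CharOrtho.inner_sum_left]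
  refine Finset.sum_congr rfl fun i _ => ?_
  rw [H18.CharOrtho.inner_smul_left]
  congr 1
  rw [H18.CharOrtho.inner_sum_right, Finset.sum_eq_single i]
  · rw [H18.CharOrtho.inner_smul_right, H18.CharOrtho.inner_smul_right, H18.CharOrtho.inner_smul_left,
      inner_irr_self (Y i).2]
    rcases hδ i with h | h <;> rw [h] <;> simp
  · intro j _ hj
    rw [H18.CharOrtho.inner_smul_right, H18.CharOrtho.inner_smul_right, H18.CharOrtho.inner_smul_left,
      inner_irr_ne (Y i).2 (Y j).2 (fun h => hj (hY (Subtype.ext h)).symm)]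
    ring
  · intro h; exact absurd (Finset.mem_univ _) h

theorem V_exp (hYB : ∀ χ, χ ∈ B ↔ ∃ i, χ = Y i) (hδ : ∀ i, δ i = 1 ∨ δ i = -1) {f : H → ℂ} (hf : f ∈ spn B) :
    ∃ a : Fin 4 → ℂ, f = V Y δ a := by
  have h1 : spn B ≤ Submodule.span ℂ (Set.range fun i : Fin 4 => (δ i : ℂ) • (Y i : H → ℂ)) := by
    unfold spn
    rw [Submodule.span_le]
    rintro _ ⟨χ, hχ, rfl⟩
    obtain ⟨i, rfl⟩ := (hYB χ).1 hχ
    have h2 : (Y i : H → ℂ) = (δ i : ℂ) • ((δ i : ℂ) • (Y i : H → ℂ)) := by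
      rw [smul_smul]
      rcases hδ i with h | h <;> rw [h] <;> simp
    show (Y i : H → ℂ) ∈ _
    rw [h2]
    exact Submodule.smul_mem _ _ (Submodule.subset_span ⟨i, rfl⟩)
  obtain ⟨a, ha⟩ := (Submodule.mem_span_range_iff_exists_fun ℂ).1 (h1 hf)
  exact ⟨a, ha.symm⟩

theorem reg_V (a : Fin 4 → ℂ) : reg 2 (V Y δ a) = ∑ i, a i • reg 2 ((δ i : ℂ) • (Y i : H → ℂ)) := by
  unfold V
  rw [reg_sum]
  exact Finset.sum_congr rfl fun i _ => reg_smul _ _

/-- a combination orthogonal to all combinations vanishing on the regular elements -/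
theorem reg_of_perp (hM : IsPModular 2 M) (hB : IsPBlock M B) (hY : Function.Injective Y)
    (hYB : ∀ χ, χ ∈ B ↔ ∃ i, χ = Y i) (hδ : ∀ i, δ i = 1 ∨ δ i = -1) {a : Fin 4 → ℂ}
    (h : ∀ α : Fin 4 → ℂ, reg 2 (V Y δ α) = 0 → ∑ i, a i * conj (α i) = 0) : reg 2 (V Y δ a) = V Y δ a := by
  have h1 : reg 2 (V Y δ a) ∈ spn B := H5.TEh.Vb_spn hM hB (reg_mem_Vb hM hB (V_spn hYB a))
  have h2 : V Y δ a - reg 2 (V Y δ a) ∈ spn B := Submodule.sub_mem _ (V_spn hYB a) h1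
  obtain ⟨α, hα⟩ := V_exp hYB hδ h2
  have h3 : reg 2 (V Y δ α) = 0 := by
    rw [← hα, reg_sub', H81.Contrib.reg_reg, sub_self]
  have h4 : classInner (V Y δ α) (V Y δ α) = 0 := by
    conv_lhs => arg 1; rw [← hα]
    rw [H18.CharOrtho.inner_sub_left, inner_reg_comm, h3, H18.CharOrtho.inner_zero_right, sub_zero, V_inner hY hδ]
    exact h α h3
  have h5 : V Y δ α = 0 := inner_self_zero h4
  rw [h5] at hα
  exact (sub_eq_zero.1 hα).symm

/-- integral combinations -/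
noncomputable def W4 (Y : Fin 4 → IrrCharacter H) (δ : Fin 4 → ℤ) (a : Fin 4 → ℤ) : H → ℂ :=
  V Y δ (fun i => (a i : ℂ))

theorem W4_add {a a' c : Fin 4 → ℤ} (h : ∀ i, a i + a' i = c i) : W4 Y δ a + W4 Y δ a' = W4 Y δ c := by
  unfold W4
  rw [V_add]
  congr 1
  funext i
  rw [Pi.add_apply, ← h i]; push_cast; rfl

theorem W4_two {a a' c : Fin 4 → ℤ} (h : ∀ i, a i + a' i = 2 * c i) :
    W4 Y δ a + W4 Y δ a' = (2 : ℂ) • W4 Y δ c := by
  unfold W4
  rw [V_add, V_smul]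
  congr 1
  funext i
  have := h i
  rw [Pi.add_apply, Pi.smul_apply, smul_eq_mul]
  exact_mod_cast this

theorem W4_inner (hY : Function.Injective Y) (hδ : ∀ i, δ i = 1 ∨ δ i = -1) (a a' : Fin 4 → ℤ) :
    classInner (W4 Y δ a) (W4 Y δ a') = ((∑ i, a i * a' i : ℤ) : ℂ) := by
  unfold W4
  rw [V_inner hY hδ]
  push_cast
  exact Finset.sum_congr rfl fun i _ => by rw [map_intCast]

theorem reg_ne (hδ : ∀ i, δ i = 1 ∨ δ i = -1) (i : Fin 4) : reg 2 ((δ i : ℂ) • (Y i : H → ℂ)) ≠ 0 := by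
  intro h
  have h1 := congrFun h 1
  rw [reg_of (by rw [orderOf_one]; norm_num)] at h1
  have h2 : (δ i : ℂ) * (Y i : H → ℂ) 1 = 0 := h1
  have h3 := irr_one_ne_zero (Y i).2
  rcases hδ i with h4 | h4 <;> rw [h4] at h2 <;> simp [h3] at h2

/-- in rank three only the multiples of the alternating sum vanish on the regular elements -/
theorem ker3 (hYB : ∀ χ, χ ∈ B ↔ ∃ i, χ = Y i) (hδ : ∀ i, δ i = 1 ∨ δ i = -1)
    (h3 : blockRank 2 B = 3) (hz : reg 2 (∑ i, (δ i : ℂ) • (Y i : H → ℂ)) = 0) (α : Fin 4 → ℂ)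
    (hα : reg 2 (V Y δ α) = 0) (i : Fin 4) : α i = α 0 := by
  classical
  set T := Fintype.linearCombination ℂ (fun i => reg 2 ((δ i : ℂ) • (Y i : H → ℂ))) with hT
  have hTa : ∀ a, T a = reg 2 (V Y δ a) := by
    intro a
    rw [reg_V, hT, Fintype.linearCombination_apply]
  have hrange : LinearMap.range T = Vb 2 B := by
    rw [hT, Fintype.range_linearCombination, Vb]
    apply le_antisymm
    · rw [Submodule.span_le]
      rintro _ ⟨j, rfl⟩
      show reg 2 ((δ j : ℂ) • (Y j : H → ℂ)) ∈ _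
      rw [reg_smul]
      refine Submodule.smul_mem _ _ (Submodule.subset_span ⟨Y j, (hYB _).2 ⟨j, rfl⟩, ?_⟩)
      show pRegularPart 2 (Y j : H → ℂ) = reg 2 (Y j : H → ℂ)
      rw [H81.Contrib.pRegularPart_eq]
    · rw [Submodule.span_le]
      rintro _ ⟨χ, hχ, rfl⟩
      obtain ⟨j, rfl⟩ := (hYB χ).1 hχ
      have h2 : (pRegularPart 2 (Y j : H → ℂ)) = (δ j : ℂ) • reg 2 ((δ j : ℂ) • (Y j : H → ℂ)) := by
        rw [reg_smul, smul_smul, H81.Contrib.pRegularPart_eq]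
        rcases hδ j with h | h <;> rw [h] <;> simp
      show pRegularPart 2 (Y j : H → ℂ) ∈ _
      rw [h2]
      exact Submodule.smul_mem _ _ (Submodule.subset_span ⟨j, rfl⟩)
  have h4 := LinearMap.finrank_range_add_finrank_ker T
  have h5 : Module.finrank ℂ (LinearMap.range T) = 3 := by
    rw [hrange]; exact h3
  rw [h5, Module.finrank_fintype_fun_eq_card, Fintype.card_fin] at h4
  have h6 : Module.finrank ℂ (LinearMap.ker T) = 1 := by omega
  have hone : (fun _ => 1 : Fin 4 → ℂ) ∈ LinearMap.ker T := by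
    rw [LinearMap.mem_ker, hTa]
    have : V Y δ (fun _ => 1) = ∑ i, (δ i : ℂ) • (Y i : H → ℂ) := by
      unfold V
      exact Finset.sum_congr rfl fun i _ => one_smul _ _
    rw [this, hz]
  have hα' : α ∈ LinearMap.ker T := by
    rw [LinearMap.mem_ker, hTa, hα]
  have hne : (⟨_, hone⟩ : LinearMap.ker T) ≠ 0 := by
    intro h
    have h7 := congrArg Subtype.val h
    have h8 := congrFun h7 0
    exact one_ne_zero h8
  obtain ⟨c, hc⟩ := (finrank_eq_one_iff_of_nonzero' _ hne).1 h6 ⟨α, hα'⟩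
  have h7 : ∀ j, α j = c := by
    intro j
    have h8 := congrFun (congrArg Subtype.val hc) j
    have h9 : c * 1 = α j := h8
    rw [← h9, mul_one]
  rw [h7 i, h7 0]

end four

section main
variable {Q : Subgroup K} [Q.Normal] {w : K}

/-- the rows -/
theorem exists_rho (hM : IsPModular 2 M) {b : Set (IrrCharacter K)} (hb : IsPBlock M b) (hdb : blockDefect 2 b = 3)
    {B : Set (IrrCharacter (K ⧸ Q))} (hm : ∀ χ, infl Q χ ∈ b ↔ χ ∈ B)
    (hodd : ∀ ξ ∈ b, blockHeight 2 b (ξ : K → ℂ) = 0 → (ξ : K → ℂ) w = (ξ : K → ℂ) 1)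
    {Y : Fin 4 → IrrCharacter (K ⧸ Q)} {δ : Fin 4 → ℤ} (hYB : ∀ χ, χ ∈ B ↔ ∃ i, χ = Y i) (i : Fin 4)
    {ξ : IrrCharacter K} (hξ : (ξ : K → ℂ) w ≠ (ξ : K → ℂ) 1) :
    ∃ ρ : ℤ, 4 * classInner (LL Q (reg 2 ((δ i : ℂ) • (Y i : K ⧸ Q → ℂ)))) (ξ : K → ℂ) = ρ ∧ 2 ∣ ρ := by
  have hχ : infl Q (Y i) ∈ b := (hm _).2 ((hYB _).2 ⟨i, rfl⟩)
  obtain ⟨r, hr1, hr0, -, -, hr4, -, -⟩ := H81.RegMat.exists_row hM hb hχ
  rw [hdb] at hr1
  refine ⟨δ i * r ξ, ?_, ?_⟩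
  · have h1 : LL Q (reg 2 ((δ i : ℂ) • (Y i : K ⧸ Q → ℂ))) = ((2 : ℂ) * (δ i : ℂ)) • reg 2 (infl Q (Y i) : K → ℂ) := by
      rw [reg_smul, LL_smul]
      unfold LL
      rw [L_infl, smul_smul, mul_comm]
    rw [h1, H18.CharOrtho.inner_smul_left]
    push_cast
    rw [← hr1 ξ]
    ring
  · apply Dvd.dvd.mul_left
    by_cases hξb : ξ ∈ b
    · have h7 : blockHeight 2 b (ξ : K → ℂ) ≠ 0 := fun h0 => hξ (hodd ξ hξb h0)
      refine dvd_trans ?_ (hr4 ξ hξb h7)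
      exact dvd_pow_self _ (by omega)
    · rw [hr0 ξ hξb]; exact dvd_zero _

theorem LL_sum (a : Fin 4 → ℂ) (g : Fin 4 → K ⧸ Q → ℂ) (ξ : K → ℂ) :
    classInner (LL Q (∑ i, a i • g i)) ξ = ∑ i, a i * classInner (LL Q (g i)) ξ := by
  have h1 : LL Q (∑ i, a i • g i) = ∑ i, a i • LL Q (g i) := by
    rw [Fin.sum_univ_four, Fin.sum_univ_four, LL_add, LL_add, LL_add, LL_smul, LL_smul, LL_smul, LL_smul]
  rw [h1, H18.CharOrtho.inner_sum_left]
  exact Finset.sum_congr rfl fun i _ => H18.CharOrtho.inner_smul_left _ _ _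

theorem q8_pack (hM : IsPModular 2 M) {K : Type u} [Group K] [Finite K] {Q : Subgroup K} [Q.Normal] {w : K}
    (hQ : Nat.card Q = 2) (hQc : Q ≤ Subgroup.center K) (hQs : ∀ s ∈ Q, s * s = 1) (hQe : ∀ s ∈ Q, s = 1 ∨ s = w)
    (hw : w ∈ Q) (hw2 : orderOf w = 2) {b : Set (IrrCharacter K)} (hb : IsPBlock M b) {D : Subgroup K}
    (hD : IsDefectGroup 2 M b D) (hall : ∀ d ∈ D, d ≠ 1 → w ∈ Subgroup.zpowers d) (hdb : blockDefect 2 b = 3)
    {B : Set (IrrCharacter (K ⧸ Q))} (hm : ∀ χ, infl Q χ ∈ b ↔ χ ∈ B) (hrk : blockRank 2 b = blockRank 2 B)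
    (hB : IsPBlock M B) (hdB : blockDefect 2 B = 2)
    (hodd : ∀ ξ ∈ b, blockHeight 2 b (ξ : K → ℂ) = 0 → (ξ : K → ℂ) w = (ξ : K → ℂ) 1)
    {Y : Fin 4 → IrrCharacter (K ⧸ Q)} {δ : Fin 4 → ℤ} (hY : Function.Injective Y) (hYB : ∀ χ, χ ∈ B ↔ ∃ i, χ = Y i)
    (hδ : ∀ i, δ i = 1 ∨ δ i = -1) (h0 : ∀ i, blockHeight 2 B (Y i : K ⧸ Q → ℂ) = 0)
    (hcase : (blockRank 2 B = 1 ∧ ∀ i j, reg 2 ((δ i : ℂ) • (Y i : K ⧸ Q → ℂ)) = reg 2 ((δ j : ℂ) • (Y j : K ⧸ Q → ℂ))) ∨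
        (blockRank 2 B = 3 ∧ reg 2 (∑ i, (δ i : ℂ) • (Y i : K ⧸ Q → ℂ)) = 0)) :
    (blockRank 2 b = 1 ∧ ∃ C0 F₁ F₂ F₃ W : K → ℂ, C0 ∈ Vb 2 b ∧ IsGeneralizedCharacter K C0 ∧ classInner C0 C0 = 8 ∧
      EvF b w F₁ ∧ EvF b w F₂ ∧ EvF b w F₃ ∧ IsGeneralizedCharacter K F₁ ∧ IsGeneralizedCharacter K F₂ ∧
      classInner F₁ F₁ = 2 ∧ classInner F₂ F₂ = 2 ∧ classInner F₃ F₃ = 2 ∧ classInner F₁ F₂ = 0 ∧
      classInner F₁ F₃ = -1 ∧ classInner F₂ F₃ = -1 ∧ IsGeneralizedCharacter K W ∧ F₁ + F₂ + sh w C0 = (2 : ℂ) • W) ∨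
    (blockRank 2 b = 3 ∧ ∃ (Cm : Fin 3 → K → ℂ) (F : K → ℂ) (W : Fin 3 → K → ℂ),
      (∀ m, Cm m ∈ Vb 2 b ∧ IsGeneralizedCharacter K (Cm m)) ∧
      (∀ m m', classInner (Cm m) (Cm m') = if m = m' then 8 else 0) ∧ EvF b w F ∧ IsGeneralizedCharacter K F ∧
      classInner F F = 4 ∧ ∀ m, IsGeneralizedCharacter K (W m) ∧ F + sh w (Cm m) = (2 : ℂ) • W m) := by
  classical
  have hm' : ∀ ψ ∈ B, infl Q ψ ∈ b := fun ψ h => (hm ψ).2 h
  have hww : w * w = 1 := hQs w hw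
  have hsp : ∀ a, W4 Y δ a ∈ spn B := fun a => V_spn hYB _
  have hcl : ∀ a, IsClassFunction (K ⧸ Q) (W4 Y δ a) := fun a => class_of_mem_spn (hsp a)
  have hgn : ∀ a, IsGeneralizedCharacter (K ⧸ Q) (W4 Y δ a) := fun a => V_gen a
  have hVb : ∀ a, reg 2 (W4 Y δ a) = W4 Y δ a → LL Q (W4 Y δ a) ∈ Vb 2 b := by
    intro a ha
    apply LL_mem hm'
    have := reg_mem_Vb hM hB (hsp a)
    rwa [ha] at this
  have hLLg : ∀ a, reg 2 (W4 Y δ a) = W4 Y δ a → IsGeneralizedCharacter K (LL Q (W4 Y δ a)) :=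
    fun a ha => LL_gen hQ hQc (hgn a) ha
  have hLi : ∀ a, reg 2 (W4 Y δ a) = 0 → EvF b w (Li Q (W4 Y δ a)) :=
    fun a ha => ev_Li hM hQc hw hb hD hall hm' (hsp a) ha
  have hLig : ∀ a, IsGeneralizedCharacter K (Li Q (W4 Y δ a)) := fun a => infl_gen (hgn a)
  rcases hcase with ⟨h1, heq⟩ | ⟨h3, hz⟩
  · left
    refine ⟨hrk.trans h1, ?_⟩
    have hreg : ∀ α : Fin 4 → ℂ, reg 2 (V Y δ α) = (∑ i, α i) • reg 2 ((δ 0 : ℂ) • (Y 0 : K ⧸ Q → ℂ)) := by
      intro α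
      rw [reg_V, Finset.sum_smul]
      exact Finset.sum_congr rfl fun i _ => by rw [heq i 0]
    have hzero : ∀ a : Fin 4 → ℤ, ∑ i, a i = 0 → reg 2 (W4 Y δ a) = 0 := by
      intro a ha
      unfold W4
      rw [hreg]
      have : (∑ i, (a i : ℂ)) = 0 := by exact_mod_cast ha
      rw [this, zero_smul]
    have hc : reg 2 (W4 Y δ ![1, 1, 1, 1]) = W4 Y δ ![1, 1, 1, 1] := by
      apply reg_of_perp hM hB hY hYB hδ
      intro α hα
      rw [hreg] at hα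
      rcases smul_eq_zero.1 hα with h | h
      · have h2 := congrArg conj h
        rw [map_sum, map_zero] at h2
        rw [← h2]
        refine Finset.sum_congr rfl fun i _ => ?_
        fin_cases i <;> simp
      · exact absurd h (reg_ne hδ 0)
    obtain ⟨W, hW, hWe⟩ := halve (Q := Q) (w := w) hQ hQc hQe hw hww (f := W4 Y δ ![1, -1, 0, 0] + W4 Y δ ![0, 0, 1, -1])
      (g := W4 Y δ ![1, 1, 1, 1]) (v := W4 Y δ ![1, 0, 1, 0]) (isClassFunction_add (hcl _) (hcl _)) (hcl _) hc (hgn _)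
      (by
        rw [W4_add (a := ![1, -1, 0, 0]) (a' := ![0, 0, 1, -1]) (c := ![1, -1, 1, -1]) (by decide)]
        exact W4_two (by decide))
      (by
        intro ξ hξ
        obtain ⟨ρ, hρ, k, hk⟩ := exists_rho (δ := δ) hM hb hdb hm hodd hYB 0 hξ
        refine ⟨k, ?_⟩
        have e1 : W4 Y δ ![1, 1, 1, 1] = (4 : ℂ) • reg 2 ((δ 0 : ℂ) • (Y 0 : K ⧸ Q → ℂ)) := by
          rw [← hc]
          unfold W4
          rw [hreg, Fin.sum_univ_four]
          congr 1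
          simp
          norm_num
        rw [e1, LL_smul, H18.CharOrtho.inner_smul_left, hρ, hk]
        push_cast; ring)
    refine ⟨LL Q (W4 Y δ ![1, 1, 1, 1]), Li Q (W4 Y δ ![1, -1, 0, 0]), Li Q (W4 Y δ ![0, 0, 1, -1]),
      Li Q (W4 Y δ ![0, 1, -1, 0]), W, hVb _ hc, hLLg _ hc, ?_, hLi _ (hzero _ (by decide)), hLi _ (hzero _ (by decide)),
      hLi _ (hzero _ (by decide)), hLig _, hLig _, ?_, ?_, ?_, ?_, ?_, ?_, hW, hWe⟩
    · rw [LL_inner hQ hQc hc, W4_inner hY hδ, show (∑ i : Fin 4, (![1, 1, 1, 1] : Fin 4 → ℤ) i * ![1, 1, 1, 1] i) = 4 from by decide]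
      norm_num
    · rw [Li_inner, W4_inner hY hδ, show (∑ i : Fin 4, (![1, -1, 0, 0] : Fin 4 → ℤ) i * ![1, -1, 0, 0] i) = 2 from by decide]
      norm_num
    · rw [Li_inner, W4_inner hY hδ, show (∑ i : Fin 4, (![0, 0, 1, -1] : Fin 4 → ℤ) i * ![0, 0, 1, -1] i) = 2 from by decide]
      norm_num
    · rw [Li_inner, W4_inner hY hδ, show (∑ i : Fin 4, (![0, 1, -1, 0] : Fin 4 → ℤ) i * ![0, 1, -1, 0] i) = 2 from by decide]
      norm_num
    · rw [Li_inner, W4_inner hY hδ, show (∑ i : Fin 4, (![1, -1, 0, 0] : Fin 4 → ℤ) i * ![0, 0, 1, -1] i) = 0 from by decide]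
      norm_num
    · rw [Li_inner, W4_inner hY hδ, show (∑ i : Fin 4, (![1, -1, 0, 0] : Fin 4 → ℤ) i * ![0, 1, -1, 0] i) = -1 from by decide]
      norm_num
    · rw [Li_inner, W4_inner hY hδ, show (∑ i : Fin 4, (![0, 0, 1, -1] : Fin 4 → ℤ) i * ![0, 1, -1, 0] i) = -1 from by decide]
      norm_num
  · right
    refine ⟨hrk.trans h3, ?_⟩
    have hF : reg 2 (W4 Y δ ![1, 1, 1, 1]) = 0 := by
      have : W4 Y δ ![1, 1, 1, 1] = ∑ i, (δ i : ℂ) • (Y i : K ⧸ Q → ℂ) := by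
        unfold W4 V
        refine Finset.sum_congr rfl fun i _ => ?_
        fin_cases i <;> simp
      rw [this, hz]
    have hc : ∀ a : Fin 4 → ℤ, ∑ i, a i = 0 → reg 2 (W4 Y δ a) = W4 Y δ a := by
      intro a ha
      apply reg_of_perp hM hB hY hYB hδ
      intro α hα
      have hk := ker3 hYB hδ h3 hz α hα
      have : ∑ i, (a i : ℂ) * conj (α i) = (∑ i, (a i : ℂ)) * conj (α 0) := by
        rw [Finset.sum_mul]
        exact Finset.sum_congr rfl fun i _ => by rw [hk i]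
      rw [this]
      have h4 : (∑ i, (a i : ℂ)) = 0 := by exact_mod_cast ha
      rw [h4, zero_mul]
    -- integrality
    have hpar : ∀ a : Fin 4 → ℤ, ∑ i, a i = 0 → (∀ i, a i = 1 ∨ a i = -1) → ∀ ξ : IrrCharacter K,
        (ξ : K → ℂ) w ≠ (ξ : K → ℂ) 1 → ∃ m : ℤ, classInner (LL Q (W4 Y δ a)) (ξ : K → ℂ) = 2 * m := by
      intro a ha ha1 ξ hξ
      choose ρ hρ hρ2 using fun i => exists_rho (δ := δ) hM hb hdb hm hodd hYB i hξ
      have hval : ∀ a : Fin 4 → ℤ, 4 * classInner (LL Q (reg 2 (W4 Y δ a))) (ξ : K → ℂ) = ((∑ i, a i * ρ i : ℤ) : ℂ) := by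
        intro a
        unfold W4
        rw [reg_V, LL_sum, Finset.mul_sum]
        push_cast
        exact Finset.sum_congr rfl fun i _ => by rw [← hρ i]; ring
      have hint : ∀ a : Fin 4 → ℤ, ∑ i, a i = 0 → ∃ n : ℤ, classInner (LL Q (W4 Y δ a)) (ξ : K → ℂ) = n ∧
          4 * n = ∑ i, a i * ρ i := by
        intro a ha
        obtain ⟨n, hn⟩ := inner_gen_intCast (hLLg a (hc a ha)) (isGen_of_isIrr ξ.2)
        refine ⟨n, hn, ?_⟩
        have h5 := hval a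
        rw [hc a ha, hn] at h5
        exact_mod_cast h5
      have hsum : ∑ i, (![1, 1, 1, 1] : Fin 4 → ℤ) i * ρ i = 0 := by
        have h5 := hval ![1, 1, 1, 1]
        rw [hF] at h5
        have h6 : LL Q (0 : K ⧸ Q → ℂ) = 0 := by
          have := LL_smul (Q := Q) 0 (0 : K ⧸ Q → ℂ)
          rwa [zero_smul, zero_smul] at this
        rw [h6, H18.CharOrtho.inner_zero_left, mul_zero] at h5
        exact_mod_cast h5.symm
      obtain ⟨t1, -, ht1⟩ := hint ![1, -1, 0, 0] (by decide)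
      obtain ⟨t2, -, ht2⟩ := hint ![1, 0, -1, 0] (by decide)
      obtain ⟨t3, -, ht3⟩ := hint ![1, 0, 0, -1] (by decide)
      obtain ⟨n, hn, hn4⟩ := hint a ha
      rw [Fin.sum_univ_four] at hsum ht1 ht2 ht3 hn4 ha
      obtain ⟨k0, hk0⟩ := hρ2 0
      have e : ∀ (i : Fin 4) , True := fun _ => trivial
      simp only [Matrix.cons_val_zero, Matrix.cons_val_one, Matrix.cons_val] at hsum ht1 ht2 ht3
      have q1 : 2 ∣ n := by
        rcases ha1 0 with h0 | h0 <;> rcases ha1 1 with h1 | h1 <;> rcases ha1 2 with h2 | h2 <;>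
          rcases ha1 3 with h3 | h3 <;> rw [h0, h1, h2, h3] at hn4 ha <;> omega
      obtain ⟨m, hm2⟩ := q1
      refine ⟨m, ?_⟩
      rw [hn, hm2]; push_cast; ring
    set cm : Fin 3 → Fin 4 → ℤ := ![![1, -1, 1, -1], ![1, -1, -1, 1], ![1, 1, -1, -1]] with hcm
    set vm : Fin 3 → Fin 4 → ℤ := ![![1, 0, 1, 0], ![1, 0, 0, 1], ![1, 1, 0, 0]] with hvm
    have c0 : ∀ m, ∑ i, cm m i = 0 := by rw [hcm]; decide
    have c1 : ∀ m i, cm m i = 1 ∨ cm m i = -1 := by rw [hcm]; decide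
    have c2 : ∀ m i, (![1, 1, 1, 1] : Fin 4 → ℤ) i + cm m i = 2 * vm m i := by rw [hcm, hvm]; decide
    have c3 : ∀ m m', ∑ i, cm m i * cm m' i = if m = m' then 4 else 0 := by rw [hcm]; decide
    have hW := fun m => halve (Q := Q) (w := w) hQ hQc hQe hw hww (f := W4 Y δ ![1, 1, 1, 1])
      (g := W4 Y δ (cm m)) (v := W4 Y δ (vm m)) (hcl _) (hcl _) (hc _ (c0 m)) (hgn _)
      (W4_two (c2 m)) (hpar _ (c0 m) (c1 m))
    choose W hW1 hW2 using hW
    refine ⟨fun m => LL Q (W4 Y δ (cm m)), Li Q (W4 Y δ ![1, 1, 1, 1]), W, fun m => ⟨hVb _ (hc _ (c0 m)),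
      hLLg _ (hc _ (c0 m))⟩, ?_, hLi _ hF, hLig _, ?_, fun m => ⟨hW1 m, hW2 m⟩⟩
    · intro m m'
      rw [LL_inner hQ hQc (hc _ (c0 m)), W4_inner hY hδ, c3]
      by_cases h : m = m'
      · rw [if_pos h, if_pos h]; norm_num
      · rw [if_neg h, if_neg h]; norm_num
    · rw [Li_inner, W4_inner hY hδ, show (∑ i : Fin 4, (![1, 1, 1, 1] : Fin 4 → ℤ) i * ![1, 1, 1, 1] i) = 4 from by decide]
      norm_num

end main

end H81.Q8Pack
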