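import Cfsg.Agent.Lib.H4.CA0
import Cfsg.Agent.Lib.H70.NilMax

set_option autoImplicit false
set_option linter.unusedVariables false

/-!
# S4369: piece KILL
-/

namespace H81.Ca

open Subgroup H4.CA

universe u

theorem kill {G : Type u} [Group G] [Finite G] (h : Frame G) {x : G} (hx : Bad x)
    (hab : IsMulCommutative (centralizer ({(x : G ⧸ center G)} : Set (G ⧸ center G)))) : False := by
  classical
  set C := centralizer ({x} : Set G) with hC
  have hcomm : ∀ a ∈ C, ∀ b ∈ C, a * b * a⁻¹ * b⁻¹ ∈ center G := by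
    intro a ha b hb
    have hmem : ∀ a ∈ C, (a : G ⧸ center G) ∈ centralizer ({(x : G ⧸ center G)} : Set (G ⧸ center G)) := by
      intro a ha
      rw [mem_centralizer_singleton_iff] at ha ⊢
      rw [← QuotientGroup.mk_mul, ← QuotientGroup.mk_mul, ha]
    have h1 := hab.is_comm.comm (⟨_, hmem a ha⟩ : centralizer ({(x : G ⧸ center G)} : Set (G ⧸ center G))) ⟨_, hmem b hb⟩
    have h2 : (a : G ⧸ center G) * (b : G ⧸ center G) = (b : G ⧸ center G) * (a : G ⧸ center G) := congrArg Subtype.val h1
    rw [← QuotientGroup.eq_one_iff]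
    rw [QuotientGroup.mk_mul, QuotientGroup.mk_mul, QuotientGroup.mk_mul, QuotientGroup.mk_inv, QuotientGroup.mk_inv,
      h2]
    group
  have hcl : H70.NilMax.Cl2 C := by
    intro a ha b hb c hc
    exact mem_center_iff.1 (hcomm a ha b hb) c
  have hnil : Group.IsNilpotent C := by
    have h1 : ∀ a b : C, a * b * a⁻¹ * b⁻¹ ∈ center C := by
      intro a b
      rw [mem_center_iff]
      intro c
      apply Subtype.ext
      exact mem_center_iff.1 (hcomm a a.2 b b.2) c
    have h2 : ∀ a b : C ⧸ center C, a * b = b * a := by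
      intro a b
      obtain ⟨a, rfl⟩ := QuotientGroup.mk_surjective a
      obtain ⟨b, rfl⟩ := QuotientGroup.mk_surjective b
      have h3 := (QuotientGroup.eq_one_iff (N := center C) _).2 (h1 a b)
      rw [QuotientGroup.mk_mul, QuotientGroup.mk_mul, QuotientGroup.mk_mul, QuotientGroup.mk_inv, QuotientGroup.mk_inv,
        mul_inv_eq_one, mul_inv_eq_iff_eq_mul] at h3
      exact h3
    let _ : CommGroup (C ⧸ center C) := { (inferInstance : Group (C ⧸ center C)) with mul_comm := h2 }
    have hq : Group.IsNilpotent (C ⧸ center C) := inferInstance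
    exact Subgroup.isNilpotent_of_ker_le_center (QuotientGroup.mk' (center C)) (by rw [QuotientGroup.ker_mk'])
  exact h.ns (H70.NilMax.main4039 _ G rfl C (h.coatom x hx) hnil hcl)

end H81.Ca
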