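import Cfsg.Agent.Lib.H4.CA0
import Cfsg.Agent.Lib.H98.DicksonSolv

set_option autoImplicit false
set_option linter.unusedVariables false

/-!
# S4369: piece O1
-/

namespace H81.Ca

open Subgroup H4.CA Matrix

section field
variable {F : Type} [Field F]

theorem sq_eq_one_iff_of_ne {r : F} (h : r ^ 2 = 1) : r = 1 ∨ r = -1 := by
  have : (r - 1) * (r + 1) = 0 := by linear_combination h
  rcases mul_eq_zero.1 this with h1 | h1
  · left; linear_combination h1
  · right; linear_combination h1

theorem center_eq {z : SpecialLinearGroup (Fin 2) F} (hz : z ∈ center (SpecialLinearGroup (Fin 2) F)) :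
    z = 1 ∨ z = -1 := by
  rw [Matrix.SpecialLinearGroup.mem_center_iff] at hz
  obtain ⟨r, hr, h⟩ := hz
  have hr' : r ^ 2 = 1 := by simpa using hr
  rcases sq_eq_one_iff_of_ne hr' with h1 | h1
  · left
    apply Subtype.ext
    rw [← h, h1]
    simp
  · right
    apply Subtype.ext
    rw [← h, h1]
    ext i j
    fin_cases i <;> fin_cases j <;> simp

/-- equality in `PSL₂` -/
theorem psl_eq {A B : SpecialLinearGroup (Fin 2) F}
    (h : (QuotientGroup.mk A : ProjectiveSpecialLinearGroup (Fin 2) F) = QuotientGroup.mk B) : A = B ∨ A = -B := by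
  have h1 := QuotientGroup.eq.1 h
  rcases center_eq h1 with h2 | h2
  · left
    rw [inv_mul_eq_one] at h2; exact h2
  · right
    rw [inv_mul_eq_iff_eq_mul] at h2
    rw [h2]; simp

end field

/-- an involution of `PSL₂(q)`, `q > 5` odd, has nonabelian centralizer -/
theorem exists_bad {F : Type} [Field F] [Fintype F] (h2 : (2 : F) ≠ 0) (h5 : 5 < Fintype.card F) :
    ∃ x : ProjectiveSpecialLinearGroup (Fin 2) F, Bad x := by
  classical
  -- a parameter
  obtain ⟨s, hs⟩ : ∃ s : F, s * (s ^ 2 - 1) * (s ^ 2 + 1) ≠ 0 := by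
    by_contra hcon
    push Not at hcon
    let f : Polynomial F := Polynomial.X * (Polynomial.X ^ 2 - 1) * (Polynomial.X ^ 2 + 1)
    have hf : f = Polynomial.X ^ 5 - Polynomial.X := by simp only [f]; ring
    have hd : f.natDegree ≤ 5 := by
      rw [hf]
      refine (Polynomial.natDegree_sub_le _ _).trans ?_
      rw [Polynomial.natDegree_X_pow, Polynomial.natDegree_X]; norm_num
    have hf0 : f ≠ 0 := by
      intro h0
      have h1 := congrArg (fun g : Polynomial F => g.coeff 5) h0
      rw [hf] at h1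
      simp [Polynomial.coeff_X] at h1
    have h1 : (Finset.univ : Finset F) ⊆ f.roots.toFinset := by
      intro s _
      rw [Multiset.mem_toFinset, Polynomial.mem_roots hf0, Polynomial.IsRoot.def]
      simp only [f, Polynomial.eval_mul, Polynomial.eval_X, Polynomial.eval_sub, Polynomial.eval_add, Polynomial.eval_pow,
        Polynomial.eval_one]
      exact hcon s
    have h3 := Finset.card_le_card h1
    rw [Finset.card_univ] at h3
    have h4 := (Multiset.toFinset_card_le f.roots).trans (Polynomial.card_roots' f)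
    omega
  have hs0 : s ≠ 0 := fun h => hs (by rw [h]; ring)
  have hs1 : s ^ 2 - 1 ≠ 0 := fun h => hs (by rw [h]; ring)
  have hs2 : s ^ 2 + 1 ≠ 0 := fun h => hs (by rw [h]; ring)
  -- two squares
  obtain ⟨p, hpc⟩ := CharP.exists F
  have hpp : Fact p.Prime := ⟨CharP.char_is_prime F p⟩
  have hpn : NeZero p := ⟨hpp.out.ne_zero⟩
  obtain ⟨c', d', hcd'⟩ := CharP.sq_add_sq F p (-1)
  set c : F := (c' : F) with hc
  set d : F := (d' : F) with hd
  have hcd : c ^ 2 + d ^ 2 = -1 := by rw [hcd']; norm_num
  set a : F := (1 - s ^ 2) / (s ^ 2 + 1) with ha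
  set b : F := 2 * s / (s ^ 2 + 1) with hb
  have hab : a ^ 2 + b ^ 2 = 1 := by
    rw [ha, hb]; field_simp; ring
  have ha0 : a ≠ 0 := by
    rw [ha]
    refine div_ne_zero (fun h => hs1 ?_) hs2
    linear_combination -h
  have hb0 : b ≠ 0 := by
    rw [hb]
    exact div_ne_zero (mul_ne_zero h2 hs0) hs2
  let W : SpecialLinearGroup (Fin 2) F := ⟨!![0, 1; -1, 0], by simp⟩
  let R : SpecialLinearGroup (Fin 2) F := ⟨!![a, b; -b, a], by
    rw [Matrix.det_fin_two_of]; linear_combination hab⟩
  let U : SpecialLinearGroup (Fin 2) F := ⟨!![c, d; d, -c], by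
    rw [Matrix.det_fin_two_of]; linear_combination -hcd⟩
  let V : SpecialLinearGroup (Fin 2) F := ⟨!![1, 1; 0, 1], by simp⟩
  have hcd0 : ¬ (c = 0 ∧ d = 0) := by
    rintro ⟨h3, h4⟩
    rw [h3, h4] at hcd
    norm_num at hcd
  refine ⟨(QuotientGroup.mk W : ProjectiveSpecialLinearGroup (Fin 2) F), ?_, (QuotientGroup.mk R : ProjectiveSpecialLinearGroup (Fin 2) F),
    (QuotientGroup.mk U : ProjectiveSpecialLinearGroup (Fin 2) F), ?_, ?_, ?_⟩
  · intro hcen
    rw [mem_center_iff] at hcen
    have h3 := hcen (QuotientGroup.mk V : ProjectiveSpecialLinearGroup (Fin 2) F)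
    rw [← QuotientGroup.mk_mul, ← QuotientGroup.mk_mul] at h3
    have hVW : (V * W).1 = !![-1, 1; -1, 0] := by
      show !![(1:F), 1; 0, 1] * !![0, 1; -1, 0] = _
      rw [Matrix.mul_fin_two]; simp
    have hWV : (W * V).1 = !![0, 1; -1, -1] := by
      show !![(0:F), 1; -1, 0] * !![1, 1; 0, 1] = _
      rw [Matrix.mul_fin_two]; simp
    rcases psl_eq h3 with h4 | h4
    · have h5 := congrArg (fun X : SpecialLinearGroup (Fin 2) F => X.1 0 0) h4
      simp only [hVW, hWV] at h5
      simp at h5
    · have h5 : (V * W).1 = -(W * V).1 := congrArg Subtype.val h4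
      rw [hVW, hWV] at h5
      have h6 := congrFun (congrFun h5 0) 1
      simp at h6
      exact h2 (by linear_combination h6)
  · have h3 : W * R = R * W := by
      apply Subtype.ext
      show !![(0:F), 1; -1, 0] * !![a, b; -b, a] = !![a, b; -b, a] * !![(0:F), 1; -1, 0]
      rw [Matrix.mul_fin_two, Matrix.mul_fin_two]; simp
    show (QuotientGroup.mk W : ProjectiveSpecialLinearGroup (Fin 2) F) * QuotientGroup.mk R = QuotientGroup.mk R * QuotientGroup.mk W
    rw [← QuotientGroup.mk_mul, ← QuotientGroup.mk_mul, h3]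
  · have h3 : W * U = -(U * W) := by
      apply Subtype.ext
      show !![(0:F), 1; -1, 0] * !![c, d; d, -c] = -(!![c, d; d, -c] * !![(0:F), 1; -1, 0])
      rw [Matrix.mul_fin_two, Matrix.mul_fin_two]
      ext i j
      fin_cases i <;> fin_cases j <;> simp
    show (QuotientGroup.mk W : ProjectiveSpecialLinearGroup (Fin 2) F) * QuotientGroup.mk U = QuotientGroup.mk U * QuotientGroup.mk W
    rw [← QuotientGroup.mk_mul, ← QuotientGroup.mk_mul, h3, QuotientGroup.eq]
    have h4 : (-(U * W))⁻¹ * (U * W) = -1 := by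
      rw [inv_mul_eq_iff_eq_mul]; simp
    rw [h4, Matrix.SpecialLinearGroup.mem_center_iff]
    refine ⟨-1, by simp, ?_⟩
    ext i j
    fin_cases i <;> fin_cases j <;> simp
  · intro hcm
    have h3 : (QuotientGroup.mk R : ProjectiveSpecialLinearGroup (Fin 2) F) * QuotientGroup.mk U = QuotientGroup.mk U * QuotientGroup.mk R := hcm
    rw [← QuotientGroup.mk_mul, ← QuotientGroup.mk_mul] at h3
    have hRU : (R * U).1 = !![a * c + b * d, a * d - b * c; a * d - b * c, -(b * d) - a * c] := by
      show !![a, b; -b, a] * !![c, d; d, -c] = _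
      rw [Matrix.mul_fin_two]
      ext i j
      fin_cases i <;> fin_cases j <;> simp <;> ring
    have hUR : (U * R).1 = !![a * c - b * d, b * c + a * d; a * d + b * c, b * d - a * c] := by
      show !![c, d; d, -c] * !![a, b; -b, a] = _
      rw [Matrix.mul_fin_two]
      ext i j
      fin_cases i <;> fin_cases j <;> simp <;> ring
    apply hcd0
    rcases psl_eq h3 with h4 | h4
    · have h5 : (R * U).1 = (U * R).1 := congrArg Subtype.val h4
      rw [hRU, hUR] at h5
      have h6 := congrFun (congrFun h5 0) 0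
      have h6' := congrFun (congrFun h5 0) 1
      simp only [Matrix.of_apply, Matrix.cons_val', Matrix.cons_val_zero, Matrix.cons_val_one] at h6 h6'
      have h7 : 2 * b * d = 0 := by linear_combination h6
      have h8 : 2 * b * c = 0 := by linear_combination -h6'
      exact ⟨(mul_eq_zero.1 h8).resolve_left (mul_ne_zero h2 hb0), (mul_eq_zero.1 h7).resolve_left (mul_ne_zero h2 hb0)⟩
    · have h5 : (R * U).1 = -(U * R).1 := congrArg Subtype.val h4
      rw [hRU, hUR] at h5
      have h6 := congrFun (congrFun h5 0) 0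
      have h6' := congrFun (congrFun h5 0) 1
      simp only [Matrix.neg_apply, Matrix.of_apply, Matrix.cons_val', Matrix.cons_val_zero, Matrix.cons_val_one] at h6 h6'
      have h7 : 2 * a * c = 0 := by linear_combination h6
      have h8 : 2 * a * d = 0 := by linear_combination h6'
      exact ⟨(mul_eq_zero.1 h7).resolve_left (mul_ne_zero h2 ha0), (mul_eq_zero.1 h8).resolve_left (mul_ne_zero h2 ha0)⟩

theorem two_ne {F : Type} [Field F] [Fintype F] (h : Fintype.card F % 2 = 1) : (2 : F) ≠ 0 := by
  intro h0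
  have h1 : ringChar F = 2 := by
    have : CharP F 2 := by
      refine CharTwo.of_one_ne_zero_of_two_eq_zero one_ne_zero h0
    exact ringChar.eq F 2
  have := FiniteField.even_card_of_char_two h1
  omega

theorem conv1 {F : Type} [Field F] [Fintype F] (h8 : Fintype.card F % 8 = 3 ∨ Fintype.card F % 8 = 5)
    (h5 : 5 < Fintype.card F) : ¬ Group.IsSolvable (Matrix.ProjectiveSpecialLinearGroup (Fin 2) F) ∧
      ∃ x : Matrix.ProjectiveSpecialLinearGroup (Fin 2) F, Bad x := by
  refine ⟨H98.DicksonSolv.psl_not_solvable F (by rw [Nat.card_eq_fintype_card]; omega), exists_bad (two_ne (by omega)) h5⟩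

end H81.Ca
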