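import Cfsg.Agent.Lib.H82.SL2Even
import Cfsg.Agent.Lib.H43.SLCusp
import Cfsg.Prelude.Def_DegreeGraph

/-!
# The irreducible character degrees of `SL₂(q)` and `PSL₂(q)`
-/

set_option autoImplicit false
set_option linter.style.haveILetI false
set_option linter.unusedSectionVars false

namespace H81.PSL2Deg

open Cfsg H18.CharBasic H18.CharOrtho H18.CharQuot H82.Deg H43.SLIrr H43.SLCusp H43.SLTorus H43.Principal
open H18.CharInd H43.SL2Order H43.Lines

universe u v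

variable {F : Type u} [Field F] [Fintype F]

local notation "SL2" => Matrix.SpecialLinearGroup (Fin 2)

theorem degree_cases [Fintype (SL2 F)] (χ : IrrCharacter (SL2 F)) :
    (χ : SL2 F → ℂ) = (fun _ => 1) ∨ (χ : SL2 F → ℂ) = StS F ∨
    charDegree (χ : SL2 F → ℂ) = Fintype.card F + 1 ∨
    charDegree (χ : SL2 F → ℂ) + 1 = Fintype.card F ∨
    2 * charDegree (χ : SL2 F → ℂ) = Fintype.card F + 1 ∨
    2 * charDegree (χ : SL2 F → ℂ) + 1 = Fintype.card F := by
  classical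
  letI : Fintype (Matrix.GeneralLinearGroup (Fin 2) F) := Fintype.ofFinite _
  set q := Fintype.card F with hq
  have hd := coe_charDegree' χ
  set d := charDegree (χ : SL2 F → ℂ) with hdd
  rcases H43.SLStruct.cases' χ.2 with h | h | ⟨γ, hγ, h⟩ | ⟨c, h⟩ | ⟨γ, φ, -, -, -, -, h, x, hx⟩ |
    ⟨c, φ, -, -, h, x, hx⟩
  · exact Or.inl h
  · exact Or.inr (Or.inl h)
  · right; right; left
    have h1 := congrFun h 1
    rw [H43.SLStruct.indS_one', ← hd] at h1
    exact_mod_cast h1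
  · right; right; right; left
    have h1 := congrFun h 1
    rw [H43.SLStruct.cusp_one, ← hd] at h1
    have h2 : ((d + 1 : ℕ) : ℂ) = (q : ℕ) := by push_cast; rw [h1]; ring
    exact_mod_cast h2
  · right; right; right; right; left
    have h1 := H43.SLStruct.half_degree h hx
    rw [H43.SLStruct.indS_one', ← hd] at h1
    exact_mod_cast h1
  · right; right; right; right; right
    have h1 := H43.SLStruct.half_degree h hx
    rw [H43.SLStruct.cusp_one, ← hd] at h1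
    have h2 : ((2 * d + 1 : ℕ) : ℂ) = (q : ℕ) := by push_cast; rw [h1]; ring
    exact_mod_cast h2


theorem sq_one {r : F} (h : r ^ 2 = 1) : r = 1 ∨ r = -1 := by
  have : (r - 1) * (r + 1) = 0 := by linear_combination h
  rcases mul_eq_zero.1 this with h1 | h1
  · left; linear_combination h1
  · right; linear_combination h1

/-- central elements of `SL₂` are `±1` -/
theorem center_eq {z : SL2 F} (hz : z ∈ Subgroup.center (SL2 F)) : z = 1 ∨ z = -1 := by
  rw [Matrix.SpecialLinearGroup.mem_center_iff] at hz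
  obtain ⟨r, hr, h⟩ := hz
  have hr' : r ^ 2 = 1 := by simpa using hr
  rcases sq_one hr' with h1 | h1
  · left
    apply Subtype.ext
    rw [← h, h1]
    simp
  · right
    apply Subtype.ext
    rw [← h, h1]
    ext i j
    fin_cases i <;> fin_cases j <;> simp

/-- a character `χ` with `χ (-1) = χ 1` lives on `PSL₂` -/
theorem exists_PSL {χ : SL2 F → ℂ} (h : IsIrrCharacter (SL2 F) χ) (h1 : χ (-1) = χ 1) :
    ∃ ψ : IrrCharacter (Matrix.ProjectiveSpecialLinearGroup (Fin 2) F),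
      charDegree (ψ : Matrix.ProjectiveSpecialLinearGroup (Fin 2) F → ℂ) = charDegree χ ∧
      ∀ g : SL2 F, (ψ : Matrix.ProjectiveSpecialLinearGroup (Fin 2) F → ℂ)
        (QuotientGroup.mk' (Subgroup.center (SL2 F)) g) = χ g := by
  have hN : ∀ n ∈ Subgroup.center (SL2 F), χ n = χ 1 := by
    intro n hn
    rcases center_eq hn with rfl | rfl
    · rfl
    · exact h1
  have hd := deflate_mk (Subgroup.center (SL2 F)) (isCharacter_of_isIrr h) hN
  refine ⟨⟨deflate (Subgroup.center (SL2 F)) χ, isIrrCharacter_deflate _ h hN⟩, ?_, hd⟩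
  unfold charDegree
  show ⌊(deflate (Subgroup.center (SL2 F)) χ ((1 : SL2 F) : SL2 F ⧸ Subgroup.center (SL2 F))).re⌋₊ = _
  rw [hd]


theorem one_ne_neg_one' : ((1 : MulChar F ℂ) (-1)) = 1 := MulChar.one_apply (isUnit_iff_ne_zero.2 (by simp))

theorem deg_q [Fintype (SL2 F)] : ∃ ψ : IrrCharacter (Matrix.ProjectiveSpecialLinearGroup (Fin 2) F),
      charDegree (ψ : Matrix.ProjectiveSpecialLinearGroup (Fin 2) F → ℂ) = Fintype.card F ∧
      ∀ g : SL2 F, (ψ : Matrix.ProjectiveSpecialLinearGroup (Fin 2) F → ℂ)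
        (QuotientGroup.mk' (Subgroup.center (SL2 F)) g) = StS F g := by
  have h1 : StS F (-1) = StS F 1 := by
    have := StS_neg (F := F) 1
    rwa [mul_one] at this
  obtain ⟨ψ, h2, h3⟩ := exists_PSL isIrr_StS h1
  refine ⟨ψ, ?_, h3⟩
  rw [h2, H82.SL2Even.steinberg_degree isIrr_StS]

theorem deg_q_add [Fintype (SL2 F)] (hodd : Odd (Fintype.card F)) (h5 : 5 < Fintype.card F) :
    ∃ ψ : IrrCharacter (Matrix.ProjectiveSpecialLinearGroup (Fin 2) F),
      charDegree (ψ : Matrix.ProjectiveSpecialLinearGroup (Fin 2) F → ℂ) = Fintype.card F + 1 := by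
  have hne : Fintype.card F - 1 ≠ 0 := by omega
  obtain ⟨α, hα⟩ := MulChar.exists_mulChar_orderOf F (dvd_refl (Fintype.card F - 1))
    (Complex.isPrimitiveRoot_exp (Fintype.card F - 1) hne)
  have h4 : (α ^ 2) ^ 2 ≠ 1 := by
    intro h
    rw [← pow_mul] at h
    have h1 := orderOf_dvd_of_pow_eq_one h
    rw [hα] at h1
    have h2 := Nat.le_of_dvd (by norm_num) h1
    obtain ⟨k, hk⟩ := hodd
    omega
  have hirr := (isIrr_indS_iff (α ^ 2)).2 h4
  have h1 : indFun (BSL F) (thS (α ^ 2)) (-1) = indFun (BSL F) (thS (α ^ 2)) 1 := by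
    have h2 := indS_neg (α ^ 2) (1 : SL2 F)
    rw [mul_one] at h2
    rw [h2]
    have h3 : (α ^ 2) (-1) = 1 := by
      rw [MulChar.pow_apply' _ two_ne_zero, ← map_pow]
      simp
    rw [h3, one_mul]
  obtain ⟨ψ, h2, -⟩ := exists_PSL hirr h1
  refine ⟨ψ, ?_⟩
  rw [h2]
  apply charDegree_eq_of
  rw [indS_one]
  push_cast
  ring

theorem deg_q_sub [Fintype (SL2 F)] (hodd : Odd (Fintype.card F)) (h5 : 5 < Fintype.card F) :
    ∃ ψ : IrrCharacter (Matrix.ProjectiveSpecialLinearGroup (Fin 2) F),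
      charDegree (ψ : Matrix.ProjectiveSpecialLinearGroup (Fin 2) F → ℂ) = Fintype.card F - 1 := by
  obtain ⟨a, b, ha, -, -⟩ := H40.SL2Tori.exists_nonsplit (F := F)
  set C : Subgroup (SL2 F) := Subgroup.zpowers a with hCdef
  have hcyc : IsCyclic C := by rw [hCdef]; infer_instance
  have hC : Tor C := ⟨hodd, hcyc, by rw [hCdef, Nat.card_zpowers, ha]⟩
  letI : CommGroup C := IsCyclic.commGroup
  have hfin : Finite C := inferInstance
  set a' : C := ⟨a, Subgroup.mem_zpowers a⟩ with ha'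
  have h4 : a' ^ 4 ≠ 1 := by
    intro h
    have h1 := congrArg Subtype.val h
    have h2 : a ^ 4 = 1 := h1
    have h3 := orderOf_dvd_of_pow_eq_one h2
    rw [ha] at h3
    have h2 := Nat.le_of_dvd (by norm_num) h3
    obtain ⟨k, hk⟩ := hodd
    omega
  obtain ⟨φ, hφ⟩ := CommGroup.exists_apply_ne_one_of_hasEnoughRootsOfUnity C ℂ h4
  let θ : C →* ℂˣ := φ ^ 2
  have hθ1 : ((θ ⟨-1, hC.neg_one_mem⟩ : ℂˣ) : ℂ) = (1 : MulChar F ℂ) (-1) := by
    rw [one_ne_neg_one']
    have h1 : θ ⟨-1, hC.neg_one_mem⟩ = 1 := by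
      show (φ ⟨-1, hC.neg_one_mem⟩) ^ 2 = 1
      rw [← map_pow]
      have h2 : (⟨-1, hC.neg_one_mem⟩ : C) ^ 2 = 1 := by
        apply Subtype.ext
        show (-1 : SL2 F) ^ 2 = 1
        simp
      rw [h2, map_one]
    rw [h1, Units.val_one]
  have hθ2 : θ⁻¹ ≠ θ := by
    intro h
    apply hφ
    have h1 := DFunLike.congr_fun h a'
    have h2 : (φ a' ^ 2)⁻¹ = φ a' ^ 2 := h1
    rw [map_pow, show (4 : ℕ) = 2 + 2 from rfl, pow_add]
    nth_rewrite 1 [← h2]
    exact inv_mul_cancel _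
  have hirr := isIrr_vc hC 1 θ hθ1 hθ2
  have h1 : vc C 1 θ (-1) = vc C 1 θ 1 := by
    have h2 := vc_neg hC 1 θ hθ1 (1 : SL2 F)
    rw [mul_one, one_ne_neg_one', one_mul] at h2
    exact h2
  obtain ⟨ψ, h2, -⟩ := exists_PSL hirr h1
  refine ⟨ψ, ?_⟩
  rw [h2]
  apply charDegree_eq_of
  rw [vc_one hC, Nat.cast_sub (by omega)]
  push_cast
  ring

/-- the inflation to `SL₂` of a character of `PSL₂` -/
noncomputable def infl (ψ : IrrCharacter (Matrix.ProjectiveSpecialLinearGroup (Fin 2) F)) : IrrCharacter (SL2 F) :=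
  ⟨fun g => (ψ : Matrix.ProjectiveSpecialLinearGroup (Fin 2) F → ℂ) (QuotientGroup.mk' (Subgroup.center (SL2 F)) g),
    isIrrCharacter_inflate _ ψ.2⟩

theorem infl_injective : Function.Injective (infl (F := F)) := by
  intro ψ φ h
  apply Subtype.ext
  funext x
  obtain ⟨g, rfl⟩ := QuotientGroup.mk'_surjective (Subgroup.center (SL2 F)) x
  exact congrFun (congrArg Subtype.val h) g

theorem degree_infl (ψ : IrrCharacter (Matrix.ProjectiveSpecialLinearGroup (Fin 2) F)) :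
    charDegree (infl ψ : SL2 F → ℂ) = charDegree (ψ : Matrix.ProjectiveSpecialLinearGroup (Fin 2) F → ℂ) := by
  unfold charDegree infl
  rfl

theorem dvd_iff (p : ℕ) [Fact p.Prime] [CharP F p] [Fintype (SL2 F)] (χ : IrrCharacter (SL2 F))
    (h : p ∣ charDegree (χ : SL2 F → ℂ)) : (χ : SL2 F → ℂ) = StS F := by
  have hp : p.Prime := Fact.out
  have hq : p ∣ Fintype.card F := by
    obtain ⟨n, -, hn⟩ := FiniteField.card F p
    rw [hn]
    exact dvd_pow_self p n.ne_zero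
  have key : ∀ a b : ℕ, a + 1 = b → p ∣ a → p ∣ b → False := by
    intro a b hab ha hb
    rw [← hab] at hb
    exact hp.one_lt.ne' (Nat.dvd_one.1 ((Nat.dvd_add_right ha).1 hb))
  rcases degree_cases χ with h1 | h1 | h1 | h1 | h1 | h1
  · exfalso
    rw [h1, charDegree_eq_of (n := 1) (by simp)] at h
    exact hp.one_lt.ne' (Nat.dvd_one.1 h)
  · exact h1
  · exact (key _ _ h1.symm hq h).elim
  · exact (key _ _ h1 h hq).elim
  · exact (key _ _ h1.symm hq (Dvd.dvd.mul_left h 2)).elim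
  · exact (key _ _ h1 (Dvd.dvd.mul_left h 2) hq).elim

theorem psl_unique (p : ℕ) [Fact p.Prime] [CharP F p] :
    Nat.card {χ : IrrCharacter (Matrix.ProjectiveSpecialLinearGroup (Fin 2) F) //
      p ∣ charDegree (χ : Matrix.ProjectiveSpecialLinearGroup (Fin 2) F → ℂ)} = 1 ∧
    ∀ χ : IrrCharacter (Matrix.ProjectiveSpecialLinearGroup (Fin 2) F),
      p ∣ charDegree (χ : Matrix.ProjectiveSpecialLinearGroup (Fin 2) F → ℂ) →
      charDegree (χ : Matrix.ProjectiveSpecialLinearGroup (Fin 2) F → ℂ) = Fintype.card F := by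
  letI : Fintype (SL2 F) := Fintype.ofFinite _
  have hq : p ∣ Fintype.card F := by
    obtain ⟨n, -, hn⟩ := FiniteField.card F p
    rw [hn]
    exact dvd_pow_self p n.ne_zero
  obtain ⟨ψ, h1, h2⟩ := deg_q (F := F)
  have key : ∀ χ : IrrCharacter (Matrix.ProjectiveSpecialLinearGroup (Fin 2) F),
      p ∣ charDegree (χ : Matrix.ProjectiveSpecialLinearGroup (Fin 2) F → ℂ) → χ = ψ := by
    intro χ hχ
    apply infl_injective
    apply Subtype.ext
    rw [dvd_iff p (infl χ) (by rw [degree_infl]; exact hχ)]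
    funext g
    exact (h2 g).symm
  constructor
  · rw [Nat.card_eq_one_iff_unique]
    refine ⟨⟨fun a b => Subtype.ext ((key a.1 a.2).trans (key b.1 b.2).symm)⟩, ⟨⟨ψ, ?_⟩⟩⟩
    rw [h1]
    exact hq
  · intro χ hχ
    rw [key χ hχ, h1]

/-- the degrees of `PSL₂(q)` and `SL₂(q)`, `q > 5` odd -/
theorem graph (t q : ℕ) [Fact t.Prime] [CharP F t] (ht : t ≠ 2) (hq : Fintype.card F = q) (h5 : 5 < q) {S : Type v} [Group S]
    (hS : Nonempty (S ≃* Matrix.ProjectiveSpecialLinearGroup (Fin 2) F) ∨ Nonempty (S ≃* SL2 F)) :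
    (∀ d ∈ charDegrees S, d = 1 ∨ d = q ∨ d ∣ q + 1 ∨ d ∣ q - 1) ∧
    q ∈ charDegrees S ∧ q + 1 ∈ charDegrees S ∧ q - 1 ∈ charDegrees S := by
  letI : Fintype (SL2 F) := Fintype.ofFinite _
  have hodd : Odd q := by
    obtain ⟨n, -, hn⟩ := FiniteField.card F t
    rw [← hq, hn]
    exact Odd.pow ((Fact.out : t.Prime).odd_of_ne_two ht)
  have hodd' : Odd (Fintype.card F) := by rw [hq]; exact hodd
  have h5' : 5 < Fintype.card F := by rw [hq]; exact h5
  have hsub : charDegrees (Matrix.ProjectiveSpecialLinearGroup (Fin 2) F) ⊆ charDegrees (SL2 F) := by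
    rintro d ⟨χ, rfl⟩
    exact ⟨infl χ, degree_infl χ⟩
  have hup : ∀ d ∈ charDegrees (SL2 F), d = 1 ∨ d = q ∨ d ∣ q + 1 ∨ d ∣ q - 1 := by
    rintro d ⟨χ, rfl⟩
    rcases degree_cases χ with h1 | h1 | h1 | h1 | h1 | h1
    · left; rw [h1, charDegree_eq_of (n := 1) (by simp)]
    · right; left; rw [h1, H82.SL2Even.steinberg_degree isIrr_StS, hq]
    · right; right; left; rw [h1, hq]
    · right; right; right; rw [← hq, ← h1, Nat.add_sub_cancel]
    · right; right; left; rw [← hq, ← h1]; exact Dvd.intro_left _ rfl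
    · right; right; right; rw [← hq, ← h1, Nat.add_sub_cancel]; exact Dvd.intro_left _ rfl
  have h1 : q ∈ charDegrees (Matrix.ProjectiveSpecialLinearGroup (Fin 2) F) := by
    obtain ⟨ψ, h1, -⟩ := deg_q (F := F)
    exact ⟨ψ, by rw [h1, hq]⟩
  have h2 : q + 1 ∈ charDegrees (Matrix.ProjectiveSpecialLinearGroup (Fin 2) F) := by
    obtain ⟨ψ, h1⟩ := deg_q_add (F := F) hodd' h5'
    exact ⟨ψ, by rw [h1, hq]⟩
  have h3 : q - 1 ∈ charDegrees (Matrix.ProjectiveSpecialLinearGroup (Fin 2) F) := by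
    obtain ⟨ψ, h1⟩ := deg_q_sub (F := F) hodd' h5'
    exact ⟨ψ, by rw [h1, hq]⟩
  rcases hS with ⟨⟨e⟩⟩ | ⟨⟨e⟩⟩
  · rw [H82.SL2Even.charDegrees_congr e]
    exact ⟨fun d hd => hup d (hsub hd), h1, h2, h3⟩
  · rw [H82.SL2Even.charDegrees_congr e]
    exact ⟨hup, hsub h1, hsub h2, hsub h3⟩

/-- the degree graph -/
theorem graph' (t q : ℕ) [Fact t.Prime] [CharP F t] (ht : t ≠ 2) (hq : Fintype.card F = q) (h5 : 5 < q) {S : Type v} [Group S]
    (hS : Nonempty (S ≃* Matrix.ProjectiveSpecialLinearGroup (Fin 2) F) ∨ Nonempty (S ≃* SL2 F)) :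
    degreePrimes S = {r : ℕ | r.Prime ∧ r ∣ q * (q ^ 2 - 1)} ∧
    ∀ r s : ℕ, (degreeGraph S).Adj r s ↔ (r ≠ s ∧ r.Prime ∧ s.Prime ∧ r ∣ q ^ 2 - 1 ∧ s ∣ q ^ 2 - 1 ∧
      (r = 2 ∨ s = 2 ∨ (r ∣ q + 1 ∧ s ∣ q + 1) ∨ (r ∣ q - 1 ∧ s ∣ q - 1))) := by
  obtain ⟨hd, h1, h2, h3⟩ := graph t q ht hq h5 hS
  have hfac : q ^ 2 - 1 = (q + 1) * (q - 1) := by
    have := Nat.sq_sub_sq q 1
    simpa using this
  have hodd : Odd q := by
    obtain ⟨n, -, hn⟩ := FiniteField.card F t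
    rw [← hq, hn]
    exact Odd.pow ((Fact.out : t.Prime).odd_of_ne_two ht)
  have h2a : 2 ∣ q + 1 := by
    obtain ⟨k, hk⟩ := hodd; exact ⟨k + 1, by omega⟩
  have h2b : 2 ∣ q - 1 := by
    obtain ⟨k, hk⟩ := hodd; exact ⟨k, by omega⟩
  have hpr : ∀ r : ℕ, r.Prime → r ∣ q → r = t := by
    intro r hr hrq
    obtain ⟨n, -, hn⟩ := FiniteField.card F t
    rw [← hq, hn] at hrq
    exact (Nat.prime_dvd_prime_iff_eq hr Fact.out).1 (hr.dvd_of_dvd_pow hrq)
  constructor
  · ext r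
    constructor
    · rintro ⟨hr, d, hdd, hrd⟩
      refine ⟨hr, ?_⟩
      rcases hd d hdd with rfl | rfl | h | h
      · exact absurd (Nat.dvd_one.1 hrd) hr.one_lt.ne'
      · exact Dvd.dvd.mul_right hrd _
      · rw [hfac]; exact Dvd.dvd.mul_left (Dvd.dvd.mul_right (hrd.trans h) _) _
      · rw [hfac]; exact Dvd.dvd.mul_left (Dvd.dvd.mul_left (hrd.trans h) _) _
    · rintro ⟨hr, hrd⟩
      refine ⟨hr, ?_⟩
      rw [hfac] at hrd
      rcases (Nat.Prime.dvd_mul hr).1 hrd with h | h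
      · exact ⟨q, h1, h⟩
      · rcases (Nat.Prime.dvd_mul hr).1 h with h | h
        · exact ⟨_, h2, h⟩
        · exact ⟨_, h3, h⟩
  · intro r s
    constructor
    · rintro ⟨hne, hr, hs, d, hdd, hrd⟩
      refine ⟨hne, hr, hs, ?_⟩
      rcases hd d hdd with rfl | rfl | h | h
      · exact absurd (Nat.dvd_one.1 ((Dvd.intro _ rfl).trans hrd)) hr.one_lt.ne'
      · exfalso
        exact hne ((hpr r hr ((Dvd.intro _ rfl).trans hrd)).trans
          (hpr s hs ((Dvd.intro_left _ rfl).trans hrd)).symm)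
      · have ha : r ∣ q + 1 := (Dvd.intro _ rfl).trans (hrd.trans h)
        have hb : s ∣ q + 1 := (Dvd.intro_left _ rfl).trans (hrd.trans h)
        rw [hfac]
        exact ⟨Dvd.dvd.mul_right ha _, Dvd.dvd.mul_right hb _, Or.inr (Or.inr (Or.inl ⟨ha, hb⟩))⟩
      · have ha : r ∣ q - 1 := (Dvd.intro _ rfl).trans (hrd.trans h)
        have hb : s ∣ q - 1 := (Dvd.intro_left _ rfl).trans (hrd.trans h)
        rw [hfac]
        exact ⟨Dvd.dvd.mul_left ha _, Dvd.dvd.mul_left hb _, Or.inr (Or.inr (Or.inr ⟨ha, hb⟩))⟩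
    · rintro ⟨hne, hr, hs, hr1, hs1, h⟩
      have hcop : Nat.Coprime r s := (Nat.coprime_primes hr hs).2 hne
      have hfin : (r ∣ q + 1 ∧ s ∣ q + 1) ∨ (r ∣ q - 1 ∧ s ∣ q - 1) := by
        rcases h with rfl | rfl | h | h
        · rw [hfac] at hs1
          rcases (Nat.Prime.dvd_mul hs).1 hs1 with h | h
          · exact Or.inl ⟨h2a, h⟩
          · exact Or.inr ⟨h2b, h⟩
        · rw [hfac] at hr1
          rcases (Nat.Prime.dvd_mul hr).1 hr1 with h | h
          · exact Or.inl ⟨h, h2a⟩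
          · exact Or.inr ⟨h, h2b⟩
        · exact Or.inl h
        · exact Or.inr h
      refine ⟨hne, hr, hs, ?_⟩
      rcases hfin with ⟨ha, hb⟩ | ⟨ha, hb⟩
      · exact ⟨_, h2, hcop.mul_dvd_of_dvd_of_dvd ha hb⟩
      · exact ⟨_, h3, hcop.mul_dvd_of_dvd_of_dvd ha hb⟩

end H81.PSL2Deg
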