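import Mathlib
import Cfsg.Prelude.Def_Blocks
import Cfsg.Agent.Lib.H31.Clifford
import Cfsg.Agent.Lib.H37.PSolv
import Cfsg.Agent.Lib.H70.Cover
import Cfsg.Agent.Lib.H4.CharCount
import Cfsg.Agent.Lib.H4.CenterIndex
import Cfsg.Agent.Lib.H81.DegreeCount
import Cfsg.Agent.Lib.H81.CentralVal
import Cfsg.Agent.Lib.H19.Second
import Cfsg.Agent.Lib.H55.SylowBasic

/-!
# p-solvable groups all of whose character degrees are prime to p (H81.DegNormal)
-/

set_option autoImplicit false
set_option linter.unusedSectionVars false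
set_option linter.unusedVariables false
open Cfsg H18.CharQuot H31.Clifford
open scoped ComplexConjugate

namespace H81.DegNormal

universe u
variable {G : Type u} [Group G] [Finite G]

/-- over every irreducible character of a normal subgroup there is one of the group whose degree
is a multiple of (inertia index) * degree -/
theorem exists_over_dvd (N : Subgroup G) [N.Normal] (θ : IrrCharacter N) :
    ∃ χ : IrrCharacter G,
      (inertia N (θ : N → ℂ)).index * charDegree (θ : N → ℂ) ∣ charDegree (χ : G → ℂ) := by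
  have := Fintype.ofFinite G
  have := Fintype.ofFinite N
  obtain ⟨χ, hχ, hne⟩ := exists_over N θ.2
  have h1 := degree_eq N hχ θ.2 hne
  obtain ⟨m, hm⟩ := H18.CharOrtho.inner_char_natCast
    (H18.CharBasic.isCharacter_restrict N (H18.CharBasic.isCharacter_of_isIrr hχ))
    (H18.CharBasic.isCharacter_of_isIrr θ.2)
  refine ⟨⟨χ, hχ⟩, m, ?_⟩
  have h2 : (charDegree χ : ℂ) = ((inertia N (θ : N → ℂ)).index : ℂ) * (charDegree (θ : N → ℂ) : ℂ) * m := by
    rw [← H81.DegreeCount.irr_one_eq θ, ← H81.DegreeCount.irr_one_eq ⟨χ, hχ⟩]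
    change χ 1 = _
    rw [h1, hm]
    ring
  exact_mod_cast h2

/-- all irreducible character degrees are prime to `p` -/
def NoDeg (p : ℕ) (G : Type u) [Group G] : Prop :=
  ∀ χ : IrrCharacter G, ¬ p ∣ charDegree (χ : G → ℂ)

theorem NoDeg.normal {p : ℕ} (h : NoDeg p G) (N : Subgroup G) [N.Normal] : NoDeg p N := by
  intro θ hθ
  obtain ⟨χ, hχ⟩ := exists_over_dvd N θ
  exact h χ ((hθ.trans (dvd_mul_left _ _)).trans hχ)

theorem NoDeg.quotient {p : ℕ} (h : NoDeg p G) (N : Subgroup G) [N.Normal] : NoDeg p (G ⧸ N) := by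
  intro θ hθ
  refine h ⟨fun g => (θ : G ⧸ N → ℂ) (g : G ⧸ N), isIrrCharacter_inflate N θ.2⟩ ?_
  exact hθ

/-- a normal subgroup `N` of `p`-power index: all irreducible characters of `N` are invariant -/
theorem NoDeg.invariant {p : ℕ} [Fact p.Prime] (h : NoDeg p G) (N : Subgroup G) [N.Normal]
    (hidx : ∃ k, N.index = p ^ k) (θ : IrrCharacter N) (g : G) :
    conjFunN N g (θ : N → ℂ) = θ := by
  obtain ⟨χ, hχ⟩ := exists_over_dvd N θ
  obtain ⟨k, hk⟩ := hidx
  have := Fintype.ofFinite G
  have h1 : N ≤ inertia N (θ : N → ℂ) := le_inertia N (H18.CharBasic.isClassFunction_of_isIrr θ.2)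
  have h2 := Subgroup.index_dvd_of_le h1
  rw [hk] at h2
  obtain ⟨j, hj, hj'⟩ := (Nat.dvd_prime_pow (Fact.out : p.Prime)).1 h2
  rcases Nat.eq_zero_or_pos j with h0 | h0
  · rw [h0, pow_zero, Subgroup.index_eq_one] at hj'
    have : g ∈ inertia N (θ : N → ℂ) := by rw [hj']; exact Subgroup.mem_top g
    exact this
  · exfalso
    apply h χ
    refine dvd_trans ?_ hχ
    rw [hj']
    exact dvd_mul_of_dvd_left (dvd_pow_self p h0.ne') _

/-- classes of `N` are `G`-invariant if all irreducible characters of `N` are -/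
theorem isConj_of_invariant (N : Subgroup G) [N.Normal]
    (hinv : ∀ (θ : IrrCharacter N) (g : G), conjFunN N g (θ : N → ℂ) = θ) (g : G) (n : N) :
    IsConj n ⟨g * n * g⁻¹, (inferInstance : N.Normal).conj_mem n n.2 g⟩ := by
  rw [H18.CharInd.isConj_iff_char]
  intro θ
  have h1 := congrFun (hinv θ g) n
  exact h1.symm

theorem index_centralizer_dvd (N : Subgroup G) [N.Normal]
    (hinv : ∀ (θ : IrrCharacter N) (g : G), conjFunN N g (θ : N → ℂ) = θ) (n : N) :
    (Subgroup.centralizer ({(n : G)} : Set G)).index ∣ Nat.card N := by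
  have h1 := H4.CharCount.index_centralizer_eq_card (n : G)
  have h2 := H4.CharCount.index_centralizer_eq_card n
  have h3 : Nat.card {x : G // IsConj (n : G) x} = Nat.card {x : N // IsConj n x} := by
    symm
    refine Nat.card_congr (Equiv.ofBijective (fun x => ⟨(x.1 : G), ?_⟩) ⟨?_, ?_⟩)
    · obtain ⟨c, hc⟩ := isConj_iff.1 x.2
      exact isConj_iff.2 ⟨c, by rw [← hc]; rfl⟩
    · intro x y hxy
      have h9 : (x.1 : G) = (y.1 : G) := Subtype.mk.inj hxy
      exact Subtype.ext (Subtype.ext h9)
    · rintro ⟨x, hx⟩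
      obtain ⟨c, hc⟩ := isConj_iff.1 hx
      refine ⟨⟨⟨c * n * c⁻¹, (inferInstance : N.Normal).conj_mem n n.2 c⟩,
        isConj_of_invariant N hinv c n⟩, ?_⟩
      exact Subtype.ext hc
  rw [h1, h3, ← h2]
  exact Subgroup.index_dvd_card _

/-- `G/N` a `p`-group, `N` a `p'`-group, all class sizes of elements of `N` prime to `p` ⇒ the
Sylow `p`-subgroup is normal. -/
theorem sylow_normal_of_index {p : ℕ} [hp : Fact p.Prime] (N : Subgroup G) [N.Normal]
    (hidx : ∃ k, N.index = p ^ k)
    (hn : ∀ n ∈ N, ¬ p ∣ (Subgroup.centralizer ({n} : Set G)).index) (P : Sylow p G) :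
    (P : Subgroup G).Normal := by
  rw [← Subgroup.normalizer_eq_top_iff]
  apply H70.Cover.eq_top_of_cover
  intro x
  -- decompose x
  obtain ⟨k, hk⟩ := hidx
  obtain ⟨z, y, hzy, hcomm, ⟨e, he⟩, hy⟩ := H19.Second.exists_isPPart hp.out x
  have hyN : y ∈ N := by
    rw [← QuotientGroup.eq_one_iff, ← orderOf_eq_one_iff]
    have h1 : orderOf ((y : G) : G ⧸ N) ∣ orderOf y := orderOf_map_dvd (QuotientGroup.mk' N) y
    have h2 : orderOf ((y : G) : G ⧸ N) ∣ p ^ k := by
      rw [← hk]; exact orderOf_dvd_natCard _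
    exact Nat.eq_one_of_dvd_coprimes
      (Nat.Coprime.pow_left k ((Nat.Prime.coprime_iff_not_dvd hp.out).2 hy)) h2 h1
  have hzC : z ∈ Subgroup.centralizer ({y} : Set G) := by
    rw [Subgroup.mem_centralizer_singleton_iff]; exact hcomm
  have hzp : IsPGroup p (Subgroup.zpowers (⟨z, hzC⟩ : Subgroup.centralizer ({y} : Set G))) := by
    rw [IsPGroup.iff_card]
    exact ⟨e, by rw [Nat.card_zpowers, Subgroup.orderOf_mk, he]⟩
  obtain ⟨S, hS⟩ := hzp.exists_le_sylow
  have hR : IsPGroup p ((S : Subgroup (Subgroup.centralizer ({y} : Set G))).map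
      (Subgroup.centralizer ({y} : Set G)).subtype) := S.isPGroup'.map _
  have hRidx : ¬ p ∣ ((S : Subgroup (Subgroup.centralizer ({y} : Set G))).map
      (Subgroup.centralizer ({y} : Set G)).subtype).index := by
    rw [Subgroup.index_map_subtype]
    intro h
    rcases hp.out.dvd_mul.1 h with h | h
    · exact S.not_dvd_index h
    · exact hn y hyN h
  let R : Sylow p G := hR.toSylow hRidx
  have hRmem : ∀ r, r ∈ (R : Subgroup G) ↔
      r ∈ ((S : Subgroup (Subgroup.centralizer ({y} : Set G))).map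
      (Subgroup.centralizer ({y} : Set G)).subtype) := fun r => Iff.rfl
  have hzR : z ∈ (R : Subgroup G) := by
    rw [hRmem]
    exact Subgroup.mem_map.2 ⟨⟨z, hzC⟩, hS (Subgroup.mem_zpowers _), rfl⟩
  have hyR : ∀ r ∈ (R : Subgroup G), y * r = r * y := by
    intro r hr
    rw [hRmem] at hr
    obtain ⟨⟨r', hr'C⟩, -, rfl⟩ := Subgroup.mem_map.1 hr
    exact (Subgroup.mem_centralizer_singleton_iff.1 hr'C).symm
  have hxR : ∀ r ∈ (R : Subgroup G), x * r * x⁻¹ ∈ (R : Subgroup G) := by
    intro r hr
    have h1 : x * r * x⁻¹ = z * r * z⁻¹ := by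
      calc x * r * x⁻¹ = z * (y * r) * y⁻¹ * z⁻¹ := by rw [← hzy]; group
        _ = z * r * z⁻¹ := by rw [hyR r hr]; group
    rw [h1]
    exact mul_mem (mul_mem hzR hr) (inv_mem hzR)
  obtain ⟨a, ha⟩ := MulAction.exists_smul_eq G P R
  have hPR : ∀ q, q ∈ (P : Subgroup G) ↔ a * q * a⁻¹ ∈ (R : Subgroup G) := by
    intro q
    rw [← ha, Sylow.coe_subgroup_smul, Subgroup.mem_pointwise_smul_iff_inv_smul_mem]
    have h5 : (MulAut.conj a)⁻¹ • (a * q * a⁻¹) = q := by
      rw [← map_inv, MulAut.smul_def, MulAut.conj_apply]; group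
    rw [h5]
  refine ⟨a, ?_⟩
  apply H55.SylowBasic.mem_normalizer_of_forall
  intro q hq
  rw [hPR] at hq ⊢
  have h2 := hxR _ hq
  have h3 : a * (a⁻¹ * x * a * q * (a⁻¹ * x * a)⁻¹) * a⁻¹ = x * (a * q * a⁻¹) * x⁻¹ := by group
  rw [h3]
  exact h2

/-- The key step: an inductive proof that the Sylow `p`-subgroup is normal. -/
theorem not_dvd_index_pCore {p : ℕ} [hp : Fact p.Prime] (n : ℕ) :
    ∀ (G : Type u) [Group G] [Finite G], Nat.card G = n → IsPSolvable p G → NoDeg p G →
      ¬ p ∣ (pCore p G).index := by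
  induction n using Nat.strong_induction_on with
  | _ n ih =>
    intro G _ _ hn hsolv hdeg
    have hcn : (pCore p G).Normal := inferInstance
    have hcardlt : ∀ L : Subgroup G, L.Normal → L ≠ ⊥ → L.index < n := by
      intro L _ hL
      rw [← hn, ← L.index_mul_card]
      have h1 : 0 < L.index := Nat.pos_of_ne_zero Subgroup.index_ne_zero_of_finite
      have h2 : 1 < Nat.card L := by
        rw [Finite.one_lt_card_iff_nontrivial]
        exact (Subgroup.nontrivial_iff_ne_bot L).2 hL
      nlinarith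
    by_cases hcore : pCore p G = ⊥
    swap
    · -- go to the quotient
      have h1 := ih (Nat.card (G ⧸ pCore p G)) (hcardlt _ hcn hcore) (G ⧸ pCore p G) rfl
        (H37.PSolv.quotient hsolv _) (hdeg.quotient _)
      rw [H1.Cores.pCore_quotient_pCore, Subgroup.index_bot] at h1
      exact h1
    · rw [hcore, Subgroup.index_bot]
      intro hp1
      have hnt : Nontrivial G := by
        rw [← Finite.one_lt_card_iff_nontrivial]
        exact lt_of_lt_of_le hp.out.one_lt (Nat.le_of_dvd Nat.card_pos hp1)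
      have hN := (H37.PSolv.core_ne_bot hsolv).resolve_left (fun h => h hcore)
      have hNn : (pPrimeCore p G).Normal := inferInstance
      have h1 := ih (Nat.card (G ⧸ pPrimeCore p G)) (hcardlt _ hNn hN) (G ⧸ pPrimeCore p G) rfl
        (H37.PSolv.quotient hsolv _) (hdeg.quotient _)
      set N := pPrimeCore p G with hNdef
      set K := (pCore p (G ⧸ N)).comap (QuotientGroup.mk' N) with hK
      have hKidx : K.index = (pCore p (G ⧸ N)).index :=
        Subgroup.index_comap_of_surjective _ (QuotientGroup.mk'_surjective N)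
      have hKn : K.Normal := inferInstance
      by_cases hKtop : K = ⊤
      · -- G/N is a p-group
        have h2 : pCore p (G ⧸ N) = ⊤ := by
          rw [← Subgroup.map_comap_eq_self_of_surjective (QuotientGroup.mk'_surjective N)
            (pCore p (G ⧸ N)), ← hK, hKtop, ← MonoidHom.range_eq_map,
            MonoidHom.range_eq_top.2 (QuotientGroup.mk'_surjective N)]
        have h3 : ∃ k, N.index = p ^ k := by
          obtain ⟨k, hk⟩ := IsPGroup.iff_card.1 (H1.Cores.isPGroup_pCore (G := G ⧸ N) p)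
          rw [h2, Subgroup.card_top] at hk
          exact ⟨k, hk⟩
        obtain ⟨P⟩ : Nonempty (Sylow p G) := inferInstance
        have h4 := sylow_normal_of_index N h3 (fun n hn hd => by
          have h5 := index_centralizer_dvd N (fun θ g => hdeg.invariant N h3 θ g) ⟨n, hn⟩
          have h6 := H1.Cores.coprime_card_pPrimeCore (G := G) p
          exact (Nat.Prime.coprime_iff_not_dvd hp.out).1 h6.symm (hd.trans h5)) P
        have h5 : (P : Subgroup G) ≤ pCore p G := H1.Cores.le_pCore h4 P.isPGroup'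
        rw [hcore, le_bot_iff] at h5
        exact P.ne_bot_of_dvd_card hp1 h5
      · have h2 : Nat.card K < n := by
          rw [← hn]
          refine lt_of_le_of_ne (Nat.le_of_dvd Nat.card_pos K.card_subgroup_dvd_card) fun h => ?_
          exact hKtop (Subgroup.eq_top_of_card_eq K h)
        have h3 := ih (Nat.card K) h2 K rfl (H37.PSolv.subgroup hsolv K) (hdeg.normal K)
        have h4 : pCore p K = ⊥ := by
          have h5 := H1.Cores.map_subtype_pCore p K
          rw [hcore, inf_bot_eq, Subgroup.map_eq_bot_iff_of_injective _ K.subtype_injective] at h5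
          exact h5
        rw [h4, Subgroup.index_bot] at h3
        rw [← K.card_mul_index] at hp1
        rcases hp.out.dvd_mul.1 hp1 with h5 | h5
        · exact h3 h5
        · rw [hKidx] at h5; exact h1 h5

/-- p-solvable groups with degrees prime to `p` have a normal Sylow `p`-subgroup -/
theorem sylow_normal {p : ℕ} [hp : Fact p.Prime] (hsolv : IsPSolvable p G) (hdeg : NoDeg p G)
    (P : Sylow p G) : (P : Subgroup G).Normal := by
  have h1 := not_dvd_index_pCore (Nat.card G) G rfl hsolv hdeg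
  have h2 : pCore p G ≤ (P : Subgroup G) := H1.Cores.pCore_le_sylow P
  have h3 : (P : Subgroup G) = pCore p G := by
    let Q : Sylow p G := (H1.Cores.isPGroup_pCore (G := G) p).toSylow h1
    have h4 : (Q : Subgroup G) = pCore p G := rfl
    symm
    rw [← h4]
    rw [← h4] at h2
    exact (Q.is_maximal' P.isPGroup' h2).symm
  rw [h3]; infer_instance

/-- groups all of whose irreducible characters are linear are commutative -/
theorem comm_of_linear (h : ∀ χ : IrrCharacter G, (χ : G → ℂ) 1 = 1) (a b : G) :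
    a * b = b * a := by
  have h1 : a * b * a⁻¹ * b⁻¹ = 1 := by
    apply eq_one_of_forall_irr
    intro ψ hψ
    have h1 : ψ 1 = 1 := h ⟨ψ, hψ⟩
    rw [h1]
    refine H81.CentralVal.linear_commutator (H18.CharBasic.isCharacter_of_isIrr hψ) h1 ?_
    rw [← Abelianization.ker_of, MonoidHom.mem_ker]
    simp
  calc a * b = (a * b * a⁻¹ * b⁻¹) * (b * a) := by group
    _ = b * a := by rw [h1, one_mul]

/-- a `p`-group with all degrees prime to `p` is commutative -/
theorem comm_of_noDeg {p : ℕ} [hp : Fact p.Prime] (hG : IsPGroup p G) (hdeg : NoDeg p G)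
    (a b : G) : a * b = b * a := by
  apply comm_of_linear
  intro χ
  by_contra h
  exact hdeg χ (H81.CentralVal.dvd_degree_of_isPGroup hG χ h)

/-- **Itô's theorem for `p`-solvable groups.** -/
theorem ito_iff {p : ℕ} [hp : Fact p.Prime] (hsolv : IsPSolvable p G) (P : Sylow p G) :
    ((P : Subgroup G).Normal ∧ IsMulCommutative P) ↔ NoDeg p G := by
  constructor
  · rintro ⟨hn, hc⟩ χ hχ
    have h1 := H4.CenterIndex.ito χ.2 (H81.DegreeCount.irr_one_eq χ) (P : Subgroup G)
      (fun a ha b hb => congrArg Subtype.val (hc.is_comm.comm ⟨a, ha⟩ ⟨b, hb⟩))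
    exact P.not_dvd_index (hχ.trans h1)
  · intro hdeg
    have hn := sylow_normal hsolv hdeg P
    refine ⟨hn, ⟨⟨fun a b => ?_⟩⟩⟩
    exact comm_of_noDeg P.isPGroup' (hdeg.normal (P : Subgroup G)) a b

end H81.DegNormal
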