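import Cfsg.Agent.Lib.H81.Contrib
import Cfsg.Agent.Lib.H20.DefZero

/-!
# `l(B) ≤ k(B)` with equality iff the defect is zero
-/

set_option autoImplicit false
set_option linter.unusedSectionVars false
set_option linter.unusedVariables false
set_option linter.style.haveILetI false
open Cfsg H20.Loc H20.GA H20.Blk H20.DefGrp H20.Orth H20.Defect H20.Height
open scoped ComplexConjugate

namespace H81.RankCard

open H18.CharBasic H18.CharOrtho

universe u
variable {G : Type u} [Group G] [Finite G] {M : Ideal AlgInt} {p : ℕ}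

theorem rank_eq (B : Set (IrrCharacter G)) :
    blockRank p B = (Set.range (fun χ : B => reg p ((χ : IrrCharacter G) : G → ℂ))).finrank ℂ := by
  rw [blockRank, Set.finrank]
  have h1 : (fun χ : IrrCharacter G => pRegularPart p (χ : G → ℂ)) '' B =
      Set.range (fun χ : B => reg p ((χ : IrrCharacter G) : G → ℂ)) := by
    rw [Set.image_eq_range]
    congr 1
    funext χ
    exact H81.Contrib.pRegularPart_eq p _
  rw [h1]

theorem rank_le (B : Set (IrrCharacter G)) : blockRank p B ≤ Nat.card B := by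
  letI := Fintype.ofFinite B
  rw [rank_eq, Nat.card_eq_fintype_card]
  exact finrank_range_le_card _

theorem rank_of_defect_zero (hM : IsPModular p M) {B : Set (IrrCharacter G)} (hB : IsPBlock M B)
    (h : blockDefect p B = 0) : Nat.card B = 1 ∧ blockRank p B = 1 := by
  haveI := pm_isPrime hM
  obtain ⟨χ, hχ⟩ := isPBlock_nonempty hB
  have h1 := (H20.DefZero.blockDefect_eq_zero_iff hM hB hχ).1 h
  have h2 := H20.DefZero.blockOf_eq_singleton hM h1
  have h3 : B = {χ} := (isPBlock_eq hB hχ).trans h2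
  have h4 : Nat.card B = 1 := by rw [h3]; simp
  refine ⟨h4, le_antisymm (h4 ▸ rank_le B) ?_⟩
  rw [rank_eq]
  have h5 : reg p (χ : G → ℂ) ≠ 0 := by
    intro hc
    have := congrFun hc 1
    rw [reg_of] at this
    · exact irr_one_ne_zero χ.2 this
    · rw [orderOf_one]; exact (pm_prime hM).one_lt.ne' ∘ Nat.dvd_one.1
  rw [Set.finrank, Nat.one_le_iff_ne_zero, ← Nat.pos_iff_ne_zero, Module.finrank_pos_iff]
  refine ⟨⟨⟨reg p (χ : G → ℂ), Submodule.subset_span ⟨⟨χ, hχ⟩, rfl⟩⟩, 0, ?_⟩⟩
  intro hc
  exact h5 (congrArg Subtype.val hc)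

theorem defect_zero_of_eq (hM : IsPModular p M) {B : Set (IrrCharacter G)} (hB : IsPBlock M B)
    (h : Nat.card B = blockRank p B) : blockDefect p B = 0 := by
  classical
  haveI := pm_isPrime hM
  haveI : Fact p.Prime := ⟨pm_prime hM⟩
  letI := Fintype.ofFinite B
  letI := Fintype.ofFinite (IrrCharacter G)
  rw [rank_eq, Nat.card_eq_fintype_card, ← linearIndependent_iff_card_eq_finrank_span] at h
  have hv : ∀ y : G, p ∣ orderOf y → ∀ χ ∈ B, ((χ : IrrCharacter G) : G → ℂ) y = 0 := by
    intro y hy χ hχ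
    rw [Fintype.linearIndependent_iff] at h
    have h1 := h (fun χ : B => conj (((χ : IrrCharacter G) : G → ℂ) y)) (by
      funext x
      rw [Finset.sum_apply, Pi.zero_apply]
      by_cases hx : p ∣ orderOf x
      · refine Finset.sum_eq_zero fun ψ _ => ?_
        rw [Pi.smul_apply, reg_not hx, smul_zero]
      · have h2 := weak_orth hM (isUnion_of_isPBlock hB) hx hy
        rw [← Finset.sum_filter] at h2
        rw [← h2]
        rw [← Finset.sum_subtype (Finset.univ.filter (fun χ : IrrCharacter G => χ ∈ B))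
          (p := fun χ => χ ∈ B) (by simp)
          (fun ψ : IrrCharacter G => (conj ((ψ : G → ℂ) y) • reg p (ψ : G → ℂ)) x)]
        refine Finset.sum_congr rfl fun ψ _ => ?_
        rw [Pi.smul_apply, reg_of hx, smul_eq_mul, mul_comm]) ⟨χ, hχ⟩
    exact (map_eq_zero _).1 h1
  obtain ⟨χ, hχ⟩ := isPBlock_nonempty hB
  rw [H20.DefZero.blockDefect_eq_zero_iff hM hB hχ]
  have h3 : p ^ (Nat.card G).factorization p ∣ charDegree (χ : G → ℂ) := by
    apply H20.DefZero.full_degree_of_vanish (isCharacter_of_isIrr χ.2)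
    intro x hx1 ⟨k, hk⟩
    apply hv x _ χ hχ
    rw [hk]
    apply dvd_pow_self
    rintro rfl
    rw [pow_zero, orderOf_eq_one_iff] at hk
    exact hx1 hk
  apply le_antisymm
  · exact (Nat.factorization_le_iff_dvd (charDegree_ne_zero χ) (Nat.card_pos (α := G)).ne').2
      (charDegree_dvd_card χ) p
  · exact ((pm_prime hM).pow_dvd_iff_le_factorization (charDegree_ne_zero χ)).1 h3

end H81.RankCard
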