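import Cfsg.Agent.Lib.H80.BR2

/-!
# The stabilizer of a block as a subgroup
-/

set_option autoImplicit false
set_option linter.unusedSectionVars false
set_option linter.unusedVariables false

namespace H81.ExT

open Cfsg H20.Loc H20.GA H80.GA H80.GB H80.BR1 H80.BR2

universe u

variable {M : Ideal AlgInt} [M.IsMaximal] {G : Type u} [Group G] [Finite G]

theorem exists_T (D C : Subgroup G) {c : Set (IrrCharacter C)} (hc : IsPBlock M c) :
    ∃ T : Subgroup G, ∀ g : G, g ∈ T ↔ (g ∈ Subgroup.normalizer (D : Set G) ∧ StabilizesBlock C c g) := by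
  refine ⟨{ carrier := {g | g ∈ Subgroup.normalizer (D : Set G) ∧ (g ∈ Subgroup.normalizer (C : Set G) ∧
        cj g (bl M C c) = bl M C c)}
            one_mem' := ⟨one_mem _, one_mem _, by simp⟩
            mul_mem' := ?_
            inv_mem' := ?_ }, fun g => ?_⟩
  · rintro a b ⟨ha1, ha2, ha3⟩ ⟨hb1, hb2, hb3⟩
    refine ⟨mul_mem ha1 hb1, mul_mem ha2 hb2, ?_⟩
    rw [cj_mul, hb3, ha3]
  · rintro a ⟨ha1, ha2, ha3⟩
    refine ⟨inv_mem ha1, inv_mem ha2, ?_⟩
    conv_lhs => rw [← ha3]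
    rw [← cj_mul, inv_mul_cancel]
    simp
  · change g ∈ Subgroup.normalizer (D : Set G) ∧ (g ∈ Subgroup.normalizer (C : Set G) ∧
        cj g (bl M C c) = bl M C c) ↔ _
    rw [stabilizes_iff hc]

end H81.ExT
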