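import Cfsg.Agent.Lib.H89.MX0

/-!
# S5316: the automorphism `γ` of `N_S(E)` extending the involution `τ`
-/

set_option autoImplicit false
set_option linter.unusedSectionVars false
set_option linter.unusedVariables false

open Subgroup Cfsg Cfsg.FusionSystem H67.HallPetrescu H57.Mc H89.MX
open H86.FusBasic H86.FusSat

namespace H81.MXC

variable {Ω : Type*} [Group Ω] {S : Subgroup Ω} [Finite S] {p n : ℕ} [hp : Fact p.Prime]
  {F : FusionSystem S} {E C W B : Subgroup Ω} {τ : MulAut E}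

/-- Restriction of an automorphism in `Aut_F(P)` to a subgroup it maps into itself. -/
theorem restrict_aut {P T : Subgroup Ω} (hTP : T ≤ P) {β : MulAut P}
    (hβ : β ∈ F.autGroup P) (hPS : P ≤ S) (hT : ∀ x : P, (x : Ω) ∈ T → ((β x : P) : Ω) ∈ T) :
    ∃ γ ∈ F.autGroup T, ∀ x : T, ((γ x : T) : Ω) = ((β ⟨x, hTP x.2⟩ : P) : Ω) := by
  have hfT : Finite T := H86.FusSat.finite_of_le (hTP.trans hPS)
  rw [mem_autGroup F hPS] at hβ
  obtain ⟨R, f, hR, hf, hfx, -⟩ := hβ.restrict hTP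
  have hRT : R = T := by
    have h1 : R ≤ T := by
      intro y hy
      obtain ⟨x, hx⟩ := f.surjective ⟨y, hy⟩
      have h2 := hfx x
      rw [hx] at h2
      have h3 : y = ((β ⟨x, hTP x.2⟩ : P) : Ω) := h2
      rw [h3]
      exact hT _ x.2
    have h2 : Nat.card R = Nat.card T := (Nat.card_congr f.toEquiv).symm
    have hfR : Finite R := Finite.of_equiv _ f.toEquiv
    exact (Subgroup.eq_of_le_of_card_ge h1 h2.ge)
  subst hRT
  exact ⟨f, hf.mem_autGroup, hfx⟩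

/-- an element of `E = W × B` inverted by `τ` lies in `W` -/
theorem mem_W_of_inv (D : Dat S p n F E) (H : Tau S p F E C τ W B) {c : E} (hc : τ c = c⁻¹) :
    (c : Ω) ∈ W := by
  have hfS : Finite S := inferInstance
  have hcE : (c : Ω) ∈ W ⊔ B := by rw [H.sup]; exact c.2
  have hBE : B ≤ E := H.BC.trans H.CE
  have hWn : ∀ w ∈ W, ∀ b ∈ B, w * b = b * w := fun w hw b hb => D.comm w (H.WE hw) b (hBE hb)
  have hex : ∃ w ∈ W, ∃ b ∈ B, w * b = (c : Ω) := by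
    have h1 : W ⊔ B ≤ (W ⊔ B) := le_rfl
    have key : ∀ x ∈ W ⊔ B, ∃ w ∈ W, ∃ b ∈ B, w * b = x := by
      intro x hx
      rw [sup_eq_closure_mul] at hx
      refine closure_induction (p := fun x _ => ∃ w ∈ W, ∃ b ∈ B, w * b = x) ?_ ?_ ?_ ?_ hx
      · rintro _ ⟨w, hw, b, hb, rfl⟩
        exact ⟨w, hw, b, hb, rfl⟩
      · exact ⟨1, one_mem _, 1, one_mem _, one_mul 1⟩
      · rintro _ _ - - ⟨w, hw, b, hb, rfl⟩ ⟨w', hw', b', hb', rfl⟩
        refine ⟨w * w', mul_mem hw hw', b * b', mul_mem hb hb', ?_⟩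
        have := hWn w' hw' b hb
        calc w * w' * (b * b') = w * (w' * b) * b' := by group
          _ = _ := by rw [this]; group
      · rintro _ - ⟨w, hw, b, hb, rfl⟩
        refine ⟨w⁻¹, inv_mem hw, b⁻¹, inv_mem hb, ?_⟩
        rw [hWn w⁻¹ (inv_mem hw) b⁻¹ (inv_mem hb)]
        group
    exact key _ hcE
  obtain ⟨w, hw, b, hb, hwb⟩ := hex
  have hcw : c = ⟨w, H.WE hw⟩ * ⟨b, hBE hb⟩ := Subtype.ext hwb.symm
  have h1 : τ c = (⟨w, H.WE hw⟩ : E)⁻¹ * ⟨b, hBE hb⟩ := by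
    rw [hcw, map_mul, H.inv ⟨w, H.WE hw⟩ hw, H.fix ⟨b, hBE hb⟩ hb]
  rw [h1, hcw] at hc
  have h2 : (w : Ω)⁻¹ * b = (w * b)⁻¹ := congrArg Subtype.val hc
  rw [mul_inv_rev, ← hWn w⁻¹ (inv_mem hw) b⁻¹ (inv_mem hb)] at h2
  have h3 : b = b⁻¹ := mul_left_cancel h2
  have h4 : b * b = 1 := by
    nth_rewrite 2 [h3]; exact mul_inv_cancel b
  have hbp : b ^ p = 1 := D.pow b (hBE hb)
  have h5 : b = 1 := by
    have h6 : orderOf b ∣ 2 := orderOf_dvd_of_pow_eq_one (by rw [pow_two]; exact h4)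
    have h7 : orderOf b ∣ p := orderOf_dvd_of_pow_eq_one hbp
    have h8 : Nat.Coprime 2 p := by
      rw [Nat.coprime_primes Nat.prime_two hp.out]
      have := D.hp
      omega
    exact orderOf_eq_one_iff.1 (Nat.eq_one_of_dvd_coprimes h8 h6 h7)
  rw [← hwb, h5, mul_one]
  exact hw

/-- `γ` acts trivially on `N_S(E)/W` -/
theorem mem_W (D : Dat S p n F E) (H : Tau S p F E C τ W B) {γ : MulAut (normalizerIn S E)}
    (h2 : γ * γ = 1)
    (hx : ∀ (x : E) (hx : (x : Ω) ∈ normalizerIn S E), ((γ ⟨x, hx⟩ : normalizerIn S E) : Ω) = τ x)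
    (x : normalizerIn S E) : (x : Ω)⁻¹ * ((γ x : normalizerIn S E) : Ω) ∈ W := by
  have hES : E ≤ S := D.ess.1.1
  have hEN : E ≤ normalizerIn S E := le_normalizerIn hES
  have hBE : B ≤ E := H.BC.trans H.CE
  have hxS : (x : Ω) ∈ S := x.2.1
  have hxN : (x : Ω) ∈ normalizer (E : Set Ω) := x.2.2
  have hgS : ((γ x : normalizerIn S E) : Ω) ∈ S := (γ x).2.1
  have hgN : ((γ x : normalizerIn S E) : Ω) ∈ normalizer (E : Set Ω) := (γ x).2.2
  have hW : W ≤ centralizer ({(x : Ω)⁻¹ * ((γ x : normalizerIn S E) : Ω)} : Set Ω) := by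
    intro w hw
    have hwE : w ∈ E := H.WE hw
    rw [mem_centralizer_singleton_iff]
    have h3 := H.com w hwE x hxS hxN
    -- `γ` inverts `x w x⁻¹ w⁻¹`
    have h4E : (x : Ω) * w * (x : Ω)⁻¹ * w⁻¹ ∈ E := H.WE h3.1
    have h4 := hx ⟨_, h4E⟩ (hEN h4E)
    rw [H.inv ⟨_, h4E⟩ h3.1] at h4
    have h5 : (⟨(x : Ω) * w * (x : Ω)⁻¹ * w⁻¹, hEN h4E⟩ : normalizerIn S E) =
        x * ⟨w, hEN hwE⟩ * x⁻¹ * (⟨w, hEN hwE⟩)⁻¹ := rfl
    rw [h5, map_mul, map_mul, map_mul, map_inv, map_inv] at h4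
    have h6 := hx ⟨w, hwE⟩ (hEN hwE)
    rw [H.inv ⟨w, hwE⟩ hw] at h6
    have h7 : ((γ ⟨w, hEN hwE⟩ : normalizerIn S E) : Ω) = w⁻¹ := h6
    have h8 : ((γ x : normalizerIn S E) : Ω) * w⁻¹ * ((γ x : normalizerIn S E) : Ω)⁻¹ * w =
        ((x : Ω) * w * (x : Ω)⁻¹ * w⁻¹)⁻¹ := by
      have h9 : ((γ x * γ ⟨w, hEN hwE⟩ * (γ x)⁻¹ * (γ ⟨w, hEN hwE⟩)⁻¹ : normalizerIn S E) : Ω) =
        ((γ x : normalizerIn S E) : Ω) * w⁻¹ * ((γ x : normalizerIn S E) : Ω)⁻¹ * w := by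
        rw [Subgroup.coe_mul, Subgroup.coe_mul, Subgroup.coe_mul, Subgroup.coe_inv, Subgroup.coe_inv, h7, inv_inv]
      rw [← h9]
      exact h4
    set g : Ω := ((γ x : normalizerIn S E) : Ω) with hg
    set y : Ω := (x : Ω) with hy
    have hgw : g * w * g⁻¹ ∈ E := (mem_normalizer_iff.1 hgN w).1 hwE
    have hyw : y * w * y⁻¹ ∈ E := (mem_normalizer_iff.1 hxN w).1 hwE
    -- compare
    have h10 : (g * w * g⁻¹)⁻¹ * w = w * (y * w * y⁻¹)⁻¹ := by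
      have e1 : (g * w * g⁻¹)⁻¹ * w = g * w⁻¹ * g⁻¹ * w := by group
      have e2 : w * (y * w * y⁻¹)⁻¹ = (y * w * y⁻¹ * w⁻¹)⁻¹ := by group
      rw [e1, e2, h8]
    rw [D.comm w hwE _ (inv_mem hyw)] at h10
    have h11 : (g * w * g⁻¹)⁻¹ = (y * w * y⁻¹)⁻¹ := mul_right_cancel h10
    have h12 : g * w * g⁻¹ = y * w * y⁻¹ := inv_injective h11
    calc w * (y⁻¹ * g) = y⁻¹ * (y * w * y⁻¹) * g := by group
      _ = y⁻¹ * (g * w * g⁻¹) * g := by rw [h12]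
      _ = y⁻¹ * g * w := by group
  have hB : B ≤ centralizer ({(x : Ω)⁻¹ * ((γ x : normalizerIn S E) : Ω)} : Set Ω) := by
    intro b hb
    rw [mem_centralizer_singleton_iff]
    have h3 := H.cen x hxS hxN b (H.BC hb)
    have h4 := H.cen _ hgS hgN b (H.BC hb)
    set g : Ω := ((γ x : normalizerIn S E) : Ω) with hg
    set y : Ω := (x : Ω) with hy
    have h5 : b * y⁻¹ = y⁻¹ * b := by
      calc b * y⁻¹ = y⁻¹ * (y * b) * y⁻¹ := by group
        _ = _ := by rw [h3]; group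
    calc b * (y⁻¹ * g) = b * y⁻¹ * g := by group
      _ = y⁻¹ * (b * g) := by rw [h5]; group
      _ = _ := by rw [← h4]; group
  have hE : E ≤ centralizer ({(x : Ω)⁻¹ * ((γ x : normalizerIn S E) : Ω)} : Set Ω) := by
    conv_lhs => rw [← H.sup]
    exact sup_le hW hB
  have hcE : (x : Ω)⁻¹ * ((γ x : normalizerIn S E) : Ω) ∈ E := by
    apply H57.Ess.centralizerIn_le_of_essential D.ess
    refine ⟨S.mul_mem (S.inv_mem hxS) hgS, ?_⟩
    show _ ∈ centralizer (E : Set Ω)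
    rw [mem_centralizer_iff]
    intro y hy
    exact (mem_centralizer_singleton_iff.1 (hE hy))
  apply mem_W_of_inv D H (c := ⟨_, hcE⟩)
  apply Subtype.ext
  rw [← hx ⟨_, hcE⟩ (hEN hcE)]
  have h5 : (⟨(x : Ω)⁻¹ * ((γ x : normalizerIn S E) : Ω), hEN hcE⟩ : normalizerIn S E) = x⁻¹ * γ x := rfl
  have h6 : γ (γ x) = x := by
    have := DFunLike.congr_fun h2 x
    exact this
  rw [h5, map_mul, map_inv, h6]
  change ((γ x)⁻¹ * x : normalizerIn S E) = ((x : Ω)⁻¹ * ((γ x : normalizerIn S E) : Ω))⁻¹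
  rw [mul_inv_rev, inv_inv]
  rfl

end H81.MXC
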