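import Cfsg.Agent.Lib.H81.MXSig

/-!
# S5316: the final contradictions FB and F5
-/

set_option autoImplicit false
set_option linter.unusedSectionVars false
set_option linter.unusedVariables false

open Subgroup Cfsg Cfsg.FusionSystem H67.HallPetrescu H57.Mc H89.MX H81.MXSig
open H86.FusBasic H86.FusSat
open scoped commutatorElement

namespace H81.MXFB

variable {Ω : Type*} [Group Ω] {S : Subgroup Ω} [Finite S] {p n : ℕ} [hp : Fact p.Prime]
  {F : FusionSystem S} {E C W B : Subgroup Ω} {τ : MulAut E}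

theorem exists_ne_comm (D : Dat S p n F E) {x : Ω} (hxS : x ∈ S) (hx : x ∉ E) :
    ∃ e ∈ E, x * e * x⁻¹ * e⁻¹ ≠ 1 := by
  by_contra hcon
  push Not at hcon
  apply hx
  apply H57.Ess.centralizerIn_le_of_essential D.ess
  refine ⟨hxS, ?_⟩
  show _ ∈ centralizer (E : Set Ω)
  rw [mem_centralizer_iff]
  intro e he
  have h1 := hcon e he
  have h2 : x * e = e * x := by
    calc x * e = (x * e * x⁻¹ * e⁻¹) * e * x := by group
      _ = e * x := by rw [h1, one_mul]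
  exact h2.symm

theorem finB_core (D : Dat S p 6 F E) (h2 : ¬ K S 4 ≤ E) (h1 : K S 5 ≤ E)
    (h3 : K S 3 ≤ normalizer (E : Set Ω)) (H : Tau S p F E (E ⊓ K S 3) τ W B)
    (FE : FlagExt F p)
    (X : ∃ γ ∈ F.autGroup (normalizerIn S E), γ * γ = 1 ∧
      ∀ (x : E) (hx : (x : Ω) ∈ normalizerIn S E), ((γ ⟨x, hx⟩ : normalizerIn S E) : Ω) = τ x)
    (Q : ∀ {γ : MulAut (normalizerIn S E)} (hγ : γ ∈ F.autGroup (normalizerIn S E)),
      ∀ x : normalizerIn S E, (x : Ω) ∈ K S 3 → ((γ x : normalizerIn S E) : Ω) ∈ K S 3)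
    (EV : ∀ (σ : MulAut S) {a b c : ℤ} (ha : a = 1 ∨ a = -1) (hb : b = 1 ∨ b = -1) (hc : c = 1 ∨ c = -1)
      (h1 : ∀ z ∈ lcsF S 5, σ z = z ^ a) (h2 : ∀ z ∈ lcsF S 4, z ^ (-b) * σ z ∈ lcsF S 5)
      (h3 : ∀ z ∈ lcsF S 3, z ^ (-c) * σ z ∈ lcsF S 4), a = b * c) : False := by
  have hES : E ≤ S := D.ess.1.1
  obtain ⟨γ, hγ, hγ2, hγx⟩ := X
  -- `K S 5 = W ⊓ C`
  obtain ⟨x, hx4, hxE⟩ := SetLike.not_le_iff_exists.1 h2
  have hxS : x ∈ S := K_le S 4 hx4
  obtain ⟨e, he, hne⟩ := exists_ne_comm D hxS hxE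
  have hxN : x ∈ normalizer (E : Set Ω) := h3 (K_mono (by omega : 3 ≤ 4) hx4)
  have hV := H.com e he x hxS hxN
  have h5 : x * e * x⁻¹ * e⁻¹ ∈ K S 5 := comm_K hx4 (hES he)
  have hc5 : Nat.card (K S 5) = p := by
    rw [card_K D (by omega) (by omega), show 6 - 5 = 1 by omega, pow_one]
  have hK5 : K S 5 = W ⊓ (E ⊓ K S 3) := eq_of_common hc5 H.cardV hne h5 hV
  obtain ⟨σ, hσ1, hσ2⟩ := get_sigma (m := 3) rfl D H FE hγ hγ2 hγx h3 (Q hγ) le_rfl
    (by rw [← hK5]; exact K_mono (by omega)) h1 (by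
      intro v hv
      have hvW : (v : Ω) ∈ W := by
        have h6 : (v : Ω) ∈ K S 5 := hv
        rw [hK5] at h6
        exact h6.1
      rw [H.inv v hvW]
      exact (K S (3 + 2)).inv_mem hv)
  have h7 := EV σ (a := -1) (b := 1) (c := 1) (Or.inr rfl) (Or.inl rfl) (Or.inl rfl) (by
      intro z hz
      have hzK : (z : Ω) ∈ K S 5 := mem_K.2 hz
      have hzE : (z : Ω) ∈ E := h1 hzK
      have hzW : (z : Ω) ∈ W := by
        rw [hK5] at hzK
        exact hzK.1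
      apply Subtype.ext
      rw [hσ2 z hzE (K_anti (by omega : 3 ≤ 5) hz), H.inv ⟨z, hzE⟩ hzW, zpow_neg_one]
      rfl) (by
      intro z hz
      have h8 := hσ1 z (K_anti (by omega : 3 ≤ 4) hz)
      rw [← hK5, mem_K] at h8
      rw [zpow_neg_one]
      exact h8) (by
      intro z hz
      have h8 := hσ1 z hz
      rw [← hK5, mem_K] at h8
      rw [zpow_neg_one]
      exact K_anti (by omega : 4 ≤ 5) h8)
  norm_num at h7

theorem fin5_core (D : Dat S p 5 F E) (h2 : K S 3 ≤ E) (H : Tau S p F E (K S 3) τ W B)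
    (FE : FlagExt F p)
    (X : ∃ γ ∈ F.autGroup (normalizerIn S E), γ * γ = 1 ∧
      ∀ (x : E) (hx : (x : Ω) ∈ normalizerIn S E), ((γ ⟨x, hx⟩ : normalizerIn S E) : Ω) = τ x)
    (Q : ∀ (h3 : K S 2 ≤ normalizer (E : Set Ω)) {γ : MulAut (normalizerIn S E)} (hγ : γ ∈ F.autGroup (normalizerIn S E)),
      ∀ x : normalizerIn S E, (x : Ω) ∈ K S 2 → ((γ x : normalizerIn S E) : Ω) ∈ K S 2)
    (PAR : ¬ TC ↥S 2 ≤ TC ↥S 3 → Even 5)
    (EV5 : ∀ (σ : MulAut S) {a b c : ℤ} (ha : a = 1 ∨ a = -1) (hb : b = 1 ∨ b = -1) (hc : c = 1 ∨ c = -1)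
      (h1 : ∀ z ∈ lcsF S 4, σ z = z ^ a) (h2 : ∀ z ∈ lcsF S 3, z ^ (-b) * σ z ∈ lcsF S 4)
      (h3 : ∀ z ∈ lcsF S 2, z ^ (-c) * σ z ∈ lcsF S 3), a = c) : False := by
  have hES : E ≤ S := D.ess.1.1
  obtain ⟨γ, hγ, hγ2, hγx⟩ := X
  -- `γ₂` normalizes `E`
  have h3 : K S 2 ≤ normalizer (E : Set Ω) := by
    have key : ∀ g ∈ K S 2, ∀ e ∈ E, g * e * g⁻¹ ∈ E := by
      intro g hg e he
      have h4 : g * e * g⁻¹ * e⁻¹ ∈ K S 3 := comm_K hg (hES he)
      have h5 := E.mul_mem (h2 h4) he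
      rwa [inv_mul_cancel_right] at h5
    intro g hg
    rw [mem_normalizer_iff]
    intro e
    constructor
    · exact key g hg e
    · intro h
      have h4 := key g⁻¹ ((K S 2).inv_mem hg) _ h
      have h5 : g⁻¹ * (g * e * g⁻¹) * g⁻¹⁻¹ = e := by group
      rwa [h5] at h4
  have hcS : Nat.card S = p ^ 5 := D.mc.card
  have hp1 : 1 < p := hp.out.one_lt
  -- `E ≠ γ₂`
  have hEK : ¬ E = K S 2 := by
    intro h
    have h4 : normalizerIn S E = S := by
      apply le_antisymm inf_le_left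
      refine le_inf le_rfl ?_
      rw [h]
      intro g hg
      rw [mem_normalizer_iff]
      intro y
      constructor
      · exact fun hy => K_conj hg hy
      · intro hy
        have h5 := K_conj (S.inv_mem hg) hy
        have h6 : g⁻¹ * (g * y * g⁻¹) * g⁻¹⁻¹ = y := by group
        rwa [h6] at h5
    have h5 := H.cardN
    rw [h4, hcS] at h5
    have := Nat.pow_right_injective hp.out.two_le h5
    omega
  have hc2 : Nat.card (K S 2) = p ^ 3 := card_K D (by omega) (by omega)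
  have hfE : Finite E := finite_of_le hES
  have hfK : Finite (K S 2) := finite_of_le (K_le S 2)
  have h2E : ¬ K S 2 ≤ E := by
    intro h
    exact hEK (eq_of_le_of_card_ge h (by rw [hc2, D.card])).symm
  have hfi : Finite (E ⊓ K S 2 : Subgroup Ω) := finite_of_le (inf_le_left.trans hES)
  -- `E ∩ γ₂ = γ₃`
  have hEC : E ⊓ K S 2 ≤ K S 3 := by
    have h4 : K S 3 ≤ E ⊓ K S 2 := le_inf h2 (K_mono (by omega))
    have h5 : Nat.card (K S 3) = p ^ 2 := card_K D (by omega) (by omega)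
    have h6 : Nat.card (E ⊓ K S 2 : Subgroup Ω) ∣ p ^ 3 := by
      rw [← hc2]; exact card_dvd_of_le inf_le_right
    obtain ⟨k, hk3, hk⟩ := (Nat.dvd_prime_pow hp.out).1 h6
    have hk2 : k ≠ 3 := by
      rintro rfl
      apply h2E
      have h7 : E ⊓ K S 2 = K S 2 := eq_of_le_of_card_ge inf_le_right (by rw [hk, hc2])
      rw [← h7]; exact inf_le_left
    have h8 : Nat.card (E ⊓ K S 2 : Subgroup Ω) ≤ Nat.card (K S 3) := by
      rw [hk, h5]
      exact Nat.pow_le_pow_right hp.out.pos (by omega)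
    exact (eq_of_le_of_card_ge h4 h8).ge
  -- `K S 4 = W ⊓ C`
  obtain ⟨x, hx2, hxE⟩ := SetLike.not_le_iff_exists.1 h2E
  have hxS : x ∈ S := K_le S 2 hx2
  obtain ⟨e, he, hne⟩ := exists_ne_comm D hxS hxE
  have hV := H.com e he x hxS (h3 hx2)
  have hTC : TC ↥S 3 ≤ TC ↥S 2 := by
    have h4 : TC ↥S 2 ≤ TC ↥S 3 := by
      by_contra h
      exact absurd (PAR h) (by decide)
    exact (D.mc.TC_eq (by omega) (by omega) h4).le
  have heT : (⟨e, hES he⟩ : S) ∈ TC ↥S 3 := by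
    rw [mem_TC]
    intro y hy
    have h4 : (y : Ω) ∈ E := h2 (mem_K.2 hy)
    have h5 : ⁅y, (⟨e, hES he⟩ : S)⁆ = 1 := by
      rw [commutatorElement_eq_one_iff_mul_comm]
      exact Subtype.ext (D.comm _ h4 _ he)
    rw [h5]
    exact one_mem _
  have h4K : x * e * x⁻¹ * e⁻¹ ∈ K S 4 := by
    have h4 := mem_TC.1 (hTC heT) ⟨x, hxS⟩ (mem_K.1 hx2)
    exact mem_K.2 h4
  have hc4 : Nat.card (K S 4) = p := by
    rw [card_K D (by omega) (by omega), show 5 - 4 = 1 by omega, pow_one]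
  have hK4 : K S 4 = W ⊓ K S 3 := eq_of_common hc4 H.cardV hne h4K hV
  have h41 : K S 4 ≤ E := (K_mono (by omega : 3 ≤ 4)).trans h2
  obtain ⟨σ, hσ1, hσ2⟩ := get_sigma (m := 2) rfl D H FE hγ hγ2 hγx h3 (Q h3 hγ) hEC
    inf_le_right h41 (by
      intro v hv
      have hvW : (v : Ω) ∈ W := by
        have h6 : (v : Ω) ∈ K S 4 := hv
        rw [hK4] at h6
        exact h6.1
      rw [H.inv v hvW]
      exact (K S (2 + 2)).inv_mem hv)
  have h7 := EV5 σ (a := -1) (b := 1) (c := 1) (Or.inr rfl) (Or.inl rfl) (Or.inl rfl) (by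
      intro z hz
      have hzK : (z : Ω) ∈ K S 4 := mem_K.2 hz
      have hzE : (z : Ω) ∈ E := h41 hzK
      have hzW : (z : Ω) ∈ W := by
        rw [hK4] at hzK
        exact hzK.1
      apply Subtype.ext
      rw [hσ2 z hzE (K_anti (by omega : 2 ≤ 4) hz), H.inv ⟨z, hzE⟩ hzW, zpow_neg_one]
      rfl) (by
      intro z hz
      have h8 := hσ1 z (K_anti (by omega : 2 ≤ 3) hz)
      rw [← hK4, mem_K] at h8
      rw [zpow_neg_one]
      exact h8) (by
      intro z hz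
      have h8 := hσ1 z hz
      rw [← hK4, mem_K] at h8
      rw [zpow_neg_one]
      exact K_anti (by omega : 3 ≤ 4) h8)
  norm_num at h7

end H81.MXFB
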