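import Cfsg.Agent.Lib.H81.MXFB
import Cfsg.Agent.Lib.H21.MXFE
import Cfsg.Agent.Lib.H84.MXX
import Cfsg.Agent.Lib.H91.MXEV
import Cfsg.Agent.Lib.H26.MXQ

/-!
# S5316: pieces FB and F5
-/

set_option autoImplicit false
set_option linter.unusedSectionVars false
set_option linter.unusedVariables false

open Subgroup Cfsg Cfsg.FusionSystem H67.HallPetrescu H57.Mc H89.MX

namespace H81.MXFin

variable {Ω : Type*} [Group Ω] {S : Subgroup Ω} [Finite S] {p n : ℕ} [hp : Fact p.Prime] {F : FusionSystem S} {E C W B : Subgroup Ω} {τ : MulAut E}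

theorem flagExt (D : Dat S p n F E) : H81.MXSig.FlagExt F p :=
  fun h3 h23 h12 n3 n2 n1 c3 c2 c1 _ hφ f2 f1 =>
    H21.MXFE.flag_ext D.mc.isPGroup D.sat h3 h23 h12 n3 n2 n1 c3 c2 c1 hφ f2 f1

theorem finB (D : Dat S p 6 F E) (hex : ¬ TC ↥S 2 ≤ TC ↥S 4) (h2 : ¬ K S 4 ≤ E) (h1 : K S 5 ≤ E)
    (h3 : K S 3 ≤ normalizer (E : Set Ω)) (H : Tau S p F E (E ⊓ K S 3) τ W B) : False :=
  H81.MXFB.finB_core D h2 h1 h3 H (flagExt D) (H84.MXX.ext D H)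
    (fun {_} hγ => H26.MXQ.invK3 D H.cardN h3 hγ)
    (fun σ {_ _ _} ha hb hc h1 h2 h3 => H91.MXEV.eig D.mc D.hp le_rfl hex σ ha hb hc h1 h2 h3)

theorem fin5 (D : Dat S p 5 F E) (h2 : K S 3 ≤ E) (H : Tau S p F E (K S 3) τ W B) : False :=
  H81.MXFB.fin5_core D h2 H (flagExt D) (H84.MXX.ext D H)
    (fun h3 {_} hγ => H26.MXQ.invK3 D H.cardN h3 hγ)
    (fun h => H91.MXEV.even_of_exc D.mc D.hp le_rfl h)
    (fun σ {_ _ _} ha hb hc h1 h2 h3 => H91.MXEV.eig5 D.mc D.hp σ ha hb hc h1 h2 h3)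

end H81.MXFin
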