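import Cfsg.Agent.Lib.H81.MXC

/-!
# S5316: extension of `γ` to `S`
-/

set_option autoImplicit false
set_option linter.unusedSectionVars false
set_option linter.unusedVariables false

open Subgroup Cfsg Cfsg.FusionSystem H67.HallPetrescu H57.Mc H89.MX
open H86.FusBasic H86.FusSat

namespace H81.MXSig

variable {Ω : Type*} [Group Ω] {S : Subgroup Ω} [Finite S] {p n : ℕ} [hp : Fact p.Prime]
  {F : FusionSystem S} {E C W B : Subgroup Ω} {τ : MulAut E}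

theorem K_le (S : Subgroup Ω) (i : ℕ) : K S i ≤ S := map_subtype_le _

theorem mem_K {z : S} {i : ℕ} : (z : Ω) ∈ K S i ↔ z ∈ lcsF ↥S i := by
  constructor
  · rintro ⟨y, hy, hyz⟩
    have : y = z := Subtype.ext hyz
    rwa [← this]
  · intro h
    exact ⟨z, h, rfl⟩

theorem K_conj {g v : Ω} {i : ℕ} (hg : g ∈ S) (hv : v ∈ K S i) : g * v * g⁻¹ ∈ K S i := by
  obtain ⟨y, hy, rfl⟩ := hv
  exact ⟨⟨g, hg⟩ * y * ⟨g, hg⟩⁻¹, (normalK i).conj_mem y hy ⟨g, hg⟩, rfl⟩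

theorem K_mono {i j : ℕ} (h : i ≤ j) : K S j ≤ K S i := map_mono (K_anti h)

theorem card_K (D : Dat S p n F E) {i : ℕ} (h2 : 2 ≤ i) (hi : i ≤ n) : Nat.card (K S i) = p ^ (n - i) := by
  rw [← D.mc.cardK i h2 hi]
  exact (Nat.card_congr ((lcsF ↥S i).equivMapOfInjective S.subtype S.subtype_injective).toEquiv).symm

theorem comm_K {i : ℕ} {x g : Ω} (hx : x ∈ K S i) (hg : g ∈ S) : x * g * x⁻¹ * g⁻¹ ∈ K S (i + 1) := by
  obtain ⟨y, hy, rfl⟩ := hx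
  exact ⟨_, comm_memK' hy ⟨g, hg⟩, rfl⟩

/-- flag extension -/
def FlagExt (F : FusionSystem S) (p : ℕ) : Prop :=
  ∀ {V3 V2 V1 : Subgroup Ω} (h3 : V3 ≤ S)
    (h23 : V2 ≤ V3) (h12 : V1 ≤ V2) (n3 : ∀ g ∈ S, ∀ v ∈ V3, g * v * g⁻¹ ∈ V3)
    (n2 : ∀ g ∈ S, ∀ v ∈ V2, g * v * g⁻¹ ∈ V2) (n1 : ∀ g ∈ S, ∀ v ∈ V1, g * v * g⁻¹ ∈ V1)
    (c3 : Nat.card V3 = p ^ 3) (c2 : Nat.card V2 = p ^ 2) (c1 : Nat.card V1 = p)
    {φ : MulAut V3} (hφ : φ ∈ F.autGroup V3) (f2 : ∀ v : V3, (v : Ω) ∈ V2 → ((φ v : V3) : Ω) ∈ V2)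
    (f1 : ∀ v : V3, (v : Ω) ∈ V1 → ((φ v : V3) : Ω) ∈ V1),
    ∃ σ ∈ F.autGroup S, ∀ v : V3, ((σ ⟨v, h3 v.2⟩ : S) : Ω) = φ v

theorem get_sigma {m : ℕ} (hm : n = m + 3) (D : Dat S p n F E) (H : Tau S p F E C τ W B)
    (FE : FlagExt F p)
    {γ : MulAut (normalizerIn S E)} (hγ : γ ∈ F.autGroup (normalizerIn S E)) (h2 : γ * γ = 1)
    (hx : ∀ (x : E) (hx : (x : Ω) ∈ normalizerIn S E), ((γ ⟨x, hx⟩ : normalizerIn S E) : Ω) = τ x)
    (hKN : K S m ≤ normalizer (E : Set Ω))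
    (Q : ∀ x : normalizerIn S E, (x : Ω) ∈ K S m → ((γ x : normalizerIn S E) : Ω) ∈ K S m)
    (hEC : E ⊓ K S m ≤ C) (hVK : W ⊓ C ≤ K S (m + 1)) (hK1 : K S (m + 2) ≤ E)
    (ht : ∀ v : E, (v : Ω) ∈ K S (m + 2) → ((τ v : E) : Ω) ∈ K S (m + 2)) :
    ∃ σ : MulAut S, (∀ z : S, z ∈ lcsF ↥S m → ((z⁻¹ * σ z : S) : Ω) ∈ W ⊓ C) ∧
      ∀ (z : S) (hz : (z : Ω) ∈ E), z ∈ lcsF ↥S m → ((σ z : S) : Ω) = τ ⟨z, hz⟩ := by
  have hn := D.hn
  have hES : E ≤ S := D.ess.1.1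
  have hEN : E ≤ normalizerIn S E := le_normalizerIn hES
  have hKN' : K S m ≤ normalizerIn S E := le_inf (K_le S m) hKN
  obtain ⟨φ, hφ, hφx⟩ := H81.MXC.restrict_aut hKN' hγ inf_le_left Q
  have key : ∀ v : K S m, (v : Ω)⁻¹ * ((φ v : K S m) : Ω) ∈ W ⊓ C := by
    intro v
    have h3 := H81.MXC.mem_W D H h2 hx ⟨v, hKN' v.2⟩
    rw [← hφx v] at h3
    exact ⟨h3, hEC ⟨H.WE h3, (K S m).mul_mem ((K S m).inv_mem v.2) (φ v).2⟩⟩
  have hE : ∀ v : K S m, ∀ hv : (v : Ω) ∈ E, ((φ v : K S m) : Ω) = τ ⟨v, hv⟩ := by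
    intro v hv
    rw [hφx v]
    exact hx ⟨v, hv⟩ (hKN' v.2)
  obtain ⟨σ, -, hσ⟩ := FE (K_le S m) (K_mono (by omega : m ≤ m + 1)) (K_mono (by omega : m + 1 ≤ m + 2))
    (fun g hg v hv => K_conj hg hv) (fun g hg v hv => K_conj hg hv) (fun g hg v hv => K_conj hg hv)
    (by rw [card_K D (by omega) (by omega)]; congr 1; omega)
    (by rw [card_K D (by omega) (by omega)]; congr 1; omega)
    (by rw [card_K D (by omega) (by omega), show n - (m + 2) = 1 by omega, pow_one]) hφ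
    (fun v hv => by
      have h3 := mul_mem hv (hVK (key v))
      rwa [mul_inv_cancel_left] at h3)
    (fun v hv => by
      rw [hE v (hK1 hv)]
      exact ht ⟨v, hK1 hv⟩ hv)
  refine ⟨σ, ?_, ?_⟩
  · intro z hz
    have hzK : (z : Ω) ∈ K S m := mem_K.2 hz
    have h3 := key ⟨z, hzK⟩
    rw [← hσ ⟨z, hzK⟩] at h3
    exact h3
  · intro z hz hzm
    have hzK : (z : Ω) ∈ K S m := mem_K.2 hzm
    have h3 := hσ ⟨z, hzK⟩
    rw [hE ⟨z, hzK⟩ hz] at h3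
    exact h3

/-- two subgroups of order `p` with a common non-trivial element -/
theorem eq_of_common {A D : Subgroup Ω} (hA : Nat.card A = p) (hD : Nat.card D = p) {x : Ω} (hx : x ≠ 1)
    (hxA : x ∈ A) (hxD : x ∈ D) : A = D := by
  have hfA : Finite A := Nat.finite_of_card_ne_zero (by rw [hA]; exact hp.out.ne_zero)
  have hfD : Finite D := Nat.finite_of_card_ne_zero (by rw [hD]; exact hp.out.ne_zero)
  have h1 : Nat.card (A ⊓ D : Subgroup Ω) ∣ p := by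
    rw [← hA]; exact card_dvd_of_le inf_le_left
  have h2 : Nat.card (A ⊓ D : Subgroup Ω) ≠ 1 := by
    intro h
    rw [Subgroup.card_eq_one] at h
    have : x ∈ A ⊓ D := ⟨hxA, hxD⟩
    rw [h, mem_bot] at this
    exact hx this
  have h3 : Nat.card (A ⊓ D : Subgroup Ω) = p := ((Nat.dvd_prime hp.out).1 h1).resolve_left h2
  have h4 : A ⊓ D = A := eq_of_le_of_card_ge inf_le_left (by rw [h3, hA])
  have h5 : A ⊓ D = D := eq_of_le_of_card_ge inf_le_right (by rw [h3, hD])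
  rw [← h4, h5]

end H81.MXSig
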