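import Mathlib
import Cfsg.Prelude.Def_Blocks
import Cfsg.Agent.Lib.H20.NormQ
import Cfsg.Agent.Lib.H19.PSolv
import Cfsg.Agent.Lib.H81.DegNormal

/-!
# The principal block of a p-solvable group (H81.PrincPSolv)
-/

set_option autoImplicit false
set_option linter.unusedSectionVars false
set_option linter.unusedVariables false
open Cfsg H20.Loc H20.Blk H20.NormQ H81.DegNormal
open scoped ComplexConjugate

namespace H81.PrincPSolv

universe u
variable {G : Type u} [Group G] [Finite G] {p : ℕ} {M : Ideal AlgInt}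

/-- characters in the principal block are trivial on `O_{p'}(G)` -/
theorem trivial_on_core [Fact p.Prime] (hM : IsPModular p M) {χ : IrrCharacter G}
    (hχ : χ ∈ principalBlock M G) : ∀ n ∈ pPrimeCore p G, (χ : G → ℂ) n = (χ : G → ℂ) 1 := by
  have hn : ¬ p ∣ Nat.card (pPrimeCore p G) := by
    have h1 := H1.Cores.coprime_card_pPrimeCore (G := G) p
    exact (Nat.Prime.coprime_iff_not_dvd (Fact.out : p.Prime)).1 h1.symm
  have h0 : SameBlock M ((H81.DegreeCount.oneIrr G : IrrCharacter G) : G → ℂ) (χ : G → ℂ) := hχ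
  exact trivial_of_sameBlock (pPrimeCore p G) hM hn h0 (fun n _ => rfl)

/-- for `p`-solvable groups the principal block consists of the characters of `G/O_{p'}(G)` -/
theorem mem_principal_iff [Fact p.Prime] (hM : IsPModular p M) (hsolv : IsPSolvable p G)
    (χ : IrrCharacter G) :
    χ ∈ principalBlock M G ↔ ∀ n ∈ pPrimeCore p G, (χ : G → ℂ) n = (χ : G → ℂ) 1 := by
  have hMp := pm_isPrime hM
  constructor
  · exact trivial_on_core hM
  · intro h
    obtain ⟨χb, rfl⟩ := exists_infl (pPrimeCore p G) h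
    have h1 : SameBlock M ((H81.DegreeCount.oneIrr (G ⧸ pPrimeCore p G) :
        IrrCharacter (G ⧸ pPrimeCore p G)) : G ⧸ pPrimeCore p G → ℂ)
        (χb : G ⧸ pPrimeCore p G → ℂ) := by
      have hn : (pCore p (G ⧸ pPrimeCore p G)).Normal := H1.Cores.pCore_normal p
      exact H19.PSolv.sameBlock_of_centralizer_le hM _ (H1.Cores.isPGroup_pCore p)
        (H19.PSolv.centralizer_pCore_le (H37.PSolv.quotient hsolv _)
          (H1.Cores.pPrimeCore_quotient_pPrimeCore p)) _ _
    exact sameBlock_infl (pPrimeCore p G) hM h1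

/-- all heights in the principal block are zero iff all its degrees are prime to `p` -/
theorem height_zero_iff [Fact p.Prime] (hM : IsPModular p M) :
    (∀ χ ∈ principalBlock M G, blockHeight p (principalBlock M G) (χ : G → ℂ) = 0) ↔
      ∀ χ ∈ principalBlock M G, ¬ p ∣ charDegree (χ : G → ℂ) := by
  have hMp := pm_isPrime hM
  have h1 : sInf ((fun ψ : IrrCharacter G => (charDegree (ψ : G → ℂ)).factorization p) ''
      (principalBlock M G)) = 0 := by
    apply Nat.sInf_eq_zero.2
    left
    refine ⟨H81.DegreeCount.oneIrr G, sameBlock_refl _, ?_⟩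
    have h2 : charDegree ((H81.DegreeCount.oneIrr G : IrrCharacter G) : G → ℂ) = 1 :=
      H81.DegreeCount.charDegree_one
    simp only [h2, Nat.factorization_one]; rfl
  refine forall₂_congr fun χ hχ => ?_
  rw [blockHeight, h1, Nat.sub_zero]
  constructor
  · intro h hd
    have h2 := (Nat.Prime.dvd_iff_one_le_factorization (Fact.out : p.Prime)
      (H81.DegreeCount.charDegree_pos χ).ne').1 hd
    omega
  · intro h
    exact Nat.factorization_eq_zero_of_not_dvd h

/-- p-solvable: `P` abelian iff all degrees of `G/O_{p'}(G)` are prime to `p`. -/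
theorem comm_iff_noDeg [hp : Fact p.Prime] (hsolv : IsPSolvable p G) (P : Sylow p G) :
    IsMulCommutative P ↔ NoDeg p (G ⧸ pPrimeCore p G) := by
  set N := pPrimeCore p G with hN
  let P' : Sylow p (G ⧸ N) := P.mapSurjective (QuotientGroup.mk'_surjective N)
  let φ : P →* P' := (QuotientGroup.mk' N).subgroupMap (P : Subgroup G)
  have hφs : Function.Surjective φ := (QuotientGroup.mk' N).subgroupMap_surjective _
  have hφi : Function.Injective φ := by
    rw [injective_iff_map_eq_one]
    intro x hx
    have h1 : ((x : G) : G ⧸ N) = 1 := congrArg Subtype.val hx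
    have h2 : (x : G) ∈ N ⊓ (P : Subgroup G) := ⟨(QuotientGroup.eq_one_iff _).1 h1, x.2⟩
    have h3 : N ⊓ (P : Subgroup G) = ⊥ := by
      have h2 := H1.Cores.coprime_card_pPrimeCore (G := G) p
      obtain ⟨k, hk⟩ := IsPGroup.iff_card.1 P.isPGroup'
      apply Disjoint.eq_bot
      apply Subgroup.disjoint_of_coprime_natCard
      rw [hk]
      exact Nat.Coprime.pow_right k h2
    rw [h3, Subgroup.mem_bot] at h2
    exact Subtype.ext h2
  have hsolv' : IsPSolvable p (G ⧸ N) := H37.PSolv.quotient hsolv _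
  rw [← ito_iff hsolv' P']
  constructor
  · intro hc
    have hc' : IsMulCommutative P' := by
      refine ⟨⟨fun a b => ?_⟩⟩
      obtain ⟨a, rfl⟩ := hφs a
      obtain ⟨b, rfl⟩ := hφs b
      have h1 : a * b = b * a := hc.is_comm.comm a b
      rw [← map_mul, ← map_mul, h1]
    refine ⟨?_, hc'⟩
    have h1 := H19.PSolv.centralizer_pCore_le hsolv' (H1.Cores.pPrimeCore_quotient_pPrimeCore p)
    have h2 : (P' : Subgroup (G ⧸ N)) ≤ pCore p (G ⧸ N) := by
      refine le_trans ?_ h1
      intro x hx
      rw [Subgroup.mem_centralizer_iff]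
      intro y hy
      have hy' : y ∈ (P' : Subgroup (G ⧸ N)) := H1.Cores.pCore_le_sylow P' hy
      exact congrArg Subtype.val (hc'.is_comm.comm ⟨y, hy'⟩ ⟨x, hx⟩)
    have h3 : (P' : Subgroup (G ⧸ N)) = pCore p (G ⧸ N) :=
      le_antisymm h2 (H1.Cores.pCore_le_sylow P')
    rw [h3]; infer_instance
  · rintro ⟨-, hc⟩
    refine ⟨⟨fun a b => ?_⟩⟩
    apply hφi
    rw [map_mul, map_mul]
    exact hc.is_comm.comm _ _

/-- S4736 -/
theorem height_zero_psolvable [hp : Fact p.Prime] (hM : IsPModular p M) (hsolv : IsPSolvable p G)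
    (P : Sylow p G) : IsMulCommutative P ↔
      ∀ χ ∈ principalBlock M G, blockHeight p (principalBlock M G) (χ : G → ℂ) = 0 := by
  rw [comm_iff_noDeg hsolv P, height_zero_iff hM]
  constructor
  · intro h χ hχ
    obtain ⟨χb, rfl⟩ := exists_infl (pPrimeCore p G) (trivial_on_core hM hχ)
    exact h χb
  · intro h χb
    exact h (infl (pPrimeCore p G) χb) ((mem_principal_iff hM hsolv _).2 (infl_trivial _ χb))

end H81.PrincPSolv
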